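import Cfsg.Agent.Lib.Fusion.OrderPFive.Pearl
import Mathlib.RingTheory.IntegralDomain
import Mathlib.FieldTheory.Finite.Basic

/-!
The torus of a pearl: its weights leave only the prime three, with an elementary pearl.
-/

set_option autoImplicit false
set_option linter.unusedSectionVars false

open scoped commutatorElement

namespace Cfsg.OrderPFive

open FusionSystem EssentialSmall

variable {Ω : Type*} [Group Ω] {S : Subgroup Ω} [Finite S] {p : ℕ} [Fact p.Prime] {F : FusionSystem S}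
  {E : Subgroup Ω} {x : S} {n : ℕ}

local notation "Z" => Subgroup.upperCentralSeries S

theorem exists_inverse_mod {b : ℤ} (hb : ¬ (p : ℤ) ∣ b) : ∃ a : ℤ, (p : ℤ) ∣ a * b - 1 := by
  obtain ⟨u, v, huv⟩ : IsCoprime b (p : ℤ) :=
    ((Nat.prime_iff_prime_int.mp Fact.out).coprime_iff_not_dvd.mpr hb).symm
  exact ⟨u, -v, by linear_combination huv⟩

theorem sub_one_dvd {m : ℕ} (h : ∀ b : ℤ, ¬ (p : ℤ) ∣ b → (p : ℤ) ∣ b ^ m - 1) : p - 1 ∣ m := by
  obtain ⟨u, hu⟩ := IsCyclic.exists_ofOrder_eq_natCard (α := (ZMod p)ˣ)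
  obtain ⟨b, hb⟩ := ZMod.intCast_surjective (u : ZMod p)
  have hnd : ¬ (p : ℤ) ∣ b := fun hd => u.ne_zero (by rw [← hb]; exact (ZMod.intCast_zmod_eq_zero_iff_dvd b p).mpr hd)
  have h1 := (ZMod.intCast_zmod_eq_zero_iff_dvd _ p).mpr (h b hnd)
  push_cast at h1
  rw [hb, sub_eq_zero] at h1
  have hpow : u ^ m = 1 := Units.ext (by push_cast; exact h1)
  have := orderOf_dvd_of_pow_eq_one hpow
  rwa [hu, Nat.card_eq_fintype_card, ZMod.card_units] at this

theorem pow_p_mem {K L : Subgroup S} [K.Normal] (hle : K ≤ L) (hc : Nat.card L = p * Nat.card K) {v : S} (hv : v ∈ L) :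
    v ^ p ∈ K := by
  haveI : (K.subgroupOf L).Normal := Subgroup.normal_subgroupOf
  have := (K.subgroupOf L).pow_index_mem ⟨v, hv⟩
  rw [show (K.subgroupOf L).index = p by
    have h := Quad.card_mul_relIndex hle
    rw [hc, mul_comm p] at h
    exact Nat.eq_of_mul_eq_mul_left Nat.card_pos h] at this
  exact this

theorem dvd_of_zpow_mem {K L : Subgroup S} [K.Normal] (hle : K ≤ L) (hc : Nat.card L = p * Nat.card K) {v : S}
    (hv : v ∈ L) (hvK : v ∉ K) {m : ℤ} (hm : v ^ m ∈ K) : (p : ℤ) ∣ m := by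
  by_contra hnd
  obtain ⟨u, w, huw⟩ : IsCoprime m (p : ℤ) :=
    ((Nat.prime_iff_prime_int.mp Fact.out).coprime_iff_not_dvd.mpr hnd).symm
  have h1 := K.mul_mem (K.zpow_mem hm u) (K.zpow_mem (pow_p_mem hle hc hv) w)
  rw [← zpow_natCast, ← zpow_mul, ← zpow_mul, ← zpow_add, show m * u + (p : ℤ) * w = 1 by linear_combination huw,
    zpow_one] at h1
  exact hvK h1

namespace Pearl

theorem comm_mem (h : H5 p F) (hP : Pearl p F E x n) (a b : E) : a⁻¹ * b⁻¹ * a * b ∈ pull (Z n) E := by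
  obtain ⟨-, k1, k2⟩ := hP.cards
  have hzl : Z (n + 1) ≤ cenMod (Z n) x := le_cenMod_of_step (K := Z n) x
  have key : ∀ v ∈ cenMod (Z n) x, ∀ w ∈ cenMod (Z n) x, ⁅w, v⁆ ∈ Z n := by
    intro v hv w hw
    have hlt : Z (n + 1) < cenMod (Z n) x ⊓ cenMod (Z n) v := lt_of_le_of_ne
      (le_inf hzl fun y hy => mem_cenMod.mpr (hy v)) fun e => hP.x_not_step (e.ge ⟨self_mem_cenMod, mem_cenMod.mpr (by
        rw [← commutatorElement_inv]; exact (Z n).inv_mem hv)⟩)
    have hb := Quad.lt_card_mul h.pg hlt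
    rw [k1, ← pow_succ] at hb
    exact ((Subgroup.eq_of_le_of_card_ge inf_le_left (k2.trans_le hb)).ge hw).2
  rw [mem_pull' hP.le]
  have hm := key ⟨((b⁻¹ : E) : Ω), hP.le (b⁻¹).2⟩ (mem_cenMod.mpr (hP.mem_E.mp (b⁻¹).2))
    ⟨((a⁻¹ : E) : Ω), hP.le (a⁻¹).2⟩ (mem_cenMod.mpr (hP.mem_E.mp (a⁻¹).2))
  convert hm using 1
  refine Subtype.ext ?_
  simp only [commutatorElement_def, Subgroup.coe_mul, Subgroup.coe_inv]
  group

/-- The torus at every automorphism moving the layer, its elements extending to `S`. -/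
theorem exists_torus_at (h : H5 p F) (hP : Pearl p F E x n) :
    ∃ k : E, k ∈ pull (Z (n + 1)) E ∧ k ∉ pull (Z n) E ∧
      (∀ v ∈ pull (Z (n + 1)) E, ∃ i : ℤ, (k ^ i)⁻¹ * v ∈ pull (Z n) E) ∧
      (∃ φ ∈ F.autGroup E, φ k ∉ pull (Z (n + 1)) E) ∧
      ∀ φ ∈ F.autGroup E, φ k ∉ pull (Z (n + 1)) E → ∀ a b : ℤ, (p : ℤ) ∣ a * b - 1 → ∃ τ ∈ F.autGroup E, Ext F τ ∧
        (k ^ a)⁻¹ * τ k ∈ pull (Z n) E ∧ ((φ k) ^ b)⁻¹ * τ (φ k) ∈ pull (Z n) E := by
  classical
  have hpp : p.Prime := Fact.out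
  haveI := finite_of_le hP.le
  obtain ⟨k0, k1, k2⟩ := hP.cards
  set N0 := pull (Z n) E with hN0
  set W := pull (Z (n + 1)) E with hW
  have hN0c : Nat.card N0 = p ^ n := (card_pull hP.base_le).trans k0
  have hWc : Nat.card W = p * Nat.card N0 := by
    rw [hW, card_pull hP.step_le, k1, hN0c, pow_succ']
  have hEc : Nat.card (⊤ : Subgroup E) = p * Nat.card W := by
    rw [Subgroup.card_top, hW, card_pull hP.step_le, k1, hP.eq, card_map, k2, ← pow_succ']
  have hN0W : N0 ≤ W := pull_mono MC.Z_mono E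
  haveI hN0n : N0.Normal := ⟨fun v hv e => by
    have := hP.pull_inv (MulAut.conj e) hv
    exact this⟩
  have hxE : (x : Ω) ∈ E := hP.mem_E.mpr (mem_cenMod.mp self_mem_cenMod)
  set xE : E := ⟨x, hxE⟩ with hxEdef
  obtain ⟨g, hg, hgE⟩ := exists_moved h.pg h.sat hP.ess
  let c : MulAut E := E.normalizerMonoidHom ⟨g, hg.2⟩
  have hcR : c ∈ autInducedBy S E := mem_autInducedBy_iff.mpr ⟨g, hg.1, hg.2, fun _ => rfl⟩
  have hcA : c ∈ F.autGroup E := autInducedBy_le_autGroup hP.le hcR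
  have hcW : ∀ v ∈ W, v⁻¹ * c v ∈ N0 := by
    intro v hv
    rw [hN0, mem_pull' hP.le]
    rw [hW, mem_pull' hP.le] at hv
    have hm : ⁅(⟨(v : Ω), hP.le v.2⟩ : S)⁻¹, (⟨g, hg.1⟩ : S)⁆ ∈ Z n := (Z (n + 1)).inv_mem hv _
    convert hm using 1
    refine Subtype.ext ?_
    show (v : Ω)⁻¹ * (g * v * g⁻¹) = _
    simp only [Subgroup.coe_mul, Subgroup.coe_inv, commutatorElement_def]
    group
  set k := xE⁻¹ * c xE with hk
  have hkW : k ∈ W := by
    obtain ⟨j, hj⟩ := pow_eq_one_of_mem_autInducedBy h.pg hcR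
    exact inv_mul_mem_of_step hj (K := W) (L := ⊤) (fun v hv => pull_invariant hP.le hcR hv) (fun _ _ => trivial)
      (relIndex_dvd le_top hEc) xE trivial
  have hkN : k ∉ N0 := fun hk0 => hgE (hP.mem_E.mpr (by
    rw [hN0, mem_pull' hP.le] at hk0
    have := (inferInstance : (Z n).Normal).conj_mem _ hk0 x
    show ⁅(⟨g, hg.1⟩ : S), x⁆ ∈ Z n
    convert this using 1
    refine Subtype.ext ?_
    show g * (x : Ω) * g⁻¹ * (x : Ω)⁻¹ = (x : Ω) * ((x : Ω)⁻¹ * (g * x * g⁻¹)) * (x : Ω)⁻¹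
    group))
  have hrelW : (N0.subgroupOf W).index = p := by
    have h' := Quad.card_mul_relIndex hN0W
    rw [hWc, mul_comm p] at h'
    exact Nat.eq_of_mul_eq_mul_left Nat.card_pos h'
  haveI : (N0.subgroupOf W).Normal := Subgroup.normal_subgroupOf
  have hWgen : ∀ v ∈ W, ∃ i : ℤ, (k ^ i)⁻¹ * v ∈ N0 := by
    intro v hv
    obtain ⟨i, hi⟩ := exists_zpow_mem hrelW (x := (⟨k, hkW⟩ : W)) hkN ⟨v, hv⟩
    exact ⟨i, hi⟩
  haveI : W.Normal := ⟨fun v hv e => by
    rw [hW, mem_pull' hP.le] at hv ⊢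
    exact (inferInstance : (Z (n + 1)).Normal).conj_mem _ hv ⟨e, hP.le e.2⟩⟩
  have hWidx : W.index = p := by
    have := W.card_mul_index
    rw [← Subgroup.card_top (G := E), hEc, mul_comm p] at this
    exact Nat.eq_of_mul_eq_mul_left Nat.card_pos this
  have hxW : xE ∉ W := fun hh => hP.x_not_step ((mem_pull' hP.le).mp hh)
  have hWp : ∀ v : E, v ^ (p : ℤ) ∈ W := fun v => by
    rw [zpow_natCast, ← hWidx]; exact W.pow_index_mem v
  have hN0p : ∀ v ∈ W, v ^ (p : ℤ) ∈ N0 := fun v hv => by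
    rw [zpow_natCast]
    have := (N0.subgroupOf W).pow_index_mem ⟨v, hv⟩
    rw [hrelW] at this
    exact this
  -- some automorphism moves `k` off `W`
  have hex : ∃ φ ∈ F.autGroup E, φ k ∉ W := by
    by_contra hh
    push Not at hh
    refine false_of_series h.pg h.sat hP.ess (m := 3) ![⊥, N0, W, ⊤] rfl rfl ?_ ?_
    · intro α hα i v hv
      fin_cases i
      · rw [show v = 1 from hv, map_one]; exact Subgroup.one_mem _
      · exact hP.pull_inv α hv
      · obtain ⟨i, hi⟩ := hWgen v hv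
        rw [show v = k ^ i * ((k ^ i)⁻¹ * v) by group, map_mul, map_zpow]
        exact W.mul_mem (W.zpow_mem (hh α hα) i) (hN0W (hP.pull_inv α hi))
      · trivial
    · intro i
      fin_cases i
      · show (⊥ : Subgroup E).relIndex N0 ∣ p
        rw [Subgroup.relIndex_bot_left, hN0c]
        rcases (show n = 0 ∨ n = 1 by have := hP.le_one; omega) with rfl | rfl <;> simp
      · exact relIndex_dvd hN0W hWc
      · exact relIndex_dvd le_top hEc
  refine ⟨k, hkW, hkN, hWgen, hex, fun φ hφ hφk => ?_⟩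
  set d : MulAut E := φ * c * φ⁻¹ with hd
  have hdA : d ∈ F.autGroup E :=
    (F.autGroup E).mul_mem ((F.autGroup E).mul_mem hφ hcA) ((F.autGroup E).inv_mem hφ)
  set l := φ k with hl
  -- exponents
  obtain ⟨i, hi⟩ := exists_zpow_mem hWidx hxW l
  have hi' : ¬ (p : ℤ) ∣ i := fun hdiv => hφk (by
    obtain ⟨q, rfl⟩ := hdiv
    have := W.mul_mem (W.zpow_mem (hWp xE) q) hi
    rwa [← zpow_mul, mul_inv_cancel_left] at this)
  have hφk' : φ⁻¹ k ∉ W := fun hh => by
    obtain ⟨m, hm⟩ := hWgen _ hh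
    have h1 : (l ^ m)⁻¹ * k ∈ N0 := by
      have := hP.pull_inv φ hm
      rwa [map_mul, map_inv, map_zpow, MulAut.apply_inv_self] at this
    by_cases hdiv : (p : ℤ) ∣ m
    · obtain ⟨q, rfl⟩ := hdiv
      refine hkN ?_
      have hlp : (l ^ ((p : ℤ) * q)) ∈ N0 := by
        rw [hl, ← map_zpow]
        exact hP.pull_inv φ (by rw [zpow_mul]; exact N0.zpow_mem (hN0p k hkW) q)
      have := N0.mul_mem hlp h1
      rwa [mul_inv_cancel_left] at this
    · obtain ⟨u, v, huv⟩ : IsCoprime m (p : ℤ) :=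
        ((Nat.prime_iff_prime_int.mp hpp).coprime_iff_not_dvd.mpr hdiv).symm
      refine hφk ?_
      have h2 : l ^ m ∈ W := by
        have := W.mul_mem hkW (W.inv_mem (hN0W h1))
        rwa [mul_inv_rev, inv_inv, mul_inv_cancel_left] at this
      have := W.mul_mem (W.zpow_mem h2 u) (W.zpow_mem (hWp l) v)
      rwa [← zpow_mul, ← zpow_mul, ← zpow_add, show m * u + (p : ℤ) * v = 1 by linear_combination huv, zpow_one] at this
  obtain ⟨j, hj⟩ := exists_zpow_mem hWidx hxW (φ⁻¹ k)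
  have hj' : ¬ (p : ℤ) ∣ j := fun hdiv => hφk' (by
    obtain ⟨q, rfl⟩ := hdiv
    have := W.mul_mem (W.zpow_mem (hWp xE) q) hj
    rwa [← zpow_mul, mul_inv_cancel_left] at this)
  have hshift : ∀ (m : ℤ) (v : E), (xE ^ m)⁻¹ * v ∈ W → (v * k ^ m)⁻¹ * c v ∈ N0 := by
    intro m v hv
    rw [← QuotientGroup.eq]
    have hcomm : ∀ a b : E, Commute (QuotientGroup.mk a : E ⧸ N0) (QuotientGroup.mk b) := fun a b => by
      show (QuotientGroup.mk (a * b) : E ⧸ N0) = QuotientGroup.mk (b * a)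
      rw [QuotientGroup.eq]
      have := hP.comm_mem h b a
      rwa [show (a * b)⁻¹ * (b * a) = b⁻¹ * a⁻¹ * b * a by group]
    have hcx : (QuotientGroup.mk (c xE) : E ⧸ N0) = QuotientGroup.mk xE * QuotientGroup.mk k := by
      rw [← QuotientGroup.mk_mul, hk, mul_inv_cancel_left]
    obtain ⟨w, hw, hv'⟩ : ∃ w ∈ W, v = xE ^ m * w := ⟨_, hv, (mul_inv_cancel_left _ _).symm⟩
    subst hv'
    rw [map_mul, map_zpow, QuotientGroup.mk_mul, QuotientGroup.mk_mul, QuotientGroup.mk_mul, QuotientGroup.mk_zpow,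
      QuotientGroup.mk_zpow, QuotientGroup.mk_zpow, hcx, (hcomm xE k).mul_zpow, mk_eq_of_mem (hcW _ hw),
      mul_assoc, mul_assoc, ((hcomm k w).zpow_left m).eq]
  intro a b hab
  have hdl : l⁻¹ * d l ∈ N0 := by
    have := hP.pull_inv φ (hcW k hkW)
    rw [map_mul, map_inv] at this
    rwa [hd, MulAut.mul_apply, MulAut.mul_apply, hl, MulAut.inv_apply_self]
  have hdk : (k * l ^ j)⁻¹ * d k ∈ N0 := by
    have := hP.pull_inv φ (hshift j (φ⁻¹ k) hj)
    rwa [map_mul, map_inv, map_mul, map_zpow, MulAut.apply_inv_self] at this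
  have hlp : l ^ p ∈ N0 := by
    rw [hl, ← map_pow]
    exact hP.pull_inv φ (by have := hN0p k hkW; rwa [zpow_natCast] at this)
  obtain ⟨τ, hτ, h1, h2, -⟩ := torus_mod (A := F.autGroup E) (K := N0) (fun α _ v hv => hP.pull_inv α hv)
    (hP.comm_mem h) hcA hdA (k := k) (l := l) (by have := hN0p k hkW; rwa [zpow_natCast] at this) hlp
    (hcW k hkW) hdl (hshift i l hi) hdk hi' hj' hab
  refine ⟨τ, hτ, hP.ext h hτ (conj_mem_of_series h.pg h.sat hP.ess.2.1 (m := 3) ![⊥, N0, W, ⊤] rfl rfl ?_ ?_ hτ ?_),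
    h1, h2⟩
  · intro i
    fin_cases i
    · show (⊥ : Subgroup E).relIndex N0 ∣ p
      rw [Subgroup.relIndex_bot_left, hN0c]
      rcases (show n = 0 ∨ n = 1 by have := hP.le_one; omega) with rfl | rfl <;> simp
    · exact relIndex_dvd hN0W hWc
    · exact relIndex_dvd le_top hEc
  · intro r hr i v hv
    fin_cases i
    · rw [show v = 1 from hv, map_one]; exact Subgroup.one_mem _
    · exact pull_invariant hP.le hr hv
    · exact pull_invariant hP.le hr hv
    · trivial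
  · intro i v hv
    fin_cases i
    · rw [show v = 1 from hv, map_one]; exact Subgroup.one_mem _
    · exact hP.pull_inv τ hv
    · obtain ⟨m, hm⟩ := hWgen v hv
      rw [show v = k ^ m * ((k ^ m)⁻¹ * v) by group, map_mul, map_zpow]
      refine W.mul_mem (W.zpow_mem ?_ m) (hN0W (hP.pull_inv τ hm))
      have := W.mul_mem (W.zpow_mem hkW a) (hN0W h1)
      rwa [mul_inv_cancel_left] at this
    · trivial

/-- The torus, its elements extending to `S`. -/
theorem exists_torus (h : H5 p F) (hP : Pearl p F E x n) :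
    ∃ k l : E, k ∈ pull (Z (n + 1)) E ∧ k ∉ pull (Z n) E ∧ l ∉ pull (Z (n + 1)) E ∧
      ∀ a b : ℤ, (p : ℤ) ∣ a * b - 1 → ∃ τ ∈ F.autGroup E, Ext F τ ∧
        (k ^ a)⁻¹ * τ k ∈ pull (Z n) E ∧ (l ^ b)⁻¹ * τ l ∈ pull (Z n) E := by
  obtain ⟨k, h1, h2, -, ⟨φ, hφ, hφk⟩, h3⟩ := hP.exists_torus_at h
  exact ⟨k, φ k, h1, h2, hφk, h3 φ hφ hφk⟩

/-- The weights of the torus. -/
theorem weight_rel (h : H5 p F) (hP : Pearl p F E x n) {b : ℤ} (hb : ¬ (p : ℤ) ∣ b) :
    (p : ℤ) ∣ b ^ (6 - n) - 1 := by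
  obtain ⟨a, hab⟩ := exists_inverse_mod hb
  obtain ⟨k, l, hk, hkN, hl, hτall⟩ := hP.exists_torus h
  obtain ⟨τ, -, ⟨β, -, hβ⟩, h1, h2⟩ := hτall a b hab
  obtain ⟨A, B, hA, hBA, hx', -, hZ2, hZ1⟩ := hP.mc.weights β
  haveI := MC.gam_normal (G := S)
  obtain ⟨hgc, hxg⟩ := hP.mc.gam_card
  obtain ⟨k0, k1, k2⟩ := hP.cards
  set ks : S := ⟨(k : Ω), hP.le k.2⟩ with hks
  set ls : S := ⟨(l : Ω), hP.le l.2⟩ with hls
  have hks1 : ks ∈ Z (n + 1) := (mem_pull' hP.le).mp hk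
  have hks0 : ks ∉ Z n := fun hh => hkN ((mem_pull' hP.le).mpr hh)
  have hβk : (ks ^ a)⁻¹ * β ks ∈ Z n := by
    have hm := (mem_pull' hP.le).mp h1
    convert hm using 1
    refine Subtype.ext ?_
    push_cast
    rw [hβ ks k.2]
  have hβl : (ls ^ b)⁻¹ * β ls ∈ Z n := by
    have hm := (mem_pull' hP.le).mp h2
    convert hm using 1
    refine Subtype.ext ?_
    push_cast
    rw [hβ ls l.2]
  have hZng : Z (n + 1) ≤ gam S := by
    obtain ⟨u, -, -, hg3, -⟩ := hP.mc.frame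
    rcases (show n = 0 ∨ n = 1 by have := hP.le_one; omega) with rfl | rfl
    · exact (MC.Z_mono.trans MC.Z_mono).trans hg3
    · exact MC.Z_mono.trans hg3
  have hzl : Z (n + 1) ≤ cenMod (Z n) x := le_cenMod_of_step (K := Z n) x
  haveI : ((Z (n + 1)).subgroupOf (cenMod (Z n) x)).Normal := Subgroup.normal_subgroupOf
  obtain ⟨i, hi⟩ := exists_zpow_mem (p := p) (M := (Z (n + 1)).subgroupOf (cenMod (Z n) x))
    (by
      have h' := Quad.card_mul_relIndex hzl
      rw [k1, k2, pow_succ p (n + 1)] at h'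
      exact Nat.eq_of_mul_eq_mul_left (pow_pos (Fact.out : p.Prime).pos _) h')
    (x := (⟨x, self_mem_cenMod⟩ : cenMod (Z n) x)) hP.x_not_step ⟨ls, mem_cenMod.mpr (hP.mem_E.mp l.2)⟩
  have hi' : (x ^ i)⁻¹ * ls ∈ gam S := hZng hi
  have hi1 : (x ^ i)⁻¹ * ls ∈ Z (n + 1) := hi
  have hpi : ¬ (p : ℤ) ∣ i := fun hdiv => hl ((mem_pull' hP.le).mpr (by
    obtain ⟨q, rfl⟩ := hdiv
    have hxp := pow_p_mem hzl (by rw [k1, k2, ← pow_succ']) (v := x) self_mem_cenMod
    have := (Z (n + 1)).mul_mem ((Z (n + 1)).zpow_mem hxp q) hi1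
    rwa [← zpow_natCast, ← zpow_mul, mul_inv_cancel_left] at this))
  have hbA : (p : ℤ) ∣ A - b := by
    have e1 : (QuotientGroup.mk ls : S ⧸ gam S) = (QuotientGroup.mk x) ^ i := by
      rw [← QuotientGroup.mk_zpow]; exact mk_eq_of_mem hi'
    have e2 : (QuotientGroup.mk (β ls) : S ⧸ gam S) = (QuotientGroup.mk x) ^ (A * i) := by
      rw [zpow_mul, ← QuotientGroup.mk_zpow, ← mk_eq_of_mem hx', ← QuotientGroup.mk_zpow, ← map_zpow]
      refine mk_eq_of_mem ?_
      rw [← map_inv, ← map_mul]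
      exact gam_invariant β hi'
    have e3 : (QuotientGroup.mk (β ls) : S ⧸ gam S) = (QuotientGroup.mk x) ^ (i * b) := by
      rw [zpow_mul, ← e1, ← QuotientGroup.mk_zpow]
      exact mk_eq_of_mem (hZng (MC.Z_mono hβl))
    have e4 : x ^ (A * i - i * b) ∈ gam S := by
      rw [← QuotientGroup.eq_one_iff, QuotientGroup.mk_zpow, zpow_sub, ← e2, e3, mul_inv_cancel]
    have hd := dvd_of_zpow_mem (K := gam S) (L := ⊤) le_top
      (by rw [Subgroup.card_top, h.card, hgc, ← pow_succ']) trivial hxg e4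
    rw [show A * i - i * b = i * (A - b) by ring] at hd
    exact ((Nat.prime_iff_prime_int.mp Fact.out).dvd_or_dvd hd).resolve_left hpi
  obtain ⟨q1, hq1⟩ := hbA
  obtain ⟨q2, hq2⟩ := hBA
  obtain ⟨q3, hq3⟩ := hab
  rcases (show n = 0 ∨ n = 1 by have := hP.le_one; omega) with rfl | rfl
  · have hd := dvd_of_zpow_mem (p := p) (K := Z 0) (L := Z 1) MC.Z_mono
      (by rw [show Nat.card (Z 0) = 1 from Subgroup.card_bot, mul_one]; exact hP.mc.layers.1) hks1 hks0
      (m := A * A * A * B - a) (by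
        have h5 := hZ1 ks hks1
        rw [h5] at hβk
        rw [zpow_sub]
        have := (Z 0).inv_mem hβk
        rw [mul_inv_rev, inv_inv] at this
        have := (Z 0).inv_mem this
        rw [mul_inv_rev, inv_inv] at this
        exact Subgroup.Normal.mem_comm inferInstance this)
    obtain ⟨q4, hq4⟩ := hd
    refine ⟨b * (q4 - A * A * A * q2 - q1 * (A ^ 4 + A ^ 3 * b + A ^ 2 * b ^ 2 + A * b ^ 3 + b ^ 4)) + q3, ?_⟩
    have hB : B = A * A + (p : ℤ) * q2 := by omega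
    have hA' : A = b + (p : ℤ) * q1 := by omega
    subst hB
    show b ^ 6 - 1 = _
    linear_combination b * hq4 + hq3 - b * (A ^ 4 + A ^ 3 * b + A ^ 2 * b ^ 2 + A * b ^ 3 + b ^ 4) * hq1
  · have hd := dvd_of_zpow_mem (p := p) (K := Z 1) (L := Z 2) MC.Z_mono
      (by rw [hP.mc.layers.1, hP.mc.layers.2.1, pow_two]) hks1 hks0 (m := A * A * B - a) (by
        rw [← QuotientGroup.eq_one_iff, QuotientGroup.mk_zpow, zpow_sub, ← QuotientGroup.mk_zpow,
          ← QuotientGroup.mk_zpow, ← mk_eq_of_mem (hZ2 ks hks1), mk_eq_of_mem hβk, mul_inv_cancel])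
    obtain ⟨q4, hq4⟩ := hd
    refine ⟨b * (q4 - A * A * q2 - q1 * (A ^ 3 + A ^ 2 * b + A * b ^ 2 + b ^ 3)) + q3, ?_⟩
    have hB : B = A * A + (p : ℤ) * q2 := by omega
    subst hB
    show b ^ 5 - 1 = _
    linear_combination b * hq4 + hq3 - b * (A ^ 3 + A ^ 2 * b + A * b ^ 2 + b ^ 3) * hq1

/-- Only the prime three, with an elementary pearl, is left. -/
theorem three (h : H5 p F) (hP : Pearl p F E x n) : p = 3 ∧ n = 0 := by
  have hpp : p.Prime := Fact.out
  have hd := sub_one_dvd (m := 6 - n) fun b hb => hP.weight_rel h hb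
  have h2 := h.odd
  have h7 := h.ne7
  have hle : p - 1 ≤ 6 - n := Nat.le_of_dvd (by have := hP.le_one; omega) hd
  have hp7 : p ≤ 7 := by omega
  have hn := hP.le_one
  interval_cases p <;> rcases (show n = 0 ∨ n = 1 by omega) with rfl | rfl <;>
    first | omega | (norm_num at hpp) | (norm_num at hd) | exact ⟨rfl, rfl⟩

end Pearl

end Cfsg.OrderPFive
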