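import Cfsg.Agent.Lib.Fusion.OrderPFive.CubeHyp
import Cfsg.Agent.Lib.Fusion.OrderPFive.PearlTorus

/-!
An elementary abelian essential subgroup of order `p ^ 3`: transvections, and the frame of its normalizer.
-/

set_option autoImplicit false
set_option linter.unusedSectionVars false

open scoped commutatorElement

namespace Cfsg.OrderPFive

open FusionSystem EssentialSmall MaxClassCube

variable {Ω : Type*} [Group Ω] {S : Subgroup Ω} [Finite S] {p : ℕ} [Fact p.Prime] {F : FusionSystem S}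
  {E : Subgroup Ω}

theorem exists_normal_line {G : Type*} [Group G] [Finite G] (hG : IsPGroup p G) {K A : Subgroup G} [K.Normal]
    [A.Normal] (hlt : K < A) :
    ∃ L : Subgroup G, L.Normal ∧ K < L ∧ L ≤ A ∧ Nat.card L = p * Nat.card K := by
  have hpp : p.Prime := Fact.out
  haveI : Group.IsNilpotent G := hG.isNilpotent
  obtain ⟨n, hn⟩ := Group.IsNilpotent.nilpotent G
  have hex : ∃ i, ¬ A ⊓ Subgroup.upperCentralSeries G i ≤ K := ⟨n, fun hh => hlt.not_ge (by
    rwa [hn, inf_top_eq] at hh)⟩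
  classical
  obtain ⟨j, hj⟩ : ∃ j, Nat.find hex = j + 1 := Nat.exists_eq_succ_of_ne_zero fun h0 => Nat.find_spec hex (by
    rw [h0]; exact inf_le_right.trans bot_le)
  obtain ⟨v, hv, hvK⟩ := SetLike.not_le_iff_exists.mp (hj ▸ Nat.find_spec hex)
  have hmin : A ⊓ Subgroup.upperCentralSeries G j ≤ K := by
    by_contra hh
    have := Nat.find_min' hex hh
    omega
  have hvs : ∀ y, ⁅v, y⁆ ∈ K := fun y => hmin ⟨by
    rw [commutatorElement_def, show v * y * v⁻¹ * y⁻¹ = v * (y * v⁻¹ * y⁻¹) by group]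
    exact A.mul_mem hv.1 ((inferInstance : A.Normal).conj_mem _ (A.inv_mem hv.1) y), hv.2 y⟩
  -- the last power outside
  obtain ⟨q, hq⟩ := hG v
  have hex2 : ∃ m, v ^ p ^ m ∈ K := ⟨q, hq ▸ K.one_mem⟩
  obtain ⟨m, hm⟩ : ∃ m, Nat.find hex2 = m + 1 := Nat.exists_eq_succ_of_ne_zero fun h0 => hvK (by
    have := Nat.find_spec hex2
    rwa [h0, pow_zero, pow_one] at this)
  set w := v ^ p ^ m with hw
  have hwK : w ∉ K := fun hh => by
    have := Nat.find_min' hex2 hh
    omega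
  have hwp : w ^ p ∈ K := by
    rw [hw, ← pow_mul, ← pow_succ, ← hm]
    exact Nat.find_spec hex2
  have hws : ∀ y, ⁅w, y⁆ ∈ K := fun y => by
    have hvS : v ∈ Subgroup.upperCentralSeriesStep K := hvs
    exact (Subgroup.upperCentralSeriesStep K).pow_mem hvS _ y
  let L := K ⊔ Subgroup.zpowers w
  have hLn : L.Normal := ⟨fun z hz y => by
    obtain ⟨k, hk, _, ⟨i, rfl⟩, rfl⟩ := Subgroup.mem_sup_of_normal_left.mp hz
    rw [show y * (k * w ^ i) * y⁻¹ = (y * k * y⁻¹) * (y * w ^ i * y⁻¹) by group]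
    refine L.mul_mem (Subgroup.mem_sup_left ((inferInstance : K.Normal).conj_mem k hk y)) ?_
    have hwi : ⁅w ^ i, y⁆ ∈ K := (Subgroup.upperCentralSeriesStep K).zpow_mem (show w ∈ _ from hws) i y
    rw [show y * w ^ i * y⁻¹ = ⁅w ^ i, y⁆⁻¹ * w ^ i by rw [commutatorElement_def]; group]
    exact L.mul_mem (Subgroup.mem_sup_left (K.inv_mem hwi)) (Subgroup.mem_sup_right ⟨i, rfl⟩)⟩
  have hKL : K < L := lt_of_le_of_ne le_sup_left fun e => hwK (e.ge (Subgroup.mem_sup_right (Subgroup.mem_zpowers w)))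
  refine ⟨L, hLn, hKL, sup_le hlt.le (Subgroup.zpowers_le.mpr ?_), le_antisymm ?_ ?_⟩
  · rw [hw]; exact A.pow_mem hv.1 _
  · have h1 := Quad.card_sup_zpowers_le (inferInstance : K.Normal) hwp
    exact h1.trans_eq (mul_comm _ _)
  · rw [mul_comm]; exact Quad.lt_card_mul hG hKL

namespace Cube

variable (hC : Cube p F E)

include hC

theorem exists_tv (h5 : Nat.card S = p ^ 5) :
    ∃ (c : MulAut E) (Z : Subgroup E) (k : E), Tv p c Z k ∧ c ∈ autInducedBy S E := by
  have hpp : p.Prime := Fact.out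
  haveI := hC.finE
  haveI : Finite (normalizerIn S E) := finite_normalizerIn
  have comm : ∀ a b : E, a * b = b * a := fun a b => Subtype.ext (hC.comm a a.2 b b.2)
  obtain ⟨K2, hK2, r, hr, hr1, hfix⟩ : ∃ K2 : Subgroup E, Nat.card K2 = p ^ 2 ∧
      ∃ r ∈ autInducedBy S E, r ≠ 1 ∧ ∀ y ∈ K2, r y = y := by
    by_cases hnor : S ≤ Subgroup.normalizer (E : Set Ω)
    · -- normal
      haveI hEn : (E.subgroupOf S).Normal := (Subgroup.normal_subgroupOf_iff_le_normalizer hC.le).mpr hnor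
      have hEc : Nat.card (E.subgroupOf S) = p ^ 3 :=
        (Nat.card_congr (Subgroup.subgroupOfEquivOfLe hC.le).toEquiv).trans hC.card
      obtain ⟨K1, hK1n, h01, h1E, hK1c⟩ := exists_normal_line (p := p) hC.pg (K := (⊥ : Subgroup S))
        (A := E.subgroupOf S) (bot_lt_iff_ne_bot.mpr fun e => by
          rw [e, Subgroup.card_bot] at hEc
          exact (Nat.one_lt_pow (by norm_num) hpp.one_lt).ne hEc)
      rw [Subgroup.card_bot, mul_one] at hK1c
      haveI := hK1n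
      obtain ⟨K2, hK2n, h12, h2E, hK2c⟩ := exists_normal_line (p := p) hC.pg (K := K1) (A := E.subgroupOf S)
        (lt_of_le_of_ne h1E fun e => by
          rw [e, hEc] at hK1c
          exact absurd (Nat.pow_right_injective hpp.two_le (hK1c.trans (pow_one p).symm)) (by norm_num))
      rw [hK1c, ← pow_two] at hK2c
      haveI := hK2n
      have hin : ∀ {K : Subgroup S}, K ≤ E.subgroupOf S → K.map S.subtype ≤ E := fun hK => by
        rintro _ ⟨v, hv, rfl⟩
        exact hK hv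
      refine ⟨pull K2 E, (card_pull (hin h2E)).trans hK2c, ?_⟩
      obtain ⟨y, hy, hy1⟩ := SetLike.exists_of_lt h12
      let yE : E := ⟨y, h2E hy⟩
      have hRc : p ^ 2 ≤ Nat.card (autInducedBy S E) := by
        have := card_autInducedBy_mul S E
        rw [hC.centralizerIn_eq, hC.card, normalizerIn_eq_of_le hnor, h5, pow_add p 2 3] at this
        exact (Nat.eq_of_mul_eq_mul_right (pow_pos hpp.pos 3) this).ge
      haveI : Finite (MulAut E) := finite_mulAut_of_le hC.le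
      have hstep : ∀ r ∈ autInducedBy S E, yE⁻¹ * r yE ∈ pull K1 E := fun r hr => by
        obtain ⟨j, hj⟩ := pow_eq_one_of_mem_autInducedBy hC.pg hr
        exact inv_mul_mem_of_step hj (fun v hv => pull_invariant hC.le hr hv) (fun v hv => pull_invariant hC.le hr hv)
          (relIndex_dvd (pull_mono h12.le E) (by rw [card_pull (hin h2E), card_pull (hin h1E), hK2c, hK1c, pow_two]))
          yE ((mem_pull' hC.le).mpr hy)
      have hfix1 : ∀ r ∈ autInducedBy S E, ∀ v ∈ pull K1 E, r v = v := fun r hr v hv => by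
        obtain ⟨j, hj⟩ := pow_eq_one_of_mem_autInducedBy hC.pg hr
        have := inv_mul_mem_of_step hj (K := ⊥) (fun w hw => by
          rw [Subgroup.mem_bot] at hw ⊢; rw [hw, map_one]) (fun w hw => pull_invariant hC.le hr hw)
          (by rw [Subgroup.relIndex_bot_left, card_pull (hin h1E), hK1c]) v hv
        exact (inv_mul_eq_one.mp (Subgroup.mem_bot.mp this)).symm
      obtain ⟨r₁, r₂, hne, he⟩ : ∃ r₁ r₂ : autInducedBy S E, r₁ ≠ r₂ ∧ (r₁ : MulAut E) yE = (r₂ : MulAut E) yE := by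
        by_contra hh
        push Not at hh
        have hle := Nat.card_le_card_of_injective
          (fun r : autInducedBy S E => (⟨yE⁻¹ * (r : MulAut E) yE, hstep r r.2⟩ : pull K1 E))
          fun a b e => by
            by_contra hne
            exact hh a b hne (mul_left_cancel (congrArg Subtype.val e))
        rw [card_pull (hin h1E), hK1c] at hle
        have := hRc.trans hle
        nlinarith [hpp.two_le]
      refine ⟨(r₁ : MulAut E)⁻¹ * r₂, Subgroup.mul_mem _ (Subgroup.inv_mem _ r₁.2) r₂.2, fun e => hne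
        (Subtype.ext (inv_mul_eq_one.mp e)), fun v hv => ?_⟩
      have hidx : ((K1).subgroupOf K2).index = p := by
        have := Quad.card_mul_relIndex h12.le
        rw [hK1c, hK2c, pow_two] at this
        exact Nat.eq_of_mul_eq_mul_left hpp.pos this
      obtain ⟨i, hi⟩ := exists_zpow_mem (M := K1.subgroupOf K2) hidx (x := (⟨y, hy⟩ : K2)) hy1
        ⟨⟨(v : Ω), hC.le v.2⟩, (mem_pull' hC.le).mp hv⟩
      have hv' : (yE ^ i)⁻¹ * v ∈ pull K1 E := (mem_pull' hC.le).mpr hi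
      rw [MulAut.mul_apply]
      refine (r₁ : MulAut E).injective ?_
      obtain ⟨w, hw, rfl⟩ : ∃ w ∈ pull K1 E, v = yE ^ i * w := ⟨_, hv', (mul_inv_cancel_left _ _).symm⟩
      rw [MulAut.apply_inv_self, map_mul, map_mul, map_zpow, map_zpow, hfix1 _ r₁.2 _ hw, hfix1 _ r₂.2 _ hw, he]
    · -- not normal
      have hEN : E < normalizerIn S E := lt_normalizerIn hC.pg (lt_of_le_of_ne hC.le fun e => hnor (by
        rw [e]; exact Subgroup.le_normalizer))
      have hNS : normalizerIn S E < S := lt_of_le_of_ne normalizerIn_le fun e => hnor (by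
        intro s hs; exact (e.ge hs).2)
      obtain ⟨j, hj⟩ := IsPGroup.iff_card.mp (hC.pg.to_le (normalizerIn_le (S := S) (P := E)))
      have h3 := card_lt_of_lt hEN
      have h5' := card_lt_of_lt hNS
      rw [hC.card, hj, Nat.pow_lt_pow_iff_right hpp.one_lt] at h3
      rw [hj, h5, Nat.pow_lt_pow_iff_right hpp.one_lt] at h5'
      obtain rfl : j = 4 := by omega
      set N := (normalizerIn S E).subgroupOf S with hN
      have hNc : Nat.card N = p ^ 4 := (Nat.card_congr (Subgroup.subgroupOfEquivOfLe normalizerIn_le).toEquiv).trans hj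
      have hNi : N.index = p := by
        have := N.card_mul_index
        rw [hNc, h5, pow_succ p 4] at this
        exact Nat.eq_of_mul_eq_mul_left (pow_pos hpp.pos 4) this
      haveI := CfsgLib.CyclicMax.normal_of_index_prime hC.pg hNi
      obtain ⟨g, hg, hgN⟩ := SetLike.exists_of_lt hNS
      set E' := E.subgroupOf S with hE'
      set E'' := E'.map (MulAut.conj (⟨g, hg⟩ : S)).toMonoidHom with hE''
      have hE'N : E' ≤ N := fun v hv => le_normalizerIn hC.le hv
      have hE''N : E'' ≤ N := by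
        rintro _ ⟨v, hv, rfl⟩
        exact (inferInstance : N.Normal).conj_mem v (hE'N hv) _
      have hE'c : Nat.card E' = p ^ 3 := (Nat.card_congr (Subgroup.subgroupOfEquivOfLe hC.le).toEquiv).trans hC.card
      have hE''c : Nat.card E'' = p ^ 3 :=
        (Subgroup.card_map_of_injective (MulAut.conj (⟨g, hg⟩ : S)).injective).trans hE'c
      have hne : ¬ E'' ≤ E' := fun hle => hgN ⟨hg, by
        show g ∈ Subgroup.normalizer (E : Set Ω)
        rw [Subgroup.mem_normalizer_iff_map_conj_eq]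
        refine Subgroup.eq_of_le_of_card_ge ?_
          (le_of_eq (Subgroup.card_map_of_injective (MulAut.conj g).injective).symm)
        rintro _ ⟨v, hv, rfl⟩
        exact hle ⟨⟨v, hC.le hv⟩, hv, rfl⟩⟩
      obtain ⟨v, hv, hvE⟩ := SetLike.not_le_iff_exists.mp hne
      -- the intersection has order p ^ 2
      have hrel : E'.relIndex N = p := by
        have h1 := Quad.card_mul_relIndex hE'N
        rw [hE'c, hNc, pow_succ p 3] at h1
        exact Nat.eq_of_mul_eq_mul_left (pow_pos hpp.pos 3) h1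
      have hinf : p ^ 2 ≤ Nat.card (E' ⊓ E'' : Subgroup S) := by
        have h1 := Quad.card_mul_relIndex (inf_le_right : E' ⊓ E'' ≤ E'')
        have h2 : (E' ⊓ E'').relIndex E'' ≤ p := by
          rw [Subgroup.inf_relIndex_right, ← hrel]
          exact Subgroup.relIndex_le_of_le_right hE''N Subgroup.index_ne_zero_of_finite
        rw [hE''c] at h1
        have h4 : p ^ 3 ≤ Nat.card (E' ⊓ E'' : Subgroup S) * p := h1 ▸ Nat.mul_le_mul_left _ h2
        rw [pow_succ p 2] at h4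
        exact Nat.le_of_mul_le_mul_right h4 hpp.pos
      obtain ⟨K0, hK0⟩ := Sylow.exists_subgroup_card_pow_prime (G := (E' ⊓ E'' : Subgroup S)) p (n := 2) (by
        obtain ⟨i, hi⟩ := IsPGroup.iff_card.mp (hC.pg.to_subgroup (E' ⊓ E''))
        rw [hi] at hinf ⊢
        exact pow_dvd_pow p ((Nat.pow_le_pow_iff_right hpp.one_lt).mp hinf))
      set K := K0.map (E' ⊓ E'' : Subgroup S).subtype with hK
      have hKc : Nat.card K = p ^ 2 :=
        (Subgroup.card_map_of_injective (E' ⊓ E'' : Subgroup S).subtype_injective).trans hK0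
      have hKle : K ≤ E' ⊓ E'' := Subgroup.map_subtype_le _
      refine ⟨pull K E, (card_pull (by rintro _ ⟨w, hw, rfl⟩; exact (hKle hw).1)).trans hKc,
        conjAut (E := E) (hE''N hv).2, mem_autInducedBy_iff.mpr ⟨_, v.2, (hE''N hv).2, fun _ => rfl⟩, fun e => ?_,
        fun y hy => ?_⟩
      · refine hvE (hC.centralizerIn_le ⟨v.2, Subgroup.mem_centralizer_iff.mpr fun x hx => ?_⟩)
        have h1 := congrArg (fun a : MulAut E => ((a ⟨x, hx⟩ : E) : Ω)) e
        exact (mul_inv_eq_iff_eq_mul.mp (show (v : Ω) * x * (v : Ω)⁻¹ = x from h1)).symm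
      · obtain ⟨a, ha, hae⟩ := hv
        obtain ⟨b, hb, hbe⟩ := (hKle ((mem_pull' hC.le).mp hy)).2
        refine Subtype.ext ?_
        show (v : Ω) * y * (v : Ω)⁻¹ = y
        rw [mul_inv_eq_iff_eq_mul]
        have hab : a * b = b * a := Subtype.ext (hC.comm a ha b hb)
        have := congrArg (fun w : S => ((MulAut.conj (⟨g, hg⟩ : S) w : S) : Ω)) hab
        simp only [map_mul, Subgroup.coe_mul] at this
        rw [← hae, show (y : Ω) = ((MulAut.conj (⟨g, hg⟩ : S) b : S) : Ω) from (congrArg Subtype.val hbe).symm]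
        exact this
  -- the transvection
  have hi : K2.index = p := by
    have := K2.card_mul_index
    rw [hK2, hC.card, pow_succ p 2] at this
    exact Nat.eq_of_mul_eq_mul_left (pow_pos hpp.pos 2) this
  obtain ⟨x, hx⟩ : ∃ x : E, x ∉ K2 := by
    by_contra hh
    push Not at hh
    have : K2 = ⊤ := (Subgroup.eq_top_iff' K2).mpr hh
    rw [this, Subgroup.index_top] at hi
    exact hpp.one_lt.ne hi
  haveI : K2.Normal := ⟨fun n hn g => by rw [comm g n, mul_inv_cancel_right]; exact hn⟩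
  obtain ⟨j, hj⟩ := pow_eq_one_of_mem_autInducedBy hC.pg hr
  set k := x⁻¹ * r x with hk
  have hkK : k ∈ K2 := inv_mul_mem_of_step hj (L := ⊤) (fun y hy => by rwa [hfix y hy]) (fun y _ => trivial)
    (by rw [Subgroup.relIndex_top_right, hi]) x (Subgroup.mem_top x)
  have hrange : ∀ e, e⁻¹ * r e ∈ Subgroup.zpowers k := by
    intro e
    obtain ⟨i, hi'⟩ := exists_zpow_mem hi hx e
    refine ⟨i, ?_⟩
    show k ^ i = e⁻¹ * r e
    obtain ⟨y, hy, rfl⟩ : ∃ y ∈ K2, e = x ^ i * y := ⟨_, hi', (mul_inv_cancel_left _ _).symm⟩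
    rw [map_mul, map_zpow, hfix y hy, show r x = x * k by rw [hk, mul_inv_cancel_left],
      Commute.mul_zpow (comm x k), mul_inv_rev, mul_assoc (x ^ i), comm (k ^ i) y]
    group
  have hk1 : k ≠ 1 := fun e => hr1 (MulEquiv.ext fun y => by
    obtain ⟨i, hi'⟩ := hrange y
    have hi'' : k ^ i = y⁻¹ * r y := hi'
    rw [e, one_zpow] at hi''
    exact (inv_mul_eq_one.mp hi''.symm).symm)
  refine ⟨r, fixed r, k, tv_of_range comm (orderOf_eq_prime (Subtype.ext (hC.exp k k.2)) hk1) hr1 (hfix k hkK) hrange, hr⟩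

theorem not_normal (h5 : Nat.card S = p ^ 5) : ¬ S ≤ Subgroup.normalizer (E : Set Ω) := fun hh => by
  obtain ⟨c, Z, k, hc, hcR⟩ := hC.exists_tv h5
  have h4 := hC.card_normalizer hc hcR
  rw [normalizerIn_eq_of_le hh, h5] at h4
  exact absurd (Nat.pow_right_injective (Fact.out : p.Prime).two_le h4) (by norm_num)

end Cube

/-- The frame of an elementary essential subgroup of order `p ^ 3`. -/
structure Frame (p : ℕ) (S E : Subgroup Ω) [Finite S] (c : MulAut E) (Z : Subgroup E) (k : E) where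
  T : Subgroup S
  ZS : Subgroup S
  K : Subgroup S
  L : Subgroup S
  g : S
  l : S
  x0 : S
  hT : T = (normalizerIn S E).subgroupOf S
  Tn : T.Normal
  cardT : Nat.card T = p ^ 4
  ET : E.subgroupOf S ≤ T
  Zn : ZS.Normal
  pullZ : pull ZS E = Z
  hZSE : ZS ≤ E.subgroupOf S
  cardZ : Nat.card ZS = p ^ 2
  Zcen : ∀ z ∈ ZS, ∀ t ∈ T, z * t = t * z
  Zmax : ∀ z ∈ T, (∀ t ∈ T, z * t = t * z) → z ∈ ZS
  Kn : K.Normal
  cardK : Nat.card K = p
  KZ : K ≤ ZS
  Kcen : ∀ y ∈ K, ∀ s, y * s = s * y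
  kK : (k : E) ∈ pull K E
  commK : ∀ a ∈ T, ∀ b ∈ T, ⁅a, b⁆ ∈ K
  gT : g ∉ T
  lE : (l : Ω) ∈ E
  lZ : l ∉ ZS
  x0_eq : x0 = ⁅g, l⁆
  Ln : L.Normal
  cardL : Nat.card L = p ^ 3
  ZL : ZS ≤ L
  LT : L ≤ T
  x0L : x0 ∈ L
  x0E : (x0 : Ω) ∉ E
  Lstep : ∀ y ∈ L, ∀ s, ⁅y, s⁆ ∈ ZS
  Label : ∀ a ∈ L, ∀ b ∈ L, a * b = b * a
  zne : ⁅x0, l⁆ ≠ 1
  Zstep : ∀ y ∈ ZS, ∀ s, ⁅y, s⁆ ∈ K

theorem Cube.exists_frame (hC : Cube p F E) (h5 : Nat.card S = p ^ 5) {c : MulAut E} {Z : Subgroup E} {k : E}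
    (hc : Tv p c Z k) (hcR : c ∈ autInducedBy S E) {l : E} (hl : l ∉ Z) :
    ∃ fr : Frame p S E c Z k, (fr.l : Ω) = l := by
  have hpp : p.Prime := Fact.out
  haveI := hC.finE
  obtain ⟨Y, hY⟩ := hC.exists_hyp
  have hR := hY.zpowers_eq hc hcR
  set T := (normalizerIn S E).subgroupOf S with hT
  have hTc : Nat.card T = p ^ 4 :=
    (Nat.card_congr (Subgroup.subgroupOfEquivOfLe normalizerIn_le).toEquiv).trans (hC.card_normalizer hc hcR)
  have hTi : T.index = p := by
    have := T.card_mul_index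
    rw [hTc, h5, pow_succ p 4] at this
    exact Nat.eq_of_mul_eq_mul_left (pow_pos hpp.pos 4) this
  haveI hTn : T.Normal := CfsgLib.CyclicMax.normal_of_index_prime hC.pg hTi
  have hET : E.subgroupOf S ≤ T := fun v hv => le_normalizerIn hC.le hv
  set ZS := T ⊓ Subgroup.centralizer (T : Set S) with hZS
  haveI : ZS.Normal := Subgroup.normal_inf_normal _ _
  have hZE : ZS ≤ E.subgroupOf S := fun z hz => hC.centralizerIn_le ⟨z.2, Subgroup.mem_centralizer_iff.mpr fun e he =>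
    congrArg Subtype.val (Subgroup.mem_centralizer_iff.mp hz.2 ⟨e, hC.le he⟩ (hET he))⟩
  have hfix : ∀ v ∈ T, ∀ z ∈ Z, (v : Ω) * ((z : E) : Ω) = ((z : E) : Ω) * v := by
    intro v hv z hz
    have hvP : conjAut (E := E) hv.2 ∈ autInducedBy S E := mem_autInducedBy_iff.mpr ⟨_, v.2, hv.2, fun _ => rfl⟩
    rw [hR] at hvP
    obtain ⟨i, hi⟩ := hvP
    have h1 : (c ^ i) z = z := zpow_apply_fix ((hc.fix z).mpr hz) i
    rw [show c ^ i = conjAut hv.2 from hi] at h1
    exact mul_inv_eq_iff_eq_mul.mp (show (v : Ω) * z * (v : Ω)⁻¹ = z from congrArg Subtype.val h1)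
  have hpullZ : pull ZS E = Z := by
    ext e
    rw [mem_pull' hC.le]
    constructor
    · rintro ⟨-, hz⟩
      refine (hc.fix e).mp ?_
      obtain ⟨v, hv, hvN, he⟩ := mem_autInducedBy_iff.mp hcR
      refine Subtype.ext ((he e).trans ?_)
      rw [mul_inv_eq_iff_eq_mul]
      exact congrArg Subtype.val (Subgroup.mem_centralizer_iff.mp hz ⟨v, hv⟩ ⟨hv, hvN⟩)
    · intro he
      refine ⟨hET e.2, Subgroup.mem_centralizer_iff.mpr fun v hv => Subtype.ext ?_⟩
      exact hfix v hv e he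
  have hZc : Nat.card ZS = p ^ 2 := by
    rw [← card_pull (P := E) (by rintro _ ⟨z, hz, rfl⟩; exact hZE hz), hpullZ]
    have := Z.card_mul_index
    rw [hc.idx, hC.card, pow_succ p 2] at this
    exact Nat.eq_of_mul_eq_mul_right hpp.pos this
  set K := ⁅T, T⁆ with hK
  haveI hKn : K.Normal := inferInstance
  set ks : S := ⟨(k : Ω), hC.le k.2⟩ with hks
  have hTdec : ∀ a ∈ T, ∀ e : S, (e : Ω) ∈ E → ⁅e, a⁆ ∈ Subgroup.zpowers ks := by
    intro a ha e he
    obtain ⟨i, hi⟩ := hC.range_comm hc hcR (v := (a : Ω)) ha he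
    exact ⟨i, Subtype.ext (by rw [Subgroup.coe_zpow]; exact hi.trans rfl)⟩
  have hKsub : K ≤ Subgroup.zpowers ks := by
    obtain ⟨v, hv, hvN, hve⟩ := mem_autInducedBy_iff.mp hcR
    have hvT : (⟨v, hv⟩ : S) ∈ T := ⟨hv, hvN⟩
    have hvE : ¬ v ∈ E := fun hvE => hc.ne_one (MulEquiv.ext fun e => Subtype.ext ((hve e).trans (by
      rw [hC.comm v hvE e e.2, mul_inv_cancel_right]; rfl)))
    have hksc : ∀ a ∈ T, a * ks = ks * a := fun a ha => Subtype.ext (hfix a ha k hc.kZ)
    have hrel : ((E.subgroupOf S).subgroupOf T).index = p := by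
      have := Quad.card_mul_relIndex hET
      rw [Nat.card_congr (Subgroup.subgroupOfEquivOfLe hC.le).toEquiv, hC.card, hTc, pow_succ p 3] at this
      exact Nat.eq_of_mul_eq_mul_left (pow_pos hpp.pos 3) this
    haveI : ((E.subgroupOf S).subgroupOf T).Normal := ⟨fun e he t => by
      show ((t * e * t⁻¹ : T) : S).1 ∈ E
      exact (Subgroup.mem_normalizer_iff.mp t.2.2 _).mp he⟩
    have hdec : ∀ a ∈ T, ∃ i : ℤ, ((((⟨v, hv⟩ : S) ^ i)⁻¹ * a : S) : Ω) ∈ E := by
      intro a ha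
      obtain ⟨i, hi⟩ := exists_zpow_mem hrel (x := (⟨⟨v, hv⟩, hvT⟩ : T)) hvE ⟨a, ha⟩
      exact ⟨i, hi⟩
    refine Subgroup.commutator_le.mpr fun a ha b hb => ?_
    obtain ⟨i, hi⟩ := hdec a ha
    obtain ⟨j, hj⟩ := hdec b hb
    set V : S := ⟨v, hv⟩ with hV
    have e1 := hTdec b hb _ hi
    have e2 := hTdec (V ^ i) (T.zpow_mem hvT i) _ hj
    obtain ⟨s, hs⟩ := e1
    obtain ⟨t, ht⟩ := e2
    have hc1 : Commute ks (V ^ i) := (hksc _ (T.zpow_mem hvT i)).symm
    have hc2 : Commute ks (V ^ j) := (hksc _ (T.zpow_mem hvT j)).symm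
    refine ⟨s - t, ?_⟩
    show ks ^ (s - t) = ⁅a, b⁆
    set A := (V ^ i)⁻¹ * a with hA
    set B := (V ^ j)⁻¹ * b with hB
    rw [show a = V ^ i * A by rw [hA, mul_inv_cancel_left], show ⁅V ^ i * A, b⁆ = V ^ i * ⁅A, b⁆ * (V ^ i)⁻¹ * ⁅V ^ i, b⁆ by
      simp only [commutatorElement_def]; group, show ⁅A, b⁆ = ks ^ s from hs.symm,
      ← (hc1.zpow_left s).eq, mul_inv_cancel_right, show b = V ^ j * B by rw [hB, mul_inv_cancel_left],
      show ⁅V ^ i, V ^ j * B⁆ = V ^ j * ⁅B, V ^ i⁆⁻¹ * (V ^ j)⁻¹ by simp only [commutatorElement_def]; group,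
      show ⁅B, V ^ i⁆ = ks ^ t from ht.symm, ← ((hc2.zpow_left t).inv_left).eq, mul_inv_cancel_right, zpow_sub]
  have hksp : orderOf ks = p := by
    rw [← Subgroup.orderOf_coe, show ((ks : S) : Ω) = ((k : E) : Ω) from rfl, Subgroup.orderOf_coe, hc.korder]
  obtain ⟨e, he⟩ := hc.range l
  have hne : e ≠ 0 ∧ k ^ e ≠ 1 := by
    have h1 : k ^ e ≠ 1 := fun h1 => hl ((hc.fix l).mp (inv_mul_eq_one.mp ((show k ^ e = _ from he).symm.trans h1)).symm)
    exact ⟨fun h0 => h1 (by rw [h0, zpow_zero]), h1⟩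
  set ls : S := ⟨(l : Ω), hC.le l.2⟩ with hls
  have hKc : Nat.card K = p := by
    refine le_antisymm ((Subgroup.card_le_of_le hKsub).trans (by rw [Nat.card_zpowers, hksp])) ?_
    obtain ⟨v, hv, hvN, hve⟩ := mem_autInducedBy_iff.mp hcR
    have hm : ⁅ls⁻¹, (⟨v, hv⟩ : S)⁆ ∈ K :=
      Subgroup.commutator_mem_commutator (T.inv_mem (hET l.2)) ⟨hv, hvN⟩
    have hne1 : (⊥ : Subgroup S) < K := bot_lt_iff_ne_bot.mpr fun e' => hne.2 (by
      rw [e', Subgroup.mem_bot] at hm
      rw [show k ^ e = _ from he]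
      refine Subtype.ext ?_
      show (l : Ω)⁻¹ * ((c l : E) : Ω) = 1
      rw [hve l]
      have h2 : ((⁅ls⁻¹, (⟨v, hv⟩ : S)⁆ : S) : Ω) = 1 := congrArg Subtype.val hm
      rw [← h2]
      simp only [commutatorElement_def, Subgroup.coe_mul, Subgroup.coe_inv, hls]
      group)
    have := Quad.lt_card_mul hC.pg hne1
    rwa [Subgroup.card_bot, one_mul] at this
  have hKeq : K = Subgroup.zpowers ks := Subgroup.eq_of_le_of_card_ge hKsub (by rw [Nat.card_zpowers, hksp, hKc])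
  have hksZ : ks ∈ ZS := by
    have : k ∈ pull ZS E := by rw [hpullZ]; exact hc.kZ
    exact (mem_pull' hC.le).mp this
  have hKcen : ∀ y ∈ K, ∀ s : S, y * s = s * y := by
    intro y hy s
    obtain ⟨j, hj⟩ := hC.pg s
    have := inv_mul_mem_of_step (E := S) (r := MulAut.conj s) (j := j) (by rw [← map_pow, hj, map_one]) (K := ⊥)
      (L := K) (fun w hw => by rw [Subgroup.mem_bot] at hw ⊢; rw [hw, map_one]) (fun w hw => hKn.conj_mem w hw s)
      (by rw [Subgroup.relIndex_bot_left, hKc]) y hy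
    rw [Subgroup.mem_bot, MulAut.conj_apply] at this
    exact (mul_inv_eq_iff_eq_mul.mp (inv_mul_eq_one.mp this).symm).symm
  have hKZ : K ≤ ZS := hKeq ▸ Subgroup.zpowers_le.mpr hksZ
  have hZstep : ∀ y ∈ ZS, ∀ s, ⁅y, s⁆ ∈ K := by
    intro y hy s
    obtain ⟨j, hj⟩ := hC.pg s
    have hm := inv_mul_mem_of_step (E := S) (r := MulAut.conj s) (j := j) (by rw [← map_pow, hj, map_one]) (K := K)
      (L := ZS) (fun w hw => hKn.conj_mem w hw s) (fun w hw => (inferInstance : ZS.Normal).conj_mem w hw s)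
      (by
        have := Quad.card_mul_relIndex hKZ
        rw [hKc, hZc, pow_two] at this
        rw [Nat.eq_of_mul_eq_mul_left hpp.pos this]) y hy
    rw [show ⁅y, s⁆ = y * (y⁻¹ * MulAut.conj s y)⁻¹ * y⁻¹ by rw [MulAut.conj_apply, commutatorElement_def]; group]
    exact hKn.conj_mem _ (K.inv_mem hm) y
  obtain ⟨g, hg⟩ : ∃ g : S, g ∉ T := by
    by_contra hh
    push Not at hh
    rw [(Subgroup.eq_top_iff' T).mpr hh, Subgroup.index_top] at hTi
    exact hpp.one_lt.ne hTi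
  have hlZS : ls ∉ ZS := fun hh => hl (hpullZ ▸ (mem_pull' hC.le).mpr hh)
  have hEeq : E.subgroupOf S ≤ ZS ⊔ Subgroup.zpowers ls := by
    have hlt : ZS < E.subgroupOf S ⊓ (ZS ⊔ Subgroup.zpowers ls) := lt_of_le_of_ne (le_inf hZE le_sup_left)
      fun e' => hlZS (e'.ge ⟨l.2, Subgroup.mem_sup_right (Subgroup.mem_zpowers ls)⟩)
    have hb := Quad.lt_card_mul hC.pg hlt
    rw [hZc, ← pow_succ] at hb
    exact (Subgroup.eq_of_le_of_card_ge inf_le_left
      (((Nat.card_congr (Subgroup.subgroupOfEquivOfLe hC.le).toEquiv).trans hC.card).trans_le hb)).ge.trans inf_le_right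
  have hx0E : ((⁅g, ls⁆ : S) : Ω) ∉ E := fun hh => hg ⟨g.2, by
    show (g : Ω) ∈ Subgroup.normalizer (E : Set Ω)
    rw [Subgroup.mem_normalizer_iff_map_conj_eq]
    refine Subgroup.eq_of_le_of_card_ge ?_ (le_of_eq (Subgroup.card_map_of_injective (MulAut.conj (g : Ω)).injective).symm)
    rintro _ ⟨y, hy, rfl⟩
    have hle : E.subgroupOf S ≤ (E.subgroupOf S).comap (MulAut.conj g).toMonoidHom := by
      refine hEeq.trans (sup_le (fun z hz => ?_) (Subgroup.zpowers_le.mpr ?_))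
      · exact hZE ((inferInstance : ZS.Normal).conj_mem z hz g)
      · show g * ls * g⁻¹ ∈ E.subgroupOf S
        rw [show g * ls * g⁻¹ = ⁅g, ls⁆ * ls by rw [commutatorElement_def]; group]
        exact Subgroup.mul_mem _ hh l.2
    exact hle (show (⟨y, hC.le hy⟩ : S) ∈ E.subgroupOf S from hy)⟩
  have hZT : ZS < T := lt_of_le_of_ne inf_le_left fun e' => by
    rw [e', hTc] at hZc
    exact absurd (Nat.pow_right_injective hpp.two_le hZc) (by norm_num)
  obtain ⟨L, hLn, hZL, hLT, hLc⟩ := exists_normal_line (p := p) hC.pg hZT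
  rw [hZc, ← pow_succ'] at hLc
  haveI := hLn
  have hLstep : ∀ y ∈ L, ∀ s, ⁅y, s⁆ ∈ ZS := by
    intro y hy s
    obtain ⟨j, hj⟩ := hC.pg s
    have hm := inv_mul_mem_of_step (E := S) (r := MulAut.conj s) (j := j) (by rw [← map_pow, hj, map_one]) (K := ZS)
      (L := L) (fun w hw => (inferInstance : ZS.Normal).conj_mem w hw s) (fun w hw => hLn.conj_mem w hw s)
      (by
        have := Quad.card_mul_relIndex hZL.le
        rw [hZc, hLc, pow_succ p 2] at this
        rw [Nat.eq_of_mul_eq_mul_left (pow_pos hpp.pos 2) this]) y hy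
    rw [show ⁅y, s⁆ = y * (y⁻¹ * MulAut.conj s y)⁻¹ * y⁻¹ by rw [MulAut.conj_apply, commutatorElement_def]; group]
    exact (inferInstance : ZS.Normal).conj_mem _ (ZS.inv_mem hm) y
  have hx0L : ⁅g, ls⁆ ∈ L := by
    obtain ⟨j, hj⟩ := hC.pg g
    have hm := inv_mul_mem_of_step (E := S) (r := MulAut.conj g) (j := j) (by rw [← map_pow, hj, map_one]) (K := L)
      (L := T) (fun w hw => hLn.conj_mem w hw g) (fun w hw => hTn.conj_mem w hw g)
      (by
        have := Quad.card_mul_relIndex hLT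
        rw [hLc, hTc, pow_succ p 3] at this
        rw [Nat.eq_of_mul_eq_mul_left (pow_pos hpp.pos 3) this]) ls (hET l.2)
    rw [show ⁅g, ls⁆ = ls * (ls⁻¹ * MulAut.conj g ls) * ls⁻¹ by rw [MulAut.conj_apply, commutatorElement_def]; group]
    exact hLn.conj_mem _ hm ls
  have hLgen : L ≤ ZS ⊔ Subgroup.zpowers ⁅g, ls⁆ := by
    have hlt : ZS < L ⊓ (ZS ⊔ Subgroup.zpowers ⁅g, ls⁆) := lt_of_le_of_ne (le_inf hZL.le le_sup_left)
      fun e' => hx0E (hZE (e'.ge ⟨hx0L, Subgroup.mem_sup_right (Subgroup.mem_zpowers _)⟩))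
    have hb := Quad.lt_card_mul hC.pg hlt
    rw [hZc, ← pow_succ] at hb
    exact (Subgroup.eq_of_le_of_card_ge inf_le_left (hLc.trans_le hb)).ge.trans inf_le_right
  have hLab : ∀ a ∈ L, ∀ b ∈ L, a * b = b * a := by
    intro a ha b hb
    obtain ⟨z, hz, _, ⟨i, rfl⟩, rfl⟩ := Subgroup.mem_sup_of_normal_left.mp (hLgen ha)
    obtain ⟨w, hw, _, ⟨j, rfl⟩, rfl⟩ := Subgroup.mem_sup_of_normal_left.mp (hLgen hb)
    have hcz : ∀ z ∈ ZS, ∀ t ∈ T, Commute z t := fun z hz t ht => (Subgroup.mem_centralizer_iff.mp hz.2 t ht).symm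
    have hxT : ⁅g, ls⁆ ∈ T := hLT hx0L
    exact ((hcz z hz _ (T.mul_mem hw.1 (T.zpow_mem hxT j))).mul_left
      (((hcz w hw _ (T.zpow_mem hxT i)).symm).mul_right ((Commute.refl _).zpow_zpow i j))).eq
  have hzne : ⁅⁅g, ls⁆, ls⁆ ≠ 1 := fun h1 => hx0E (hC.centralizerIn_le ⟨(⁅g, ls⁆ : S).2,
    Subgroup.mem_centralizer_iff.mpr fun y hy => by
      have hle : E.subgroupOf S ≤ Subgroup.centralizer ({⁅g, ls⁆} : Set S) := hEeq.trans (sup_le
        (fun z hz => Subgroup.mem_centralizer_singleton_iff.mpr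
          (Subgroup.mem_centralizer_iff.mp hz.2 _ (hLT hx0L)).symm)
        (Subgroup.zpowers_le.mpr (Subgroup.mem_centralizer_singleton_iff.mpr
          (commutatorElement_eq_one_iff_mul_comm.mp h1).symm)))
      exact congrArg Subtype.val
        (Subgroup.mem_centralizer_singleton_iff.mp (hle (show (⟨y, hC.le hy⟩ : S) ∈ E.subgroupOf S from hy)))⟩)
  refine ⟨⟨T, ZS, K, L, g, ls, ⁅g, ls⁆, rfl, hTn, hTc, hET, inferInstance, hpullZ, hZE, hZc,
    fun z hz t ht => (Subgroup.mem_centralizer_iff.mp hz.2 t ht).symm,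
    fun z hz ht => ⟨hz, Subgroup.mem_centralizer_iff.mpr fun t ht' => (ht t ht').symm⟩, hKn, hKc, hKZ, hKcen,
    (mem_pull' hC.le).mpr (hKeq ▸ Subgroup.mem_zpowers ks), fun a ha b hb => Subgroup.commutator_mem_commutator ha hb,
    hg, l.2, hlZS, rfl, hLn, hLc, hZL.le, hLT, hx0L, hx0E, hLstep, hLab, hzne, hZstep⟩, rfl⟩

end Cfsg.OrderPFive
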