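import Cfsg.Agent.Lib.Fusion.OrderPFive.Cube

/-!
An elementary essential subgroup of order `p ^ 3`: its torus extends to `S`, and only the prime three is left.
-/

set_option autoImplicit false
set_option linter.unusedSectionVars false

open scoped commutatorElement

namespace Cfsg.OrderPFive

open FusionSystem EssentialSmall MaxClassCube

variable {Ω : Type*} [Group Ω] {S : Subgroup Ω} [Finite S] {p : ℕ} [Fact p.Prime] {F : FusionSystem S}
  {E : Subgroup Ω} {c : MulAut E} {Z : Subgroup E} {k : E}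

theorem exists_zpow_eq {z : S} {K : Subgroup S} (hK : Nat.card K = p) (hz : z ∈ K) (hz1 : z ≠ 1) {w : S}
    (hw : w ∈ K) : ∃ i : ℤ, z ^ i = w := by
  have hzp : z ^ p = 1 := by
    have := pow_card_eq_one' (x := (⟨z, hz⟩ : K))
    rw [hK] at this
    exact congrArg Subtype.val this
  exact (Subgroup.eq_of_le_of_card_ge (Subgroup.zpowers_le.mpr hz)
    (by rw [Nat.card_zpowers, orderOf_eq_prime hzp hz1, hK])).ge hw

theorem pow_prime_eq_one {K : Subgroup S} (hK : Nat.card K = p) {z : S} (hz : z ∈ K) : z ^ p = 1 := by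
  have := pow_card_eq_one' (x := (⟨z, hz⟩ : K))
  rw [hK] at this
  exact congrArg Subtype.val this

theorem dvd_of_zpow_eq_one {z : S} (hzp : z ^ p = 1) (hz1 : z ≠ 1) {n : ℤ} (hn : z ^ n = 1) : (p : ℤ) ∣ n := by
  rw [← orderOf_eq_prime hzp hz1]
  exact orderOf_dvd_iff_zpow_eq_one.mpr hn

namespace Frame

theorem z_mem (fr : Frame p S E c Z k) : ⁅fr.x0, fr.l⁆ ∈ fr.K := fr.commK _ (fr.LT fr.x0L) _ (fr.ET fr.lE)

theorem E_le (fr : Frame p S E c Z k) (hC : Cube p F E) : E.subgroupOf S ≤ fr.ZS ⊔ Subgroup.zpowers fr.l := by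
  have hlt : fr.ZS < E.subgroupOf S ⊓ (fr.ZS ⊔ Subgroup.zpowers fr.l) := lt_of_le_of_ne
    (le_inf fr.hZSE le_sup_left) fun e => fr.lZ (e.ge ⟨fr.lE, Subgroup.mem_sup_right (Subgroup.mem_zpowers _)⟩)
  have hb := Quad.lt_card_mul hC.pg hlt
  rw [fr.cardZ, ← pow_succ] at hb
  exact (Subgroup.eq_of_le_of_card_ge inf_le_left
    (((Nat.card_congr (Subgroup.subgroupOfEquivOfLe hC.le).toEquiv).trans hC.card).trans_le hb)).ge.trans inf_le_right

theorem L_le (fr : Frame p S E c Z k) (hC : Cube p F E) : fr.L ≤ fr.ZS ⊔ Subgroup.zpowers fr.x0 := by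
  have hlt : fr.ZS < fr.L ⊓ (fr.ZS ⊔ Subgroup.zpowers fr.x0) := lt_of_le_of_ne (le_inf fr.ZL le_sup_left)
    fun e => fr.x0E (fr.hZSE (e.ge ⟨fr.x0L, Subgroup.mem_sup_right (Subgroup.mem_zpowers _)⟩))
  have hb := Quad.lt_card_mul hC.pg hlt
  rw [fr.cardZ, ← pow_succ] at hb
  exact (Subgroup.eq_of_le_of_card_ge inf_le_left (fr.cardL.trans_le hb)).ge.trans inf_le_right

theorem T_le (fr : Frame p S E c Z k) (hC : Cube p F E) : fr.T ≤ fr.L ⊔ Subgroup.zpowers fr.l := by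
  have hlL : fr.l ∉ fr.L := fun hh => fr.zne (commutatorElement_eq_one_iff_mul_comm.mpr (fr.Label _ fr.x0L _ hh))
  have hlt : fr.L < fr.T ⊓ (fr.L ⊔ Subgroup.zpowers fr.l) := lt_of_le_of_ne (le_inf fr.LT le_sup_left)
    fun e => hlL (e.ge ⟨fr.ET fr.lE, Subgroup.mem_sup_right (Subgroup.mem_zpowers _)⟩)
  have hb := Quad.lt_card_mul hC.pg hlt
  rw [fr.cardL, ← pow_succ] at hb
  exact (Subgroup.eq_of_le_of_card_ge inf_le_left (fr.cardT.trans_le hb)).ge.trans inf_le_right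

/-- Automorphisms normalizing `Aut_S(E)` extend to `S`. -/
theorem ext (fr : Frame p S E c Z k) (hC : Cube p F E) (h5 : Nat.card S = p ^ 5) (hc : Tv p c Z k)
    (hcR : c ∈ autInducedBy S E) {τ : MulAut E} (hτ : τ ∈ F.autGroup E)
    (hR : ∀ r ∈ autInducedBy S E, τ * r * τ⁻¹ ∈ autInducedBy S E) : Ext F τ := by
  have hpp : p.Prime := Fact.out
  haveI := fr.Tn
  haveI := fr.Zn
  haveI := fr.Kn
  haveI := fr.Ln
  set N := normalizerIn S E with hN
  obtain ⟨σ, hσ, he⟩ := exists_extend hC.pg hC.sat hC.ess.2.1 hN.symm hτ hR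
  have hNS : N ≤ S := normalizerIn_le
  haveI : Finite N := finite_normalizerIn
  have hNn : S ≤ Subgroup.normalizer (N : Set Ω) := by
    have hT := fr.Tn
    rw [fr.hT] at hT
    exact (Subgroup.normal_subgroupOf_iff_le_normalizer hNS).mp hT
  have hT' : ∀ v : N, (⟨v, hNS v.2⟩ : S) ∈ fr.T := fun v => by rw [fr.hT]; exact v.2
  have hpT : ∀ {J : Subgroup S}, J ≤ fr.T → J.map S.subtype ≤ N := fun hJ => by
    rintro _ ⟨v, hv, rfl⟩
    have := hJ hv
    rw [fr.hT] at this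
    exact this
  have hsurj : ∀ (J : Subgroup N) (hJ : ∀ v ∈ J, σ v ∈ J), ∀ w ∈ J, ∃ v ∈ J, σ v = w := by
    intro J hJ w hw
    have himg : J.map σ.toMonoidHom = J := by
      refine Subgroup.eq_of_le_of_card_ge ?_ (le_of_eq (Nat.card_congr (J.equivMapOfInjective _ σ.injective).toEquiv))
      rintro _ ⟨y, hy, rfl⟩
      exact hJ y hy
    exact himg.ge hw
  -- the commutator subgroup
  have hKi : ∀ v ∈ pull fr.K N, σ v ∈ pull fr.K N := by
    intro v hv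
    have hxN : ((fr.x0 : S) : Ω) ∈ N := hpT fr.LT ⟨_, fr.x0L, rfl⟩
    have hlN : ((fr.l : S) : Ω) ∈ N := hpT fr.ET ⟨_, fr.lE, rfl⟩
    obtain ⟨i, hi⟩ := exists_zpow_eq fr.cardK fr.z_mem fr.zne ((mem_pull' hNS).mp hv)
    have hv' : v = ⁅(⟨_, hxN⟩ : N), ⟨_, hlN⟩⁆ ^ i := Subtype.ext (congrArg Subtype.val hi.symm :)
    rw [hv', map_zpow, map_commutatorElement]
    refine Subgroup.zpow_mem _ ((mem_pull' hNS).mpr ?_) i
    exact fr.commK _ (hT' (σ ⟨_, hxN⟩)) _ (hT' (σ ⟨_, hlN⟩))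
  have hZi : ∀ v ∈ pull fr.ZS N, σ v ∈ pull fr.ZS N := by
    intro v hv
    refine (mem_pull' hNS).mpr (fr.Zmax _ (hT' (σ v)) fun t ht => ?_)
    obtain ⟨w, hw⟩ := σ.surjective ⟨t, hpT le_rfl ⟨t, ht, rfl⟩⟩
    have hcm : v * w = w * v := Subtype.ext
      (congrArg Subtype.val (fr.Zcen _ ((mem_pull' hNS).mp hv) _ (hT' w)) :)
    have := congrArg σ hcm
    rw [map_mul, map_mul, hw] at this
    exact Subtype.ext (congrArg (fun y : N => (y : Ω)) this :)
  have hxN : ((fr.x0 : S) : Ω) ∈ N := hpT fr.LT ⟨_, fr.x0L, rfl⟩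
  have hLi : ∀ v ∈ pull fr.L N, σ v ∈ pull fr.L N := by
    by_cases hx : σ ⟨_, hxN⟩ ∈ pull fr.L N
    · intro v hv
      obtain ⟨z, hz, _, ⟨i, rfl⟩, e⟩ := Subgroup.mem_sup_of_normal_left.mp (fr.L_le hC ((mem_pull' hNS).mp hv))
      have hzN : (z : Ω) ∈ N := hpT (fr.ZL.trans fr.LT) ⟨z, hz, rfl⟩
      have hv' : v = (⟨z, hzN⟩ : N) * (⟨_, hxN⟩ : N) ^ i := Subtype.ext (congrArg Subtype.val e.symm :)
      rw [hv', map_mul, map_zpow]
      exact Subgroup.mul_mem _ (pull_mono fr.ZL _ (hZi _ ((mem_pull' hNS).mpr hz))) (Subgroup.zpow_mem _ hx i)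
    exfalso
    set y : S := ⟨(σ ⟨_, hxN⟩ : N), hNS (σ ⟨_, hxN⟩).2⟩ with hy
    have hyL : y ∉ fr.L := fun hh => hx ((mem_pull' hNS).mpr hh)
    obtain ⟨w, hw, _, ⟨j, rfl⟩, hwj⟩ := Subgroup.mem_sup_of_normal_left.mp (fr.T_le hC (hT' (σ ⟨_, hxN⟩)))
    obtain ⟨z, hz, _, ⟨i, rfl⟩, hzi⟩ := Subgroup.mem_sup_of_normal_left.mp (fr.L_le hC hw)
    have hwj' : z * fr.x0 ^ i * fr.l ^ j = y := by rw [show z * fr.x0 ^ i = w from hzi]; exact hwj
    have hlp : fr.l ^ p = 1 := Subtype.ext (by rw [Subgroup.coe_pow]; exact hC.exp _ fr.lE)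
    have hj : ¬ (p : ℤ) ∣ j := fun hdiv => hyL (by
      obtain ⟨q, rfl⟩ := hdiv
      rw [← hwj', zpow_mul, zpow_natCast, hlp, one_zpow, mul_one]
      exact fr.L.mul_mem (fr.ZL hz) (fr.L.zpow_mem fr.x0L i))
    obtain ⟨j', j'', hjj⟩ : IsCoprime j (p : ℤ) :=
      ((Nat.prime_iff_prime_int.mp hpp).coprime_iff_not_dvd.mpr hj).symm
    -- computations modulo the centre of the normalizer
    set n := i * j' with hn
    have hXc : ∀ q : S ⧸ fr.ZS, Commute (QuotientGroup.mk fr.x0 : S ⧸ fr.ZS) q := fun q => by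
      induction q using QuotientGroup.induction_on with
      | H s => exact mk_commute (K := fr.ZS) (fr.Lstep _ fr.x0L s)
    have hGL : ⁅(QuotientGroup.mk fr.g : S ⧸ fr.ZS), (QuotientGroup.mk fr.l : S ⧸ fr.ZS)⁆ = QuotientGroup.mk fr.x0 := by
      rw [fr.x0_eq]; exact (map_commutatorElement (QuotientGroup.mk' fr.ZS) fr.g fr.l).symm
    have hcj := comm_zpow_zpow (a := (QuotientGroup.mk fr.g : S ⧸ fr.ZS)) (b := QuotientGroup.mk fr.l)
      (by rw [hGL]; exact (hXc _).symm) (by rw [hGL]; exact (hXc _).symm) n 1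
    rw [hGL, zpow_one, mul_one, commutatorElement_def, mul_inv_eq_iff_eq_mul] at hcj
    have hLp : (QuotientGroup.mk fr.l : S ⧸ fr.ZS) ^ p = 1 := by rw [← QuotientGroup.mk_pow, hlp]; rfl
    have hmem : (fr.g ^ n * fr.l * (fr.g ^ n)⁻¹)⁻¹ * y ^ j' ∈ fr.ZS := by
      rw [← QuotientGroup.eq, QuotientGroup.mk_mul, QuotientGroup.mk_mul, QuotientGroup.mk_inv,
        QuotientGroup.mk_zpow, QuotientGroup.mk_zpow, hcj, ← hwj', QuotientGroup.mk_mul, QuotientGroup.mk_mul,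
        (QuotientGroup.eq_one_iff z).mpr hz, one_mul, QuotientGroup.mk_zpow, QuotientGroup.mk_zpow,
        Commute.mul_zpow ((hXc _).zpow_left i), ← zpow_mul, ← zpow_mul, hn]
      congr 1
      rw [show (QuotientGroup.mk fr.l : S ⧸ fr.ZS) ^ (j * j') = QuotientGroup.mk fr.l ^ (1 : ℤ) from
        zpow_eq_of_dvd hLp ⟨-j'', by linear_combination hjj⟩, zpow_one]
    let LL : Subgroup Ω := fr.L.map S.subtype
    have hLn : S ≤ Subgroup.normalizer (LL : Set Ω) := by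
      refine (Subgroup.normal_subgroupOf_iff_le_normalizer (Subgroup.map_subtype_le _)).mp ?_
      rw [show LL.subgroupOf S = fr.L by ext v; exact Subgroup.mem_map_iff_mem S.subtype_injective]
      exact fr.Ln
    refine not_isConj_normal hC.ess.2.1 (hC.not_normal h5) hLn ?_
    obtain ⟨ψ, hψ, -, hψe⟩ := exists_map_of_mem_autGroup hNS hσ
    have hLN : LL ≤ N := hpT fr.LT
    refine FusionSystem.IsConj.trans ?_ (show F.IsConj LL (ψ.comp (Subgroup.inclusion hLN)).range from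
      ⟨_, F.restrict_mem hψ hLN, rfl⟩).symm
    set Q := (ψ.comp (Subgroup.inclusion hLN)).range with hQ
    haveI : Finite Q := finite_of_le (F.range_le (F.restrict_mem hψ hLN))
    have hzQ : ∀ z ∈ fr.ZS, ((z : S) : Ω) ∈ Q := by
      intro z hz
      have hzN : (z : Ω) ∈ N := hpT (fr.ZL.trans fr.LT) ⟨z, hz, rfl⟩
      obtain ⟨v, hv, e⟩ := hsurj _ hZi ⟨z, hzN⟩ ((mem_pull' hNS).mpr hz)
      refine ⟨⟨v, ⟨_, fr.ZL ((mem_pull' hNS).mp hv), rfl⟩⟩, ?_⟩
      rw [MonoidHom.comp_apply, hψe]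
      exact congrArg Subtype.val e
    have hyQ : (y : Ω) ∈ Q := ⟨⟨_, ⟨_, fr.x0L, rfl⟩⟩, by rw [MonoidHom.comp_apply, hψe]; rfl⟩
    have hlQ : ((fr.g ^ n * fr.l * (fr.g ^ n)⁻¹ : S) : Ω) ∈ Q := by
      have := Q.mul_mem (Q.zpow_mem hyQ j') (Q.inv_mem (hzQ _ hmem))
      convert this using 1
      push_cast
      group
    refine isConj_of_conj hC.le (g := ((fr.g ^ n : S) : Ω)) (fr.g ^ n : S).2 (fun e he' => ?_) ?_
    · have hmm : E.subgroupOf S ≤ (Q.comap S.subtype).comap (MulAut.conj (fr.g ^ n)).toMonoidHom := by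
        refine (fr.E_le hC).trans (sup_le (fun z hz => ?_) (Subgroup.zpowers_le.mpr hlQ))
        exact hzQ _ (fr.Zn.conj_mem z hz (fr.g ^ n))
      exact hmm (show (⟨e, hC.le he'⟩ : S) ∈ E.subgroupOf S from he')
    · rw [hC.card, ← Nat.card_congr (MonoidHom.ofInjective (F.injective_of_mem (F.restrict_mem hψ hLN))).toEquiv,
        card_map, fr.cardL]
  refine (ext_of_normal hC.pg hC.sat hNS hNn hσ (conj_mem_of_series hC.pg hC.sat (isFullyNormalized_of_le hNS hNn)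
    (m := 4) ![⊥, pull fr.K N, pull fr.ZS N, pull fr.L N, ⊤] rfl rfl ?_ ?_ hσ ?_)).trans (le_normalizerIn hC.le) he
  · have a3 := hpT fr.LT
    have a2 := hpT (fr.ZL.trans fr.LT)
    have a1 := hpT (fr.KZ.trans (fr.ZL.trans fr.LT))
    intro i
    fin_cases i
    · show (⊥ : Subgroup N).relIndex (pull fr.K N) ∣ p
      rw [Subgroup.relIndex_bot_left, card_pull a1, fr.cardK]
    · exact relIndex_dvd (pull_mono fr.KZ N) (show Nat.card (pull fr.ZS N) = p * Nat.card (pull fr.K N) by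
        rw [card_pull a2, card_pull a1, fr.cardK, fr.cardZ, pow_two])
    · exact relIndex_dvd (pull_mono fr.ZL N) (show Nat.card (pull fr.L N) = p * Nat.card (pull fr.ZS N) by
        rw [card_pull a3, card_pull a2, fr.cardL, fr.cardZ]; ring)
    · refine relIndex_dvd (A := pull fr.L N) (B := ⊤) le_top ?_
      rw [Subgroup.card_top, card_pull a3, fr.cardL, ← pow_succ', ← fr.cardT, fr.hT,
        Nat.card_congr (Subgroup.subgroupOfEquivOfLe hNS).toEquiv]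
  · intro r hr i v hv
    fin_cases i
    · rw [show v = 1 from hv, map_one]; exact Subgroup.one_mem _
    · exact pull_invariant hNS hr hv
    · exact pull_invariant hNS hr hv
    · exact pull_invariant hNS hr hv
    · trivial
  · intro i v hv
    fin_cases i
    · rw [show v = 1 from hv, map_one]; exact Subgroup.one_mem _
    · exact hKi v hv
    · exact hZi v hv
    · exact hLi v hv
    · trivial

end Frame

namespace Cube

variable (hC : Cube p F E)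

include hC

/-- The torus of two opposite transvections, extending to `S`. -/
theorem torus_at (h5 : Nat.card S = p ^ 5) (hc : Tv p c Z k) (hcR : c ∈ autInducedBy S E)
    {φ : MulAut E} (hφ : φ ∈ F.autGroup E) (h1 : φ k ∉ Z) (h2 : k ∉ Z.map φ.toMonoidHom) {a b : ℤ}
    (hab : (p : ℤ) ∣ a * b - 1) :
    ∃ τ ∈ F.autGroup E, Ext F τ ∧ τ k = k ^ a ∧ τ (φ k) = φ k ^ b ∧ ∀ m ∈ Z, m ∈ Z.map φ.toMonoidHom → τ m = m := by
  haveI := hC.finE
  have comm : ∀ a b : E, a * b = b * a := fun a b => Subtype.ext (hC.comm a a.2 b b.2)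
  have hexp : ∀ e : E, e ^ p = 1 := fun e => Subtype.ext (by rw [Subgroup.coe_pow]; exact hC.exp e e.2)
  have hd := hc.conj φ
  obtain ⟨s, hs⟩ := hc.range (φ k)
  obtain ⟨t, ht⟩ := hd.range k
  have hsnd : ¬ (p : ℤ) ∣ s := fun hdiv => h1 ((hc.fix _).mp (by
    have : k ^ s = 1 := by rw [← hc.korder] at hdiv; exact orderOf_dvd_iff_zpow_eq_one.mp hdiv
    rw [show k ^ s = _ from hs] at this
    exact (inv_mul_eq_one.mp this).symm))
  have htnd : ¬ (p : ℤ) ∣ t := fun hdiv => h2 ((hd.fix _).mp (by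
    have : φ k ^ t = 1 := by rw [← hd.korder] at hdiv; exact orderOf_dvd_iff_zpow_eq_one.mp hdiv
    rw [show φ k ^ t = _ from ht] at this
    exact (inv_mul_eq_one.mp this).symm))
  have hcA : c ∈ F.autGroup E := autInducedBy_le_autGroup hC.le hcR
  have hdA : φ * c * φ⁻¹ ∈ F.autGroup E :=
    (F.autGroup E).mul_mem ((F.autGroup E).mul_mem hφ hcA) ((F.autGroup E).inv_mem hφ)
  obtain ⟨τ, hτ, hk, hl, hm⟩ := torus comm hcA hdA (hexp k) (hexp (φ k)) ((hc.fix k).mpr hc.kZ)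
    ((hd.fix _).mpr hd.kZ) (s := s) (t := t) (by rw [show k ^ s = _ from hs, mul_inv_cancel_left])
    (by rw [show φ k ^ t = _ from ht, mul_inv_cancel_left]) hsnd htnd hab
  have hfix : ∀ m ∈ Z, m ∈ Z.map φ.toMonoidHom → τ m = m := fun m h3 h4 => hm m ((hc.fix m).mpr h3) ((hd.fix m).mpr h4)
  have hZ : ∀ z ∈ Z, τ z ∈ Z := by
    intro z hz
    obtain ⟨y, hy, i, rfl⟩ := hd.decomp comm h2 z
    have hyZ : y ∈ Z := (Z.mul_mem_cancel_right (Z.zpow_mem hc.kZ i)).mp hz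
    rw [map_mul, map_zpow, hfix y hyZ hy, hk, ← zpow_mul]
    exact Z.mul_mem hyZ (Z.zpow_mem hc.kZ _)
  have hR : ∀ r ∈ autInducedBy S E, τ * r * τ⁻¹ ∈ autInducedBy S E := by
    obtain ⟨Y, hY⟩ := hC.exists_hyp
    have hRe := hY.zpowers_eq hc hcR
    have hrc : ∀ r ∈ autInducedBy S E, ∃ i : ℤ, c ^ i = r := fun r hr => by rw [hRe] at hr; exact hr
    have hkc : ∀ i : ℤ, ∀ z ∈ Z, (c ^ i) z = z := fun i z hz => zpow_apply_fix ((hc.fix z).mpr hz) i
    refine conj_mem_of_series hC.pg hC.sat hC.ess.2.1 (m := 3) ![⊥, Subgroup.zpowers k, Z, ⊤] rfl rfl ?_ ?_ hτ ?_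
    · intro i
      fin_cases i
      · show (⊥ : Subgroup E).relIndex (Subgroup.zpowers k) ∣ p
        rw [Subgroup.relIndex_bot_left, Nat.card_zpowers, hc.korder]
      · refine relIndex_dvd (A := Subgroup.zpowers k) (B := Z) (Subgroup.zpowers_le.mpr hc.kZ) ?_
        have := Z.card_mul_index
        rw [hc.idx, hC.card, pow_succ p 2] at this
        rw [Nat.card_zpowers, hc.korder, Nat.eq_of_mul_eq_mul_right (Fact.out : p.Prime).pos this, pow_two]
      · show Z.relIndex ⊤ ∣ p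
        rw [Subgroup.relIndex_top_right, hc.idx]
    · intro r hr i v hv
      obtain ⟨j, rfl⟩ := hrc r hr
      fin_cases i
      · rw [show v = 1 from hv, map_one]; exact Subgroup.one_mem _
      · rw [hkc j v (Subgroup.zpowers_le.mpr hc.kZ hv)]; exact hv
      · rw [hkc j v hv]; exact hv
      · trivial
    · intro i v hv
      fin_cases i
      · rw [show v = 1 from hv, map_one]; exact Subgroup.one_mem _
      · obtain ⟨j, rfl⟩ := hv
        show τ (k ^ j) ∈ Subgroup.zpowers k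
        rw [map_zpow, hk, ← zpow_mul]; exact ⟨_, rfl⟩
      · exact hZ v hv
      · trivial
  obtain ⟨fr, -⟩ := hC.exists_frame h5 hc hcR h1
  exact ⟨τ, hτ, fr.ext hC h5 hc hcR hτ hR, hk, hl, hfix⟩

theorem weights (h5 : Nat.card S = p ^ 5) (fr : Frame p S E c Z k) (hc : Tv p c Z k) {β : MulAut S} {τ : MulAut E}
    (hβ : ∀ (x : S) (hx : (x : Ω) ∈ E), ((β x : S) : Ω) = ((τ ⟨x, hx⟩ : E) : Ω))
    {a b : ℤ} (hab : (p : ℤ) ∣ a * b - 1) (hk : τ k = k ^ a) {ms : S} (hmE : (ms : Ω) ∈ E) (hmZ : ms ∈ fr.ZS)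
    (hmK : ms ∉ fr.K) (hm : τ ⟨ms, hmE⟩ = ⟨ms, hmE⟩) (hl : τ ⟨fr.l, fr.lE⟩ = (⟨fr.l, fr.lE⟩ : E) ^ b) :
    ∃ v : ℤ, (p : ℤ) ∣ v - a ^ 3 ∧ (⁅fr.g, ms⁆ ≠ 1 → (p : ℤ) ∣ v - a) ∧
      (⁅fr.g, fr.x0⁆ ∉ fr.K → (p : ℤ) ∣ v * v * b - 1) ∧ (fr.g ^ v)⁻¹ * β fr.g ∈ fr.T := by
  have hpp : p.Prime := Fact.out
  haveI := fr.Tn
  haveI := fr.Zn
  haveI := fr.Kn
  set ks : S := ⟨(k : Ω), hC.le k.2⟩ with hks
  have hkK : ks ∈ fr.K := (mem_pull' hC.le).mp fr.kK
  have hbl : β fr.l = fr.l ^ b := Subtype.ext (by rw [Subgroup.coe_zpow, hβ _ fr.lE, hl, Subgroup.coe_zpow])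
  have hbm : β ms = ms := Subtype.ext (by rw [hβ _ hmE, hm])
  have hbk : β ks = ks ^ a := Subtype.ext (by
    rw [Subgroup.coe_zpow, hβ ks k.2]
    show ((τ k : E) : Ω) = _
    rw [hk, Subgroup.coe_zpow])
  have hks1 : ks ≠ 1 := fun e => by
    have h1 : k = 1 := Subtype.ext (congrArg Subtype.val e :)
    have := hc.korder
    rw [h1, orderOf_one] at this
    exact hpp.one_lt.ne this
  have hbK : ∀ w ∈ fr.K, β w = w ^ a := by
    intro w hw
    obtain ⟨i, rfl⟩ := exists_zpow_eq fr.cardK hkK hks1 hw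
    rw [map_zpow, hbk, ← zpow_mul, ← zpow_mul, mul_comm]
  have hbT : ∀ t ∈ fr.T, β t ∈ fr.T := by
    intro t ht
    rw [fr.hT, Subgroup.mem_subgroupOf] at ht ⊢
    refine ⟨(β t).2, ?_⟩
    show ((β t : S) : Ω) ∈ Subgroup.normalizer (E : Set Ω)
    rw [Subgroup.mem_normalizer_iff_map_conj_eq]
    haveI := hC.finE
    refine Subgroup.eq_of_le_of_card_ge ?_
      (le_of_eq (Subgroup.card_map_of_injective (MulAut.conj ((β t : S) : Ω)).injective).symm)
    rintro _ ⟨e, he, rfl⟩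
    obtain ⟨e', he'⟩ := τ.surjective ⟨e, he⟩
    have hb' : β ⟨e', hC.le e'.2⟩ = ⟨e, hC.le he⟩ := Subtype.ext (by rw [hβ _ e'.2, he'])
    have hconj : ((t * ⟨e', hC.le e'.2⟩ * t⁻¹ : S) : Ω) ∈ E :=
      (Subgroup.mem_normalizer_iff.mp ht.2 _).mp e'.2
    show ((β t : S) : Ω) * e * ((β t : S) : Ω)⁻¹ ∈ E
    have h := hβ _ hconj
    rw [map_mul, map_mul, map_inv, hb'] at h
    simp only [Subgroup.coe_mul, Subgroup.coe_inv] at h
    rw [h]
    exact (τ _).2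
  have hTi : fr.T.index = p := by
    have := fr.T.card_mul_index
    rw [fr.cardT, h5, pow_succ p 4] at this
    exact Nat.eq_of_mul_eq_mul_left (pow_pos hpp.pos 4) this
  obtain ⟨v, hv⟩ := exists_zpow_mem hTi fr.gT (β fr.g)
  set t := (fr.g ^ v)⁻¹ * β fr.g with ht
  have hbg : β fr.g = fr.g ^ v * t := by rw [ht, mul_inv_cancel_left]
  -- modulo the centre of the normalizer
  have hXc : ∀ q : S ⧸ fr.ZS, Commute (QuotientGroup.mk fr.x0 : S ⧸ fr.ZS) q := fun q => by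
    induction q using QuotientGroup.induction_on with
    | H s => exact mk_commute (K := fr.ZS) (fr.Lstep _ fr.x0L s)
  have hGL : ⁅(QuotientGroup.mk fr.g : S ⧸ fr.ZS), (QuotientGroup.mk fr.l : S ⧸ fr.ZS)⁆ = QuotientGroup.mk fr.x0 := by
    rw [fr.x0_eq]; exact (map_commutatorElement (QuotientGroup.mk' fr.ZS) fr.g fr.l).symm
  have htl : Commute (QuotientGroup.mk t : S ⧸ fr.ZS) (QuotientGroup.mk fr.l) :=
    mk_commute (K := fr.ZS) (fr.KZ (fr.commK _ hv _ (fr.ET fr.lE)))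
  have hx0 : (fr.x0 ^ (v * b))⁻¹ * β fr.x0 ∈ fr.ZS := by
    rw [← QuotientGroup.eq, QuotientGroup.mk_zpow]
    have hb0 : β fr.x0 = ⁅fr.g ^ v * t, fr.l ^ b⁆ := by rw [fr.x0_eq, map_commutatorElement, hbg, hbl]
    have e1 : (QuotientGroup.mk (β fr.x0) : S ⧸ fr.ZS) =
        ⁅(QuotientGroup.mk fr.g : S ⧸ fr.ZS) ^ v * QuotientGroup.mk t, (QuotientGroup.mk fr.l : S ⧸ fr.ZS) ^ b⁆ := by
      rw [hb0]
      exact map_commutatorElement (QuotientGroup.mk' fr.ZS) _ _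
    rw [e1, comm_mul_left (htl.zpow_right b), comm_zpow_zpow (by rw [hGL]; exact (hXc _).symm)
      (by rw [hGL]; exact (hXc _).symm), hGL]
  set y := (fr.x0 ^ (v * b))⁻¹ * β fr.x0 with hy
  have hbx : β fr.x0 = fr.x0 ^ (v * b) * y := by rw [hy, mul_inv_cancel_left]
  set z := ⁅fr.x0, fr.l⁆ with hz
  have hzK := fr.z_mem
  have hzc : ∀ q, Commute z q := fun q => fr.Kcen z hzK q
  have hbz : β z = z ^ (v * b * b) := by
    rw [hz, map_commutatorElement, hbx, hbl,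
      comm_mul_left (show Commute y (fr.l ^ b) from fr.Zcen _ hx0 _ (fr.T.zpow_mem (fr.ET fr.lE) b)),
      comm_zpow_zpow (hzc _).symm (hzc _).symm]
  have hzp := pow_prime_eq_one fr.cardK hzK
  have h1 : (p : ℤ) ∣ a - v * b * b := dvd_of_zpow_eq_one hzp fr.zne (by
    rw [zpow_sub, ← hbK z hzK, hbz, mul_inv_cancel])
  refine ⟨v, ?_, fun hne => ?_, fun hne => ?_, hv⟩
  · obtain ⟨q, hq⟩ := h1
    obtain ⟨r, hr⟩ := hab
    exact ⟨-(q * a * a) - v * r * (a * b + 1), by linear_combination (-(a * a)) * hq - v * (a * b + 1) * hr⟩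
  · set w := ⁅fr.g, ms⁆ with hw
    have hwK : w ∈ fr.K := by rw [hw, ← commutatorElement_inv]; exact fr.K.inv_mem (fr.Zstep _ hmZ _)
    have hwc : ∀ q, Commute w q := fun q => fr.Kcen w hwK q
    have hbw : β w = w ^ v := by
      rw [hw, map_commutatorElement, hbg, hbm,
        comm_mul_left (show Commute t ms from (fr.Zcen _ hmZ _ hv).symm)]
      conv_lhs => rw [← zpow_one ms]
      rw [comm_zpow_zpow (hwc _).symm (hwc _).symm, mul_one]
    refine dvd_of_zpow_eq_one (pow_prime_eq_one fr.cardK hwK) hne ?_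
    rw [zpow_sub, ← hbK w hwK, hbw, mul_inv_cancel]
  · set w := ⁅fr.g, fr.x0⁆ with hw
    have hwZ : w ∈ fr.ZS := by rw [hw, ← commutatorElement_inv]; exact fr.ZS.inv_mem (fr.Lstep _ fr.x0L _)
    have hZc : ∀ u ∈ fr.ZS, ∀ q : S ⧸ fr.K, Commute (QuotientGroup.mk u : S ⧸ fr.K) q := fun u hu q => by
      induction q using QuotientGroup.induction_on with
      | H s => exact mk_commute (K := fr.K) (fr.Zstep _ hu s)
    have hW : ⁅(QuotientGroup.mk fr.g : S ⧸ fr.K), (QuotientGroup.mk fr.x0 : S ⧸ fr.K)⁆ = QuotientGroup.mk w :=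
      (map_commutatorElement (QuotientGroup.mk' fr.K) fr.g fr.x0).symm
    have htx : Commute (QuotientGroup.mk t : S ⧸ fr.K) (QuotientGroup.mk fr.x0) :=
      mk_commute (K := fr.K) (fr.commK _ hv _ (fr.LT fr.x0L))
    have e1 : (QuotientGroup.mk (β w) : S ⧸ fr.K) = (QuotientGroup.mk w) ^ (v * (v * b)) := by
      have hb0 : β w = ⁅fr.g ^ v * t, fr.x0 ^ (v * b) * y⁆ := by rw [hw, map_commutatorElement, hbg, hbx]
      have : (QuotientGroup.mk (β w) : S ⧸ fr.K) = ⁅(QuotientGroup.mk fr.g : S ⧸ fr.K) ^ v * QuotientGroup.mk t,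
          (QuotientGroup.mk fr.x0 : S ⧸ fr.K) ^ (v * b) * QuotientGroup.mk y⁆ := by
        rw [hb0]
        exact map_commutatorElement (QuotientGroup.mk' fr.K) _ _
      rw [this, comm_mul_right (hZc y hx0 _).symm, comm_mul_left (htx.zpow_right _),
        comm_zpow_zpow (by rw [hW]; exact (hZc w hwZ _).symm) (by rw [hW]; exact (hZc w hwZ _).symm), hW]
    -- the axis is fixed modulo the line
    haveI : (fr.K.subgroupOf fr.ZS).Normal := Subgroup.normal_subgroupOf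
    obtain ⟨i, hi⟩ := exists_zpow_mem (M := fr.K.subgroupOf fr.ZS) (p := p) (by
      have := Quad.card_mul_relIndex fr.KZ
      rw [fr.cardK, fr.cardZ, pow_two] at this
      exact Nat.eq_of_mul_eq_mul_left hpp.pos this) (x := (⟨ms, hmZ⟩ : fr.ZS)) hmK ⟨w, hwZ⟩
    have hi' : (ms ^ i)⁻¹ * w ∈ fr.K := hi
    have e2 : (QuotientGroup.mk (β w) : S ⧸ fr.K) = QuotientGroup.mk w := by
      rw [mk_eq_of_mem hi']
      refine mk_eq_of_mem ?_
      have h := hbK _ hi'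
      rw [map_mul, map_inv, map_zpow, hbm] at h
      rw [h]
      exact fr.K.zpow_mem hi' a
    have hd := dvd_of_zpow_mem (p := p) (K := fr.K) (L := fr.ZS) fr.KZ (by rw [fr.cardK, fr.cardZ, pow_two]) hwZ hne
      (m := v * (v * b) - 1) (by rw [← QuotientGroup.eq_one_iff, QuotientGroup.mk_zpow, zpow_sub, ← e1, e2,
        zpow_one, mul_inv_cancel])
    rwa [← mul_assoc] at hd

theorem exists_axis (hc : Tv p c Z k) {φ : MulAut E} (hk : k ∉ Z.map φ.toMonoidHom) :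
    ∃ m : E, m ∈ Z ∧ m ∈ Z.map φ.toMonoidHom ∧ m ∉ Subgroup.zpowers k := by
  haveI := hC.finE
  have hpp : p.Prime := Fact.out
  obtain ⟨m, hm, hm1⟩ : ∃ m ∈ Z ⊓ Z.map φ.toMonoidHom, m ≠ 1 := by
    by_contra hh
    push Not at hh
    refine absurd (Subgroup.index_inf_le (H := Z) (K := Z.map φ.toMonoidHom)) ?_
    rw [(Subgroup.eq_bot_iff_forall _).mpr hh, Subgroup.index_bot, hC.card, hc.idx,
      Subgroup.index_map_of_bijective φ.bijective, hc.idx]
    nlinarith [hpp.two_le, Nat.mul_le_mul hpp.two_le (le_refl (p * p))]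
  refine ⟨m, hm.1, hm.2, fun ⟨i, hi⟩ => ?_⟩
  have hi' : k ^ i = m := hi
  by_cases hdiv : (p : ℤ) ∣ i
  · rw [← hc.korder] at hdiv
    rw [orderOf_dvd_iff_zpow_eq_one.mp hdiv] at hi'
    exact hm1 hi'.symm
  · obtain ⟨u, w, huw⟩ : IsCoprime i (p : ℤ) :=
      ((Nat.prime_iff_prime_int.mp hpp).coprime_iff_not_dvd.mpr hdiv).symm
    refine hk ?_
    have hk1 : k ^ (p : ℤ) = 1 := by rw [zpow_natCast, ← hc.korder, pow_orderOf_eq_one]
    have := (Z.map φ.toMonoidHom).zpow_mem hm.2 u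
    rwa [← hi', ← zpow_mul, show k ^ (i * u) = k from by
      rw [show i * u = 1 + (p : ℤ) * (-w) by linear_combination huw, zpow_add, zpow_mul, hk1, one_zpow, mul_one,
        zpow_one]] at this

/-- The prime is three, and the third layer is not central. -/
theorem shape (h : H5 p F) (hc : Tv p c Z k) (hcR : c ∈ autInducedBy S E) {φ : MulAut E} (hφ : φ ∈ F.autGroup E)
    (h1 : φ k ∉ Z) (h2 : k ∉ Z.map φ.toMonoidHom) (fr : Frame p S E c Z k) (hfl : (fr.l : Ω) = φ k) :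
    p = 3 ∧ ⁅fr.g, fr.x0⁆ ∈ fr.K ∧ ∃ ms : S, ∃ β ∈ F.autGroup S, ms ∈ fr.ZS ∧ ms ∉ fr.K ∧ ⁅fr.g, ms⁆ ≠ 1 ∧
      β fr.l = fr.l⁻¹ ∧ β ms = ms ∧ ∃ v : ℤ, (p : ℤ) ∣ v + 1 ∧ (fr.g ^ v)⁻¹ * β fr.g ∈ fr.T := by
  have hpp : p.Prime := Fact.out
  have h5 := h.card
  haveI := fr.Zn
  haveI := fr.Kn
  haveI := fr.Tn
  obtain ⟨m, hmZ, hmφ, hmk⟩ := hC.exists_axis hc h2
  have hkK : (⟨(k : Ω), hC.le k.2⟩ : S) ∈ fr.K := (mem_pull' hC.le).mp fr.kK
  set ms : S := ⟨(m : Ω), hC.le m.2⟩ with hms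
  have hmsZ : ms ∈ fr.ZS := by
    have : m ∈ pull fr.ZS E := by rw [fr.pullZ]; exact hmZ
    exact (mem_pull' hC.le).mp this
  have hks1 : (⟨(k : Ω), hC.le k.2⟩ : S) ≠ 1 := fun e => by
    have h1 : k = 1 := Subtype.ext (congrArg Subtype.val e :)
    have := hc.korder
    rw [h1, orderOf_one] at this
    exact hpp.one_lt.ne this
  have hmsK : ms ∉ fr.K := fun hh => hmk (by
    obtain ⟨i, hi⟩ := exists_zpow_eq fr.cardK hkK hks1 hh
    exact ⟨i, Subtype.ext ((Subgroup.coe_zpow E k i).trans ((Subgroup.coe_zpow S _ i).symm.trans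
      (congrArg Subtype.val hi)))⟩)
  have hfl' : (⟨(fr.l : Ω), fr.lE⟩ : E) = φ k := Subtype.ext hfl
  have key : ∀ a b : ℤ, (p : ℤ) ∣ a * b - 1 → ∃ β ∈ F.autGroup S, β fr.l = fr.l ^ b ∧ β ms = ms ∧ ∃ v : ℤ,
      (p : ℤ) ∣ v - a ^ 3 ∧ (⁅fr.g, ms⁆ ≠ 1 → (p : ℤ) ∣ v - a) ∧ (⁅fr.g, fr.x0⁆ ∉ fr.K → (p : ℤ) ∣ v * v * b - 1) ∧
      (fr.g ^ v)⁻¹ * β fr.g ∈ fr.T := by
    intro a b hab
    obtain ⟨τ, -, ⟨β, hβA, hβ⟩, hk, hl, hfix⟩ := hC.torus_at h5 hc hcR hφ h1 h2 hab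
    have hl' : τ ⟨fr.l, fr.lE⟩ = (⟨fr.l, fr.lE⟩ : E) ^ b := by rw [hfl']; exact hl
    refine ⟨β, hβA, Subtype.ext (by rw [Subgroup.coe_zpow, hβ _ fr.lE, hl', Subgroup.coe_zpow]),
      Subtype.ext (by rw [hβ _ m.2]; exact congrArg Subtype.val (hfix m hmZ hmφ)), ?_⟩
    exact hC.weights h5 fr hc hβ hab hk (ms := ms) m.2 hmsZ hmsK (hfix m hmZ hmφ) hl'
  have h2ne : ¬ (p : ℤ) ∣ 2 := fun hd => h.odd ((Nat.prime_dvd_prime_iff_eq hpp Nat.prime_two).mp (by exact_mod_cast hd))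
  obtain ⟨β, hβA, hbl, hbm, v, hv1, hvm, hvx, hvT⟩ := key (-1) (-1) (by norm_num)
  have hgx : ⁅fr.g, fr.x0⁆ ∈ fr.K := by
    by_contra hne
    obtain ⟨q, hq⟩ := hvx hne
    obtain ⟨r, hr⟩ := hv1
    exact h2ne ⟨-q - r * (v - 1), by linear_combination -(hq : v * v * (-1) - 1 = _) - (v - 1) * hr⟩
  have hgm : ⁅fr.g, ms⁆ ≠ 1 := by
    intro hgm
    -- an abelian subgroup of index `p`
    obtain ⟨e, he⟩ := exists_zpow_eq fr.cardK fr.z_mem fr.zne hgx
    set g' := fr.g * fr.l ^ e with hg'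
    have hzc : ∀ q, Commute ⁅fr.x0, fr.l⁆ q := fun q => fr.Kcen _ fr.z_mem q
    have hlx : ⁅fr.l, fr.x0⁆ = ⁅fr.x0, fr.l⁆⁻¹ := (commutatorElement_inv _ _).symm
    have hg'x : Commute g' fr.x0 := by
      refine commutatorElement_eq_one_iff_commute.mp ?_
      rw [hg', show ⁅fr.g * fr.l ^ e, fr.x0⁆ = fr.g * ⁅fr.l ^ e, fr.x0⁆ * fr.g⁻¹ * ⁅fr.g, fr.x0⁆ by
        simp only [commutatorElement_def]; group]
      have h3 : ⁅fr.l ^ e, fr.x0⁆ = ⁅fr.x0, fr.l⁆⁻¹ ^ e := by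
        conv_lhs => rw [show fr.x0 = fr.x0 ^ (1 : ℤ) from (zpow_one _).symm]
        rw [comm_zpow_zpow (by rw [hlx]; exact (hzc _).inv_left.symm) (by rw [hlx]; exact (hzc _).inv_left.symm), hlx,
          mul_one]
      rw [h3, ← (((hzc fr.g).inv_left).zpow_left e).eq, mul_inv_cancel_right, ← he, inv_zpow, inv_mul_cancel]
    have hgK : ∀ y ∈ fr.K, Commute g' y := fun y hy => (fr.Kcen y hy g').symm
    have hg'm : Commute g' ms := (commutatorElement_eq_one_iff_commute.mp hgm).mul_left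
      ((show Commute ms (fr.l ^ e) from fr.Zcen _ hmsZ _ (fr.T.zpow_mem (fr.ET fr.lE) e)).symm)
    let B := fr.L ⊔ Subgroup.zpowers g'
    have hg'L : g' ∉ fr.L := fun hh => fr.gT ((fr.T.mul_mem_cancel_right (fr.T.zpow_mem (fr.ET fr.lE) e)).mp (fr.LT hh))
    have hZgen : fr.ZS ≤ fr.K ⊔ Subgroup.zpowers ms := by
      have hlt : fr.K < fr.ZS ⊓ (fr.K ⊔ Subgroup.zpowers ms) := lt_of_le_of_ne (le_inf fr.KZ le_sup_left)
        fun e => hmsK (e.ge ⟨hmsZ, Subgroup.mem_sup_right (Subgroup.mem_zpowers _)⟩)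
      have hb := Quad.lt_card_mul hC.pg hlt
      rw [fr.cardK, ← pow_two] at hb
      exact (Subgroup.eq_of_le_of_card_ge inf_le_left (fr.cardZ.trans_le hb)).ge.trans inf_le_right
    have hcen : fr.L ≤ Subgroup.centralizer ({g'} : Set S) := by
      refine (fr.L_le hC).trans (sup_le (hZgen.trans (sup_le (fun y hy => ?_) (Subgroup.zpowers_le.mpr ?_)))
        (Subgroup.zpowers_le.mpr ?_))
      · exact Subgroup.mem_centralizer_singleton_iff.mpr (hgK y hy).symm.eq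
      · exact Subgroup.mem_centralizer_singleton_iff.mpr hg'm.symm.eq
      · exact Subgroup.mem_centralizer_singleton_iff.mpr hg'x.symm.eq
    have hBab : ∀ a ∈ B, ∀ b ∈ B, a * b = b * a := by
      haveI := fr.Ln
      intro a ha b hb
      obtain ⟨y, hy, _, ⟨i, rfl⟩, rfl⟩ := Subgroup.mem_sup_of_normal_left.mp ha
      obtain ⟨w, hw, _, ⟨j, rfl⟩, rfl⟩ := Subgroup.mem_sup_of_normal_left.mp hb
      have hc' : ∀ y ∈ fr.L, Commute y g' := fun y hy => Subgroup.mem_centralizer_singleton_iff.mp (hcen hy)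
      exact (((show Commute y w from fr.Label y hy w hw).mul_right ((hc' y hy).zpow_right j)).mul_left
        ((((hc' w hw).zpow_right i).symm).mul_right ((Commute.refl g').zpow_zpow i j))).eq
    have hlt : fr.L < B := lt_of_le_of_ne le_sup_left fun e => hg'L (e.ge (Subgroup.mem_sup_right (Subgroup.mem_zpowers _)))
    have hb := Quad.lt_card_mul hC.pg hlt
    rw [fr.cardL, ← pow_succ] at hb
    obtain ⟨B₀, hB₀⟩ := Sylow.exists_subgroup_card_pow_prime (G := B) p (n := 4) (by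
      obtain ⟨i, hi⟩ := IsPGroup.iff_card.mp (hC.pg.to_subgroup B)
      rw [hi] at hb ⊢
      exact pow_dvd_pow p ((Nat.pow_le_pow_iff_right hpp.one_lt).mp hb))
    obtain ⟨a, ha, b, hb', hab⟩ := h.noab' (B₀.map B.subtype)
      ((Subgroup.card_map_of_injective B.subtype_injective).trans hB₀)
    exact hab (hBab a (Subgroup.map_subtype_le _ ha) b (Subgroup.map_subtype_le _ hb'))
  refine ⟨?_, hgx, ms, β, hβA, hmsZ, hmsK, hgm, by rw [hbl, zpow_neg_one], hbm, v, ?_, hvT⟩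
  · by_contra h3
    have h5' : 5 ≤ p := by
      have := hpp.two_le
      rcases (show p = 2 ∨ p = 3 ∨ p = 4 ∨ 5 ≤ p by omega) with rfl | rfl | rfl | h5'
      · exact absurd rfl h.odd
      · exact absurd rfl h3
      · norm_num at hpp
      · exact h5'
    obtain ⟨m', hm'⟩ : ∃ m', p = 2 * m' + 1 := ⟨p / 2, by
      have := hpp.odd_of_ne_two h.odd
      obtain ⟨r, hr⟩ := this
      omega⟩
    obtain ⟨_, -, -, -, w, hw1, hw2, -, -⟩ := key 2 ((m' : ℤ) + 1) ⟨1, by rw [hm']; push_cast; ring⟩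
    obtain ⟨q1, hq1⟩ := hw1
    obtain ⟨q2, hq2⟩ := hw2 hgm
    have h6 : (p : ℤ) ∣ 6 := ⟨q2 - q1, by linear_combination hq2 - hq1⟩
    have h6' : p ∣ 2 * 3 := by exact_mod_cast h6
    rcases (Nat.Prime.dvd_mul hpp).mp h6' with hd | hd
    · have := Nat.le_of_dvd (by norm_num) hd; omega
    · have := Nat.le_of_dvd (by norm_num) hd; omega
  · obtain ⟨q, hq⟩ := hv1
    exact ⟨q, by linear_combination hq⟩

end Cube

end Cfsg.OrderPFive
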