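import Cfsg.Agent.Lib.Fusion.MaxClassCube.Transvection
import Cfsg.Agent.Lib.Fusion.Alperin
import Cfsg.Agent.Lib.StronglyEmbedded

/-!
An elementary abelian essential subgroup of order `p ^ 3`: the group of automorphisms, and extensions
of maps (the general form of the set-up used for groups of maximal class).
-/

set_option autoImplicit false
set_option linter.unusedSectionVars false

namespace Cfsg.OrderPFive

open scoped commutatorElement
open FusionSystem SmallCentre MaxClassCube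

variable {Ω : Type*} [Group Ω] {S : Subgroup Ω} [Finite S] {p : ℕ} [Fact p.Prime]
  {F : FusionSystem S} {E : Subgroup Ω}

/-- The standing hypotheses. -/
structure Cube (p : ℕ) (F : FusionSystem S) (E : Subgroup Ω) : Prop where
  pg : IsPGroup p S
  sat : F.IsSaturated p
  ess : F.IsEssential p E
  card : Nat.card E = p ^ 3
  comm : ∀ a ∈ E, ∀ b ∈ E, a * b = b * a
  exp : ∀ a ∈ E, a ^ p = 1

/-- Conjugation on `E` by an element of its normalizer. -/
def conjAut {z : Ω} (hz : z ∈ Subgroup.normalizer (E : Set Ω)) : MulAut E := E.normalizerMonoidHom ⟨z, hz⟩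

theorem conjAut_apply {z : Ω} (hz : z ∈ Subgroup.normalizer (E : Set Ω)) (e : E) :
    ((conjAut hz e : E) : Ω) = z * e * z⁻¹ := rfl

namespace Cube

theorem le (h : Cube p F E) : E ≤ S := h.ess.1.1

theorem finE (h : Cube p F E) : Finite E := finite_of_le h.le

theorem centralizerIn_le (h : Cube p F E) : centralizerIn S E ≤ E := h.ess.1.centralizerIn_le_self

theorem centralizerIn_eq (h : Cube p F E) : centralizerIn S E = E :=
  le_antisymm h.centralizerIn_le (le_inf h.le fun x hx =>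
    Subgroup.mem_centralizer_iff.mpr fun y hy => h.comm y hy x hx)

theorem zpow_p (h : Cube p F E) {k : Ω} (hk : k ∈ E) (hk1 : k ≠ 1) : orderOf k = p :=
  orderOf_eq_prime (h.exp k hk) hk1

theorem exists_hyp (h : Cube p F E) :
    ∃ Y : Subgroup (MulAut E), Hyp p (F.autGroup E) Y (autInducedBy S E) := by
  haveI := h.finE
  haveI := finite_autGroup (F := F) h.le
  obtain ⟨hN, Y₀, hY₀⟩ := h.ess.2.2
  let N := (Inn E).subgroupOf (F.autGroup E)
  let q : F.autGroup E →* F.autGroup E ⧸ N := QuotientGroup.mk' N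
  have hNbot : N = ⊥ := by
    refine (Subgroup.eq_bot_iff_forall _).mpr fun α hα => Subtype.ext ?_
    obtain ⟨u, hu⟩ := (Subgroup.mem_subgroupOf.mp hα : (α : MulAut E) ∈ Inn E)
    show (α : MulAut E) = 1
    rw [← hu]
    ext x
    show (u : Ω) * x * (u : Ω)⁻¹ = x
    rw [h.comm u u.2 x x.2, mul_inv_cancel_right]
  have hqinj : Function.Injective q := by
    rw [← MonoidHom.ker_eq_bot_iff, QuotientGroup.ker_mk', hNbot]
  have hqsurj : Function.Surjective q := QuotientGroup.mk'_surjective N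
  obtain ⟨-, T, hT⟩ := h.sat.isFullyAutomized_of_isFullyNormalized h.pg h.ess.2.1
  obtain ⟨Y₁, hY₁, hcore⟩ := hY₀.exists_sylow_normalizer_le (T.mapSurjective hqsurj)
  have hse : Cfsg.IsStronglyPEmbedded p Y₁ := ⟨hY₀.1, hY₁, _, hcore⟩
  have hP : IsPGroup p (autInducedBy S E) := isPGroup_autInducedBy h.pg
  have hPX : autInducedBy S E ≤ F.autGroup E := autInducedBy_le_autGroup h.le
  let Y : Subgroup (MulAut E) := (Y₁.comap q).map (F.autGroup E).subtype
  have hmemY : ∀ a : F.autGroup E, (a : MulAut E) ∈ Y ↔ q a ∈ Y₁ := fun a =>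
    Subgroup.mem_map_iff_mem (F.autGroup E).subtype_injective
  have hTY : ∀ a : F.autGroup E, (a : MulAut E) ∈ autInducedBy S E → q a ∈ Y₁ := by
    intro a ha
    by_cases ha1 : a = 1
    · rw [ha1, map_one]; exact Y₁.one_mem
    have hm : q a ∈ ((T.mapSurjective hqsurj : Sylow p _) : Subgroup (F.autGroup E ⧸ N)) :=
      ⟨a, hT.ge ha, rfl⟩
    have hne : ((T.mapSurjective hqsurj : Sylow p _) : Subgroup (F.autGroup E ⧸ N)) ≠ ⊥ := fun e => by
      rw [e, Subgroup.mem_bot] at hm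
      exact ha1 (hqinj (hm.trans (map_one q).symm))
    exact hcore (normalizer_le_kGeneratedCore (T.mapSurjective hqsurj).2 le_rfl hne (Subgroup.le_normalizer hm))
  refine ⟨Y, ⟨h.pg.to_le h.le, fun a b => Subtype.ext (h.comm a a.2 b b.2), h.card, Subgroup.map_subtype_le _,
    ?_, fun α hα => (hmemY ⟨α, hPX hα⟩).mpr (hTY _ hα), hP, ?_, ?_, ?_⟩⟩
  · by_contra hh
    push Not at hh
    refine hY₁ ((Subgroup.eq_top_iff' _).mpr fun x => ?_)
    obtain ⟨a, rfl⟩ := hqsurj x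
    exact (hmemY a).mp (hh a a.2)
  · intro U hU hUp
    have hUp' : IsPGroup p (U.subgroupOf (F.autGroup E)) := hUp.of_equiv (Subgroup.subgroupOfEquivOfLe hU).symm
    obtain ⟨T', hT'⟩ := hUp'.exists_le_sylow
    rw [← Nat.card_congr (Subgroup.subgroupOfEquivOfLe hU).toEquiv,
      ← Nat.card_congr (Subgroup.subgroupOfEquivOfLe hPX).toEquiv, ← hT, T.card_eq_multiplicity,
      ← T'.card_eq_multiplicity]
    exact Subgroup.card_le_of_le hT'
  · intro U hU hUp u hu hu1 huY α hα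
    refine (hmemY ⟨α, hU hα⟩).mpr ?_
    let V : Subgroup (F.autGroup E ⧸ N) := (U.subgroupOf (F.autGroup E)).map q
    have hVp : IsPGroup p V := (hUp.of_equiv (Subgroup.subgroupOfEquivOfLe hU).symm).map q
    suffices hV : V ≤ Y₁ from hV ⟨_, Subgroup.mem_subgroupOf.mpr hα, rfl⟩
    have hW1 : V ⊓ Y₁ ≠ ⊥ := fun e => hu1 (by
      have hm : q ⟨u, hU hu⟩ ∈ V ⊓ Y₁ := ⟨⟨_, Subgroup.mem_subgroupOf.mpr hu, rfl⟩, (hmemY ⟨u, hU hu⟩).mp huY⟩
      rw [e, Subgroup.mem_bot] at hm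
      exact congrArg Subtype.val (hqinj (hm.trans (map_one q).symm)))
    by_contra hV
    haveI : Group.IsNilpotent V := hVp.isNilpotent
    have hlt : (V ⊓ Y₁).subgroupOf V < ⊤ := by
      rw [lt_top_iff_ne_top, Ne, Subgroup.subgroupOf_eq_top]
      exact fun hh => hV (hh.trans inf_le_right)
    obtain ⟨w, hwN, hw⟩ := SetLike.exists_of_lt (Group.normalizerCondition_of_isNilpotent (G := V) _ hlt)
    refine hw (Subgroup.mem_subgroupOf.mpr ⟨w.2, CfsgLib.StronglyEmbedded.mem_of_conj_le hse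
      (hVp.to_le inf_le_left) hW1 inf_le_right fun x hx => ?_⟩)
    exact ((Subgroup.mem_normalizer_iff.mp hwN ⟨x, hx.1⟩).mp hx).2
  · intro u hu hu1 g hg hgu
    refine (hmemY ⟨g, hg⟩).mpr ?_
    let u' : F.autGroup E := ⟨u, hPX hu⟩
    have hu'1 : q u' ≠ 1 := fun e => hu1 (congrArg Subtype.val (hqinj (e.trans (map_one q).symm)))
    have hu'p : IsPGroup p (Subgroup.zpowers u') :=
      (hP.comap_of_injective (F.autGroup E).subtype (F.autGroup E).subtype_injective).to_le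
        (Subgroup.zpowers_le.mpr hu)
    refine CfsgLib.StronglyEmbedded.mem_of_conj_le hse (hu'p.map q) ?_ ?_ ?_
    · intro e
      exact hu'1 ((Subgroup.eq_bot_iff_forall _).mp e _ ⟨u', Subgroup.mem_zpowers u', rfl⟩)
    · rw [MonoidHom.map_zpowers, Subgroup.zpowers_le]
      exact hTY u' hu
    · intro x hx
      rw [MonoidHom.map_zpowers] at hx
      obtain ⟨i, rfl⟩ := hx
      show q ⟨g, hg⟩ * q u' ^ i * (q ⟨g, hg⟩)⁻¹ ∈ Y₁
      rw [← conj_zpow, ← map_inv, ← map_mul, ← map_mul]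
      exact Y₁.zpow_mem ((hmemY _).mp hgu) i

/-- A normalizing element moving `E` into a cyclic subgroup it centralizes gives a transvection. -/
theorem tv_of_element (h : Cube p F E) {z : Ω} (hz : z ∈ normalizerIn S E) (hzE : z ∉ E) {k : E}
    (hk : k ≠ 1) (hzk : z * (k : Ω) * z⁻¹ = k)
    (hrange : ∀ e : E, e⁻¹ * conjAut hz.2 e ∈ Subgroup.zpowers k) :
    Tv p (conjAut hz.2) (fixed (conjAut hz.2)) k ∧ conjAut hz.2 ∈ autInducedBy S E := by
  haveI := h.finE
  refine ⟨tv_of_range (fun a b => Subtype.ext (h.comm a a.2 b b.2)) ?_ ?_ (Subtype.ext hzk) hrange,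
    mem_autInducedBy_iff.mpr ⟨z, hz.1, hz.2, fun _ => rfl⟩⟩
  · exact orderOf_eq_prime (Subtype.ext (h.exp k k.2)) hk
  · intro e
    refine hzE (h.centralizerIn_le ⟨hz.1, Subgroup.mem_centralizer_iff.mpr fun x hx => ?_⟩)
    have h1 := congrArg (fun a : MulAut E => ((a ⟨x, hx⟩ : E) : Ω)) e
    exact (mul_inv_eq_iff_eq_mul.mp (show z * x * z⁻¹ = x from h1)).symm

theorem card_normalizer (h : Cube p F E) {c : MulAut E} {Z : Subgroup E} {k : E} (hc : Tv p c Z k)
    (hcP : c ∈ autInducedBy S E) : Nat.card (normalizerIn S E) = p ^ 4 := by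
  haveI := h.finE
  haveI : Finite (MulAut E) := Finite.of_injective (fun α : MulAut E => (α : E → E)) DFunLike.coe_injective
  obtain ⟨Y, hY⟩ := h.exists_hyp
  have hP := hY.zpowers_eq hc hcP
  have hcp : c ^ (p : ℤ) = 1 := by
    ext e
    obtain ⟨i, hi⟩ := hc.range e
    rw [hc.zpow_apply (show c e = e * k ^ i by rw [show k ^ i = _ from hi, mul_inv_cancel_left]),
      orderOf_dvd_iff_zpow_eq_one.mp (by rw [hc.korder]; exact dvd_mul_left _ _), mul_one]
    rfl
  rw [zpow_natCast] at hcp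
  rw [← card_autInducedBy_mul S E, hP, Nat.card_zpowers, orderOf_eq_prime hcp hc.ne_one, h.centralizerIn_eq, h.card,
    ← pow_succ']

/-- Conjugates of `E` are centric of the same order, with no larger normalizers. -/
theorem conj_facts (h : Cube p F E) {Q : Subgroup Ω} (hQ : F.IsConj E Q) :
    Q ≤ S ∧ Nat.card Q = p ^ 3 ∧ centralizerIn S Q ≤ Q ∧
      Nat.card (normalizerIn S Q) ≤ Nat.card (normalizerIn S E) :=
  ⟨hQ.le_right, hQ.card_eq.symm.trans h.card, h.ess.1.2 Q hQ, h.ess.2.1.2 Q hQ⟩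

theorem range_comm (h : Cube p F E) {c : MulAut E} {Z : Subgroup E} {k : E} (hc : Tv p c Z k)
    (hcP : c ∈ autInducedBy S E) {v : Ω} (hv : v ∈ normalizerIn S E) {e : Ω} (he : e ∈ E) :
    ⁅e, v⁆ ∈ Subgroup.zpowers (k : Ω) := by
  haveI := h.finE
  obtain ⟨Y, hY⟩ := h.exists_hyp
  have hv' : conjAut hv.2 ∈ autInducedBy S E := mem_autInducedBy_iff.mpr ⟨v, hv.1, hv.2, fun _ => rfl⟩
  rw [hY.zpowers_eq hc hcP] at hv'
  obtain ⟨j, hj⟩ := hv'
  obtain ⟨i, hi⟩ := hc.range ⟨e, he⟩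
  have h1 : (c ^ j) ⟨e, he⟩ = (⟨e, he⟩ : E) * k ^ (i * j) :=
    hc.zpow_apply (by rw [show k ^ i = _ from hi, mul_inv_cancel_left]) j
  rw [show c ^ j = conjAut hv.2 from hj] at h1
  have h2 : v * e * v⁻¹ = e * (k : Ω) ^ (i * j) := congrArg Subtype.val h1
  refine ⟨-(i * j), ?_⟩
  show (k : Ω) ^ (-(i * j)) = ⁅e, v⁆
  rw [show ⁅e, v⁆ = e * (v * e * v⁻¹)⁻¹ by rw [commutatorElement_def]; group, h2, mul_inv_rev, ← zpow_neg,
    ← mul_assoc, h.comm e he _ (E.zpow_mem k.2 (-(i * j))), mul_inv_cancel_right]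

/-- An automorphism stabilizing the centre and axis extends to the normalizer. -/
theorem exists_extension (h : Cube p F E) {c : MulAut E} {Z : Subgroup E} {k : E} (hc : Tv p c Z k)
    (hcP : c ∈ autInducedBy S E) {τ : MulAut E} (hτ : τ ∈ F.autGroup E) (hZ : Z.map τ.toMonoidHom = Z) :
    ∃ σ ∈ F.Hom (normalizerIn S E), σ.range = normalizerIn S E ∧
      ∀ (e : E) (he : (e : Ω) ∈ normalizerIn S E), σ ⟨e, he⟩ = ((τ e : E) : Ω) := by
  haveI := h.finE
  obtain ⟨Y, hY⟩ := h.exists_hyp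
  have hP := hY.zpowers_eq hc hcP
  obtain ⟨φ, hφ, hrφ, hφe⟩ := exists_map_of_mem_autGroup h.le hτ
  have hnorm : normalizerIn S E ≤ extender S E φ := by
    intro g hg
    rw [mem_extender_iff (F.apply_mem hφ)]
    refine ⟨hg.1, hg.2, ?_⟩
    have hgP : conjAut hg.2 ∈ autInducedBy S E := mem_autInducedBy_iff.mpr ⟨g, hg.1, hg.2, fun _ => rfl⟩
    have hcon : τ * c * τ⁻¹ ∈ Subgroup.zpowers c := by
      have := hY.unique_conj hc hcP (hc.conj τ) ((F.autGroup E).mul_mem ((F.autGroup E).mul_mem hτ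
        (hY.YX (hY.PY hcP))) ((F.autGroup E).inv_mem hτ)) (Subgroup.one_mem _) (ψ := 1) (by rw [hZ]; exact hc.kZ)
      simpa using this
    have hm : τ * conjAut hg.2 * τ⁻¹ ∈ autInducedBy S E := by
      rw [hP] at hgP ⊢
      obtain ⟨j, hj⟩ := hgP
      rw [← hj]
      show τ * c ^ j * τ⁻¹ ∈ _
      rw [← conj_zpow]
      exact Subgroup.zpow_mem _ hcon j
    obtain ⟨g', hg', -, he⟩ := mem_autInducedBy_iff.mp hm
    refine ⟨g', hg', fun x hx => ?_⟩
    rw [hφe, hφe, ← he]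
    show ((τ _ : E) : Ω) = ((τ (conjAut hg.2 (τ⁻¹ (τ x))) : E) : Ω)
    rw [MulAut.inv_apply_self]
    rfl
  obtain ⟨ψ, hψ, hψe⟩ :=
    (h.sat.isReceptive_of_isFullyNormalized h.pg h.ess.2.1).2 E φ hφ hrφ
  have hσ := F.restrict_mem hψ hnorm
  have hag : ∀ x : E, (ψ.comp (Subgroup.inclusion hnorm)) ⟨x, le_normalizerIn h.le x.2⟩ = φ x :=
    fun x => hψe x x.2 _
  refine ⟨_, hσ, ?_, fun e he => (hψe e e.2 (hnorm he)).trans (hφe e)⟩
  have hle : (ψ.comp (Subgroup.inclusion hnorm)).range ≤ normalizerIn S E := by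
    rintro _ ⟨g, rfl⟩
    exact mapsTo_normalizerIn hσ (le_normalizerIn h.le) le_rfl hag hrφ g
  haveI : Finite (normalizerIn S E) := finite_normalizerIn
  refine Subgroup.eq_of_le_of_card_ge hle (le_of_eq ?_)
  exact Nat.card_congr (MonoidHom.ofInjective (F.injective_of_mem hσ)).toEquiv

end Cube

end Cfsg.OrderPFive
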