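import Cfsg.Agent.Lib.Fusion.EssentialSmall.Basic
import Cfsg.Agent.Lib.Fusion.Hyperfocal
import Cfsg.Agent.Lib.Fusion.Saturation

/-!
Extending automorphisms up the normalizer tower of a subgroup.
-/

set_option autoImplicit false
set_option linter.unusedSectionVars false

namespace Cfsg.OrderPFive

open FusionSystem

variable {Ω : Type*} [Group Ω] {S P N : Subgroup Ω} [Finite S] {p : ℕ} [Fact p.Prime] {F : FusionSystem S}

theorem isFullyNormalized_of_le (hP : P ≤ S) (h : S ≤ Subgroup.normalizer (P : Set Ω)) : F.IsFullyNormalized P :=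
  haveI := finite_normalizerIn (S := S) (P := P)
  ⟨hP, fun R _ => Subgroup.card_le_of_le (fun g hg => ⟨hg.1, h hg.1⟩ : normalizerIn S R ≤ normalizerIn S P)⟩

theorem normalizerIn_eq_of_le (h : S ≤ Subgroup.normalizer (P : Set Ω)) : normalizerIn S P = S :=
  inf_eq_left.mpr h

/-- A fully normalized subgroup that is not normal is not conjugate to a normal one. -/
theorem not_isConj_normal (hP : F.IsFullyNormalized P) (hn : ¬ S ≤ Subgroup.normalizer (P : Set Ω)) {Q : Subgroup Ω}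
    (hQ : S ≤ Subgroup.normalizer (Q : Set Ω)) : ¬ F.IsConj P Q := fun h => by
  have hc := hP.2 Q h
  rw [normalizerIn_eq_of_le hQ] at hc
  refine hn (inf_eq_left.mp (Subgroup.eq_of_le_of_card_ge inf_le_left hc))

/-- An automorphism normalizing `Aut_S(P)` extends to the normalizer. -/
theorem exists_extend (hS : IsPGroup p S) (hF : F.IsSaturated p) (hPn : F.IsFullyNormalized P)
    (hN : normalizerIn S P = N) {τ : MulAut P} (hτ : τ ∈ F.autGroup P)
    (hR : ∀ r ∈ autInducedBy S P, τ * r * τ⁻¹ ∈ autInducedBy S P) :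
    ∃ σ ∈ F.autGroup N, ∀ (e : P) (he : (e : Ω) ∈ N), ((σ ⟨e, he⟩ : N) : Ω) = ((τ e : P) : Ω) := by
  subst hN
  have hPS : P ≤ S := hPn.1
  haveI := finite_of_le hPS
  obtain ⟨φ, hφ, hrφ, hφe⟩ := exists_map_of_mem_autGroup hPS hτ
  have hnorm : normalizerIn S P ≤ extender S P φ := by
    intro g hg
    rw [mem_extender_iff (F.apply_mem hφ)]
    refine ⟨hg.1, hg.2, ?_⟩
    let r : MulAut P := P.normalizerMonoidHom ⟨g, hg.2⟩
    have hr : r ∈ autInducedBy S P := mem_autInducedBy_iff.mpr ⟨g, hg.1, hg.2, fun _ => rfl⟩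
    have hre : ∀ x : P, ((r x : P) : Ω) = g * x * g⁻¹ := fun _ => rfl
    obtain ⟨g', hg', -, he⟩ := mem_autInducedBy_iff.mp (hR r hr)
    refine ⟨g', hg', fun x hx => ?_⟩
    rw [hφe, hφe, ← he]
    show ((τ _ : P) : Ω) = ((τ (r (τ⁻¹ (τ x))) : P) : Ω)
    rw [MulAut.inv_apply_self]
    exact congrArg (fun y : P => ((τ y : P) : Ω)) (Subtype.ext (hre x).symm)
  obtain ⟨ψ, hψ, hψe⟩ := (hF.isReceptive_of_isFullyNormalized hS hPn).2 P φ hφ hrφ
  have hσ := F.restrict_mem hψ hnorm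
  have hag : ∀ x : P, (ψ.comp (Subgroup.inclusion hnorm)) ⟨x, le_normalizerIn hPS x.2⟩ = φ x :=
    fun x => hψe x x.2 _
  have hle : (ψ.comp (Subgroup.inclusion hnorm)).range ≤ normalizerIn S P := by
    rintro _ ⟨g, rfl⟩
    exact mapsTo_normalizerIn hσ (le_normalizerIn hPS) le_rfl hag hrφ g
  haveI : Finite (normalizerIn S P) := finite_normalizerIn
  have hrange := Subgroup.eq_of_le_of_card_ge hle
    (le_of_eq (Nat.card_congr (MonoidHom.ofInjective (F.injective_of_mem hσ)).toEquiv))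
  exact ⟨F.isoOf hσ hrange, F.isoOf_mem_autGroup hσ hrange,
    fun e he => (hψe e e.2 (hnorm he)).trans (hφe e)⟩

/-- An automorphism leaving invariant a series with steps of order dividing `p` that is invariant under
`Aut_S(P)` normalizes `Aut_S(P)`. -/
theorem conj_mem_of_series (hS : IsPGroup p S) (hF : F.IsSaturated p) (hPn : F.IsFullyNormalized P) {m : ℕ}
    (C : Fin (m + 1) → Subgroup P) (h0 : C 0 = ⊥) (hlast : C (Fin.last m) = ⊤)
    (hidx : ∀ i : Fin m, (C i.castSucc).relIndex (C i.succ) ∣ p)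
    (hinv : ∀ r ∈ autInducedBy S P, ∀ i, ∀ x ∈ C i, r x ∈ C i)
    {τ : MulAut P} (hτ : τ ∈ F.autGroup P) (hτi : ∀ i, ∀ x ∈ C i, τ x ∈ C i) :
    ∀ r ∈ autInducedBy S P, τ * r * τ⁻¹ ∈ autInducedBy S P := by
  have hPS : P ≤ S := hPn.1
  haveI := finite_of_le hPS
  haveI := finite_autGroup (F := F) hPS
  let K : Subgroup (MulAut P) :=
    { carrier := {α | ∀ i : Fin m, ∀ x ∈ C i.succ, x⁻¹ * α x ∈ C i.castSucc ∧ α x ∈ C i.succ}
      one_mem' := fun i x hx => by simp [hx, Subgroup.one_mem]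
      mul_mem' := fun {a b} ha hb i x hx => by
        refine ⟨?_, (ha i _ (hb i x hx).2).2⟩
        rw [show x⁻¹ * (a * b) x = x⁻¹ * b x * ((b x)⁻¹ * a (b x)) by rw [MulAut.mul_apply]; group]
        exact Subgroup.mul_mem _ (hb i x hx).1 (ha i _ (hb i x hx).2).1
      inv_mem' := fun {a} ha i x hx => by
        have h1 : a⁻¹ x ∈ C i.succ := by
          have himg : (C i.succ).map a.toMonoidHom = C i.succ := by
            refine Subgroup.eq_of_le_of_card_ge ?_
              (le_of_eq (Nat.card_congr ((C i.succ).equivMapOfInjective _ a.injective).toEquiv))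
            rintro _ ⟨y, hy, rfl⟩
            exact (ha i y hy).2
          obtain ⟨y, hy, e⟩ := himg.ge hx
          rw [← e]
          show a⁻¹ (a y) ∈ _
          rw [MulAut.inv_apply_self]
          exact hy
        refine ⟨?_, h1⟩
        have h2 := Subgroup.inv_mem _ (ha i _ h1).1
        rwa [mul_inv_rev, inv_inv, MulAut.apply_inv_self] at h2 }
  have hK : IsPGroup p (K.subgroupOf (F.autGroup P)) :=
    (isPGroup_of_stabilises (hS.to_le hPS) C h0 hlast K fun α hα i x hx => (hα i x hx).1).comap_of_injective _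
      (F.autGroup P).subtype_injective
  have hRK : ∀ r ∈ autInducedBy S P, r ∈ K := fun r hr i x hx => by
    obtain ⟨j, hj⟩ := EssentialSmall.pow_eq_one_of_mem_autInducedBy hS hr
    exact ⟨EssentialSmall.inv_mul_mem_of_step hj (hinv r hr i.castSucc) (hinv r hr i.succ) (hidx i) x hx,
      hinv r hr _ x hx⟩
  obtain ⟨-, T, hT⟩ := hF.isFullyAutomized_of_isFullyNormalized hS hPn
  have hTK : (T : Subgroup (F.autGroup P)) ≤ K.subgroupOf (F.autGroup P) := by
    rw [hT]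
    exact fun a ha => hRK _ ha
  intro r hr
  have hτinv : ∀ i, ∀ x ∈ C i, τ⁻¹ x ∈ C i := fun i x hx => by
    have himg : (C i).map τ.toMonoidHom = C i := by
      refine Subgroup.eq_of_le_of_card_ge ?_
        (le_of_eq (Nat.card_congr ((C i).equivMapOfInjective _ τ.injective).toEquiv))
      rintro _ ⟨y, hy, rfl⟩
      exact hτi i y hy
    obtain ⟨y, hy, e⟩ := himg.ge hx
    rw [← e]
    show τ⁻¹ (τ y) ∈ _
    rw [MulAut.inv_apply_self]
    exact hy
  have hm : τ * r * τ⁻¹ ∈ K := fun i x hx => by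
    have h1 := hRK r hr i _ (hτinv _ x hx)
    refine ⟨?_, hτi _ _ h1.2⟩
    rw [show x⁻¹ * (τ * r * τ⁻¹) x = τ ((τ⁻¹ x)⁻¹ * r (τ⁻¹ x)) by
      rw [map_mul, map_inv, MulAut.apply_inv_self]; rfl]
    exact hτi _ _ h1.1
  have hA : τ * r * τ⁻¹ ∈ F.autGroup P :=
    (F.autGroup P).mul_mem ((F.autGroup P).mul_mem hτ (autInducedBy_le_autGroup hPS hr)) ((F.autGroup P).inv_mem hτ)
  have hmm : (⟨_, hA⟩ : F.autGroup P) ∈ K.subgroupOf (F.autGroup P) := hm
  rw [T.3 hK hTK, hT] at hmm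
  exact hmm

/-- The automorphisms of a subgroup that come from an automorphism of `S`. -/
def Ext (F : FusionSystem S) {P : Subgroup Ω} (τ : MulAut P) : Prop :=
  ∃ β ∈ F.autGroup S, ∀ (x : S) (hx : (x : Ω) ∈ P), ((β x : S) : Ω) = ((τ ⟨x, hx⟩ : P) : Ω)

theorem ext_of_normal (hS : IsPGroup p S) (hF : F.IsSaturated p) (hPS : P ≤ S)
    (hn : S ≤ Subgroup.normalizer (P : Set Ω)) {τ : MulAut P} (hτ : τ ∈ F.autGroup P)
    (hR : ∀ r ∈ autInducedBy S P, τ * r * τ⁻¹ ∈ autInducedBy S P) : Ext F τ := by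
  obtain ⟨σ, hσ, he⟩ := exists_extend hS hF (isFullyNormalized_of_le hPS hn) (normalizerIn_eq_of_le hn) hτ hR
  exact ⟨σ, hσ, fun x hx => he ⟨x, hx⟩ x.2⟩

theorem Ext.trans {τ : MulAut P} {Q : Subgroup Ω} {σ : MulAut Q} (hσ : Ext F σ) (hPQ : P ≤ Q)
    (he : ∀ (e : P) (he : (e : Ω) ∈ Q), ((σ ⟨e, he⟩ : Q) : Ω) = ((τ e : P) : Ω)) : Ext F τ := by
  obtain ⟨β, hβ, hb⟩ := hσ
  exact ⟨β, hβ, fun x hx => (hb x (hPQ hx)).trans (he ⟨x, hx⟩ (hPQ hx))⟩

/-- Conjugation by an element of `S` gives conjugate subgroups. -/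
theorem isConj_of_conj (hP : P ≤ S) {g : Ω} (hg : g ∈ S) {Q : Subgroup Ω}
    (h1 : ∀ x ∈ P, g * x * g⁻¹ ∈ Q) (h2 : Nat.card Q ≤ Nat.card P) [Finite Q] : F.IsConj P Q := by
  refine ⟨conjHom P g, F.conj_mem hP hg, Subgroup.eq_of_le_of_card_ge ?_ ?_⟩
  · rintro _ ⟨x, rfl⟩
    exact h1 x x.2
  · rw [← Nat.card_congr (MonoidHom.ofInjective (F.injective_of_mem (F.conj_mem hP hg))).toEquiv]
    exact h2

end Cfsg.OrderPFive
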