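import Cfsg.Agent.Lib.Fusion.OrderPFive.FixSmall

/-!
Essential subgroups of index `p` fix every element modulo `M` as soon as the automorphisms of `S` do.
-/

set_option autoImplicit false
set_option linter.unusedSectionVars false

open scoped commutatorElement

namespace Cfsg.OrderPFive

open FusionSystem EssentialSmall

variable {Ω : Type*} [Group Ω] {S : Subgroup Ω} [Finite S] {p : ℕ} [Fact p.Prime] {F : FusionSystem S}
  {P M : Subgroup Ω}

theorem quad_fix (h : H5 p F) (hP : F.IsEssential p P) (hc : Nat.card P = p ^ 4) (hM : ⁅S, S⁆ ≤ M)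
    (hS : F.autGroup S ≤ fixMod M S) : F.autGroup P ≤ fixMod M P := by
  have hpp : p.Prime := Fact.out
  have hPS := hP.1.1
  haveI : Finite P := finite_of_le hPS
  set P' := P.subgroupOf S with hP'
  have hP'c : Nat.card P' = p ^ 4 := (Nat.card_congr (Subgroup.subgroupOfEquivOfLe hPS).toEquiv).trans hc
  have hP'i : P'.index = p := by
    have := P'.card_mul_index
    rw [hP'c, h.card, pow_succ p 4] at this
    exact Nat.eq_of_mul_eq_mul_left (pow_pos hpp.pos 4) this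
  haveI : P'.Normal := CfsgLib.CyclicMax.normal_of_index_prime h.pg hP'i
  have hnS : S ≤ Subgroup.normalizer (P : Set Ω) :=
    (Subgroup.normal_subgroupOf_iff_le_normalizer hPS).mp ‹_›
  -- the centre and the commutator subgroup
  obtain ⟨a₀, ha₀, b₀, hb₀, hne⟩ := h.noab P hPS hc
  have hZc : Nat.card (Subgroup.center P) = p ^ 2 :=
    (Quad.card_center hc fun hh => hne (congrArg Subtype.val (hh ⟨a₀, ha₀⟩ ⟨b₀, hb₀⟩))).resolve_left
      fun e => Quad.center_ne_prime h.pg h.sat hP hc e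
  obtain ⟨hpow, -, -, L, hL, hLC, hcomm, -, -⟩ := Quad.center_sq_data hc hZc
  set C := Subgroup.center P with hC
  have hCinv : ∀ α : MulAut P, ∀ v ∈ C, α v ∈ C := fun α v hv => Quad.apply_mem_center α hv
  have hLinv : ∀ α : MulAut P, ∀ v ∈ L, α v ∈ L := fun α v hv => by
    rw [← hcomm] at hv ⊢
    have := (inferInstance : (commutator P).Characteristic).fixed α
    exact show v ∈ (commutator P).comap α.toMonoidHom by rw [this]; exact hv
  have hcommL : ∀ a b : P, ⁅a, b⁆ ∈ L := fun a b =>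
    hcomm.le (Subgroup.commutator_mem_commutator (Subgroup.mem_top a) (Subgroup.mem_top b))
  have hSSM : ∀ a ∈ S, ∀ b ∈ S, ⁅a, b⁆ ∈ M := fun a ha b hb => hM (Subgroup.commutator_mem_commutator ha hb)
  have hLM : L ≤ M.subgroupOf P := by
    rw [← hcomm, commutator_def, Subgroup.commutator_le]
    intro a _ b _
    rw [Subgroup.mem_subgroupOf]
    exact hSSM a (hPS a.2) b (hPS b.2)
  have hLne : L < C := lt_of_le_of_ne hLC fun e => by
    rw [e, hZc] at hL
    exact absurd (Nat.pow_right_injective hpp.two_le (hL.trans (pow_one p).symm)) (by norm_num)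
  -- the element of `S` outside
  obtain ⟨g, hg, hgP⟩ := exists_moved h.pg h.sat hP
  let c : MulAut P := P.normalizerMonoidHom ⟨g, hg.2⟩
  have hcR : c ∈ autInducedBy S P := mem_autInducedBy_iff.mpr ⟨g, hg.1, hg.2, fun _ => rfl⟩
  have hcA : c ∈ F.autGroup P := autInducedBy_le_autGroup hPS hcR
  obtain ⟨j, hj⟩ := pow_eq_one_of_mem_autInducedBy h.pg hcR
  have hLidx : (⊥ : Subgroup P).relIndex L ∣ p := by rw [Subgroup.relIndex_bot_left, hL]
  have hCidx : L.relIndex C ∣ p := relIndex_dvd hLC (by rw [hZc, hL, pow_two])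
  have hcC : ∀ v ∈ C, v⁻¹ * c v ∈ L :=
    inv_mul_mem_of_step hj (hLinv c) (hCinv c) hCidx
  -- the middle subgroup
  have hCS : (C.map P.subtype).subgroupOf S ≤ P' := fun v hv => by
    obtain ⟨w, -, e⟩ := Subgroup.mem_subgroupOf.mp hv
    show (v : Ω) ∈ P
    rw [← e]
    exact w.2
  have hCSc : Nat.card ((C.map P.subtype).subgroupOf S) = p ^ 2 := by
    rw [Nat.card_congr (Subgroup.subgroupOfEquivOfLe ((Subgroup.map_subtype_le C).trans hPS)).toEquiv,
      Subgroup.card_map_of_injective P.subtype_injective, hZc]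
  haveI : ((C.map P.subtype).subgroupOf S).Normal := ⟨fun v hv s => by
    obtain ⟨w, hw, e⟩ := Subgroup.mem_subgroupOf.mp hv
    refine Subgroup.mem_subgroupOf.mpr ⟨P.normalizerMonoidHom ⟨s, hnS s.2⟩ w, hCinv _ w hw, ?_⟩
    show (s : Ω) * (w : Ω) * (s : Ω)⁻¹ = _
    rw [show (w : Ω) = v from e]
    rfl⟩
  obtain ⟨W', hW'n, hCW', hW'P, hW'c⟩ := exists_normal_line (p := p) h.pg
    (K := (C.map P.subtype).subgroupOf S) (A := P') (lt_of_le_of_ne hCS fun e => by
      rw [e, hP'c] at hCSc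
      exact absurd (Nat.pow_right_injective hpp.two_le hCSc) (by norm_num))
  rw [hCSc] at hW'c
  haveI := hW'n
  set W := pull W' P with hW
  have hW'PΩ : W'.map S.subtype ≤ P := by
    rintro _ ⟨v, hv, rfl⟩
    exact hW'P hv
  have hWc : Nat.card W = p * Nat.card C := by rw [hW, card_pull hW'PΩ, hW'c, hZc]
  have hCW : C ≤ W := fun v hv => (mem_pull' hPS).mpr (hCW'.le ⟨v, hv, rfl⟩)
  have hPc : Nat.card (⊤ : Subgroup P) = p * Nat.card W := by
    rw [Subgroup.card_top, hc, hWc, hZc]; ring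
  have hWidx : W.index = p := by
    have := W.card_mul_index
    rw [← Subgroup.card_top (G := P), hPc, mul_comm p] at this
    exact Nat.eq_of_mul_eq_mul_left Nat.card_pos this
  have hcW : ∀ v ∈ W, v⁻¹ * c v ∈ C :=
    inv_mul_mem_of_step hj (hCinv c) (fun v hv => pull_invariant hPS hcR hv) (relIndex_dvd hCW hWc)
  have hcP : ∀ v : P, v⁻¹ * c v ∈ W := fun v =>
    inv_mul_mem_of_step hj (K := W) (L := ⊤) (fun v hv => pull_invariant hPS hcR hv) (fun _ _ => trivial)
      (relIndex_dvd le_top hPc) v trivial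
  haveI hWn : W.Normal := CfsgLib.CyclicMax.normal_of_index_prime (IsPGroup.of_card hc) hWidx
  -- `c` moves some element off the centre
  obtain ⟨x, hxk⟩ : ∃ x : P, x⁻¹ * c x ∉ C := by
    by_contra hh
    push Not at hh
    refine hgP (mem_of_invariant_series h.pg hP.1 (hP.isRadical h.pg h.sat) (m := 3) ![⊥, L, C, ⊤] rfl rfl ?_ hg ?_)
    · intro α _ i v hv
      fin_cases i
      · rw [show v = 1 from hv, map_one]; exact Subgroup.one_mem _
      · exact hLinv α v hv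
      · exact hCinv α v hv
      · trivial
    · intro i v hv hv'
      show v⁻¹ * c v ∈ _
      fin_cases i
      · exact inv_mul_mem_of_step hj (fun w hw => by rw [show w = 1 from hw, map_one]; exact Subgroup.one_mem _)
          (hLinv c) hLidx v hv
      · exact hcC v hv
      · exact hh v
  have hxW : x ∉ W := fun hh => hxk (hcW x hh)
  set k := x⁻¹ * c x with hk
  have hkW : k ∈ W := hcP x
  haveI : (C.subgroupOf W).Normal := Subgroup.normal_subgroupOf
  have hWgen : ∀ v ∈ W, ∃ i : ℤ, (k ^ i)⁻¹ * v ∈ C := by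
    intro v hv
    obtain ⟨i, hi⟩ := exists_zpow_mem (p := p) (M := C.subgroupOf W) (by
      have h' := Quad.card_mul_relIndex hCW
      rw [hWc, mul_comm p] at h'
      exact Nat.eq_of_mul_eq_mul_left Nat.card_pos h') (x := (⟨k, hkW⟩ : W)) hxk ⟨v, hv⟩
    exact ⟨i, hi⟩
  have hkM : (k : Ω) ∈ M := by
    rw [show (k : Ω) = ⁅(x : Ω)⁻¹, g⁆ by
      show (x : Ω)⁻¹ * (g * x * g⁻¹) = _
      rw [commutatorElement_def]; group]
    exact hSSM _ (S.inv_mem (hPS x.2)) g hg.1
  -- the base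
  obtain ⟨K, hKM, hLK, hKC, hKinv, hKC'⟩ : ∃ K : Subgroup P, K ≤ M.subgroupOf P ∧ L ≤ K ∧ K ≤ C ∧
      (∀ α : MulAut P, ∀ v ∈ K, α v ∈ K) ∧ ∀ v ∈ C, (v : Ω) ∈ M → v ∈ K := by
    by_cases hCM : C ≤ M.subgroupOf P
    · exact ⟨C, hCM, hLC, le_rfl, hCinv, fun v hv _ => hv⟩
    · refine ⟨L, hLM, le_rfl, hLC, hLinv, fun v hv hvM => ?_⟩
      have heq : L = C ⊓ M.subgroupOf P := by
        refine le_antisymm (le_inf hLC hLM) (le_of_eq ?_)
        by_contra hne
        have hlt : L < C ⊓ M.subgroupOf P := lt_of_le_of_ne (le_inf hLC hLM) (Ne.symm hne)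
        have hb := Quad.lt_card_mul (IsPGroup.of_card hc) hlt
        rw [hL, ← pow_two] at hb
        exact hCM ((Subgroup.eq_of_le_of_card_ge inf_le_left (hZc.trans_le hb)).ge.trans inf_le_right)
      exact heq.ge ⟨hv, hvM⟩
  haveI hKn : K.Normal := ⟨fun v hv e => hKinv (MulAut.conj e) v hv⟩
  have hkp : k ^ p ∈ K := hKC' _ (hpow k) (by rw [Subgroup.coe_pow]; exact M.pow_mem hkM p)
  have hcK : ∀ v ∈ C, v⁻¹ * c v ∈ K := fun v hv => hLK (hcC v hv)
  have hck : k⁻¹ * c k ∈ K := hKC' _ (hcW k hkW) (by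
    show (k : Ω)⁻¹ * (g * k * g⁻¹) ∈ M
    rw [show (k : Ω)⁻¹ * (g * k * g⁻¹) = ⁅(k : Ω)⁻¹, g⁆ by rw [commutatorElement_def]; group]
    exact hSSM _ (S.inv_mem (hPS k.2)) g hg.1)
  have hcomm' : ∀ a b : P, Commute (QuotientGroup.mk a : P ⧸ K) (QuotientGroup.mk b) := fun a b =>
    mk_commute (hLK (hcommL a b))
  have hcWK : ∀ v ∈ W, v⁻¹ * c v ∈ K := by
    intro v hv
    obtain ⟨i, hi⟩ := hWgen v hv
    have h1 : (QuotientGroup.mk (c v) : P ⧸ K) = QuotientGroup.mk v := by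
      obtain ⟨z, hz, rfl⟩ : ∃ z ∈ C, v = k ^ i * z := ⟨_, hi, (mul_inv_cancel_left _ _).symm⟩
      rw [map_mul, map_zpow, QuotientGroup.mk_mul, QuotientGroup.mk_zpow, mk_eq_of_mem hck,
        mk_eq_of_mem (hcK z hz), ← QuotientGroup.mk_zpow, ← QuotientGroup.mk_mul]
    exact QuotientGroup.eq.mp h1.symm
  have hshift : ∀ (m : ℤ) (v : P), (x ^ m)⁻¹ * v ∈ W → (v * k ^ m)⁻¹ * c v ∈ K := by
    intro m v hv
    rw [← QuotientGroup.eq]
    have hcx : (QuotientGroup.mk (c x) : P ⧸ K) = QuotientGroup.mk x * QuotientGroup.mk k := by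
      rw [← QuotientGroup.mk_mul, hk, mul_inv_cancel_left]
    obtain ⟨w, hw, rfl⟩ : ∃ w ∈ W, v = x ^ m * w := ⟨_, hv, (mul_inv_cancel_left _ _).symm⟩
    rw [map_mul, map_zpow, QuotientGroup.mk_mul, QuotientGroup.mk_mul, QuotientGroup.mk_mul, QuotientGroup.mk_zpow,
      QuotientGroup.mk_zpow, QuotientGroup.mk_zpow, hcx, (hcomm' x k).mul_zpow, mk_eq_of_mem (hcWK _ hw),
      mul_assoc, mul_assoc, ((hcomm' k w).zpow_left m).eq]
  have hWp : ∀ v : P, v ^ (p : ℤ) ∈ W := fun v => by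
    rw [zpow_natCast, ← hWidx]; exact W.pow_index_mem v
  -- the series
  have hseries : ∀ α ∈ F.autGroup P, α k ∈ W → ∀ r ∈ autInducedBy S P, α * r * α⁻¹ ∈ autInducedBy S P := by
    intro α hα hαk
    refine conj_mem_of_series h.pg h.sat hP.2.1 (m := 4) ![⊥, L, C, W, ⊤] rfl rfl ?_ ?_ hα ?_
    · intro i
      fin_cases i
      · exact hLidx
      · exact hCidx
      · exact relIndex_dvd hCW hWc
      · exact relIndex_dvd le_top hPc
    · intro r hr i v hv
      fin_cases i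
      · rw [show v = 1 from hv, map_one]; exact Subgroup.one_mem _
      · exact hLinv r v hv
      · exact hCinv r v hv
      · exact pull_invariant hPS hr hv
      · trivial
    · intro i v hv
      fin_cases i
      · rw [show v = 1 from hv, map_one]; exact Subgroup.one_mem _
      · exact hLinv α v hv
      · exact hCinv α v hv
      · obtain ⟨i, hi⟩ := hWgen v hv
        show α v ∈ W
        rw [show v = k ^ i * ((k ^ i)⁻¹ * v) by group, map_mul, map_zpow]
        exact W.mul_mem (W.zpow_mem hαk i) (hCW (hCinv α _ hi))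
      · trivial
  refine autGroup_le_fixMod h.pg h.sat hP hS (fun τ hτ hR => ext_of_normal h.pg h.sat hPS hnS hτ hR)
    fun φ hφ r hr => ?_
  by_cases hφk : φ k ∈ W
  · exact autInducedBy_le_fixMod hPS hM (hseries φ hφ hφk r hr)
  -- `φ k` lies in `M`
  have hlM : ((φ k : P) : Ω) ∈ M := by
    obtain ⟨i, hi⟩ := exists_zpow_mem hWidx hxW (φ k)
    have hi' : ¬ (p : ℤ) ∣ i := fun hdiv => hφk (by
      obtain ⟨q, rfl⟩ := hdiv
      have := W.mul_mem (W.zpow_mem (hWp x) q) hi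
      rwa [← zpow_mul, mul_inv_cancel_left] at this)
    have hφk' : φ⁻¹ k ∉ W := fun hh => by
      obtain ⟨m, hm⟩ := hWgen _ hh
      have h1 : ((φ k) ^ m)⁻¹ * k ∈ C := by
        have := hCinv φ _ hm
        rwa [map_mul, map_inv, map_zpow, MulAut.apply_inv_self] at this
      by_cases hdiv : (p : ℤ) ∣ m
      · obtain ⟨q, rfl⟩ := hdiv
        refine hxk ?_
        have := C.mul_mem (C.zpow_mem (hpow (φ k)) q) h1
        rwa [← zpow_natCast, ← zpow_mul, mul_inv_cancel_left] at this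
      · obtain ⟨u, v, huv⟩ : IsCoprime m (p : ℤ) :=
          ((Nat.prime_iff_prime_int.mp hpp).coprime_iff_not_dvd.mpr hdiv).symm
        refine hφk ?_
        have h2 : (φ k) ^ m ∈ W := by
          have := W.mul_mem hkW (W.inv_mem (hCW h1))
          rwa [mul_inv_rev, inv_inv, mul_inv_cancel_left] at this
        have := W.mul_mem (W.zpow_mem h2 u) (W.zpow_mem (hWp (φ k)) v)
        rwa [← zpow_mul, ← zpow_mul, ← zpow_add, show m * u + (p : ℤ) * v = 1 by linear_combination huv,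
          zpow_one] at this
    obtain ⟨j, hj'⟩ := exists_zpow_mem hWidx hxW (φ⁻¹ k)
    have hjnd : ¬ (p : ℤ) ∣ j := fun hdiv => hφk' (by
      obtain ⟨q, rfl⟩ := hdiv
      have := W.mul_mem (W.zpow_mem (hWp x) q) hj'
      rwa [← zpow_mul, mul_inv_cancel_left] at this)
    have hdA : φ * c * φ⁻¹ ∈ F.autGroup P :=
      (F.autGroup P).mul_mem ((F.autGroup P).mul_mem hφ hcA) ((F.autGroup P).inv_mem hφ)
    have hdl : (φ k)⁻¹ * (φ * c * φ⁻¹) (φ k) ∈ K := by
      have := hKinv φ _ hck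
      rw [map_mul, map_inv] at this
      rwa [MulAut.mul_apply, MulAut.mul_apply, MulAut.inv_apply_self]
    have hdk : (k * (φ k) ^ j)⁻¹ * (φ * c * φ⁻¹) k ∈ K := by
      have := hKinv φ _ (hshift j (φ⁻¹ k) hj')
      rwa [map_mul, map_inv, map_mul, map_zpow, MulAut.apply_inv_self] at this
    obtain ⟨τ, hτ, h1, h2, -⟩ := torus_mod (A := F.autGroup P) (K := K) (fun α _ v hv => hKinv α v hv)
      (fun a b => hLK (by
        have := hcommL a⁻¹ b⁻¹
        rwa [commutatorElement_def, inv_inv, inv_inv] at this))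
      hcA hdA (k := k) (l := φ k) hkp (by rw [← map_pow]; exact hKinv φ _ hkp)
      hck hdl (hshift i (φ k) hi) hdk hi' hjnd (a := -1) (b := -1) (by norm_num)
    have hτW : τ k ∈ W := by
      have := W.mul_mem (W.zpow_mem hkW (-1)) ((hKC.trans hCW) h1)
      rwa [mul_inv_cancel_left] at this
    have h3 := mem_fixMod_of_ext hPS hS
      (ext_of_normal h.pg h.sat hPS hnS hτ (hseries τ hτ hτW)) (φ k)
    refine mem_of_sq h.odd ?_ ?_
    · have h4 : ((((φ k) ^ (-1 : ℤ))⁻¹ * τ (φ k) : P) : Ω) ∈ M := hKM h2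
      rw [zpow_neg_one, inv_inv, Subgroup.coe_mul] at h4
      have := M.mul_mem h4 (M.inv_mem h3)
      rw [zpow_two]
      convert this using 1
      group
    · rw [← Subgroup.coe_pow, ← map_pow]
      exact hKM (hKinv φ _ hkp)
  -- decompose
  obtain ⟨s, hs, -, hr'⟩ := mem_autInducedBy_iff.mp hr
  have hgS : (⟨g, hg.1⟩ : S) ∉ P' := hgP
  obtain ⟨n, hn⟩ := exists_zpow_mem hP'i hgS ⟨s, hs⟩
  have hn' : ((((⟨g, hg.1⟩ : S) ^ n)⁻¹ * (⟨s, hs⟩ : S) : S) : Ω) ∈ P := hn
  set e : P := ⟨_, hn'⟩ with he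
  have hre : r = c ^ n * MulAut.conj e := by
    ext v
    rw [MulAut.mul_apply, hr', show c ^ n = P.normalizerMonoidHom ((⟨g, hg.2⟩ : Subgroup.normalizer (P : Set Ω)) ^ n)
      from (map_zpow _ _ _).symm]
    show s * (v : Ω) * s⁻¹ = _ * ((MulAut.conj e v : P) : Ω) * _⁻¹
    rw [MulAut.conj_apply]
    simp only [he, Subgroup.coe_mul, Subgroup.coe_inv, Subgroup.coe_zpow]
    group
  rw [hre, show φ * (c ^ n * MulAut.conj e) * φ⁻¹ = (φ * c * φ⁻¹) ^ n * (φ * MulAut.conj e * φ⁻¹) by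
    rw [conj_zpow]; group]
  refine (fixMod M P).mul_mem ((fixMod M P).zpow_mem (fun y => ?_) n) (fun y => ?_)
  · rw [inv_mul_conj_apply]
    obtain ⟨i, hi⟩ := exists_zpow_mem hWidx hxW (φ⁻¹ y)
    have hh : (k ^ i)⁻¹ * ((φ⁻¹ y)⁻¹ * c (φ⁻¹ y)) ∈ K := by
      have h5 := hshift i _ hi
      rwa [mul_inv_rev, mul_assoc] at h5
    obtain ⟨z, hz, hzE⟩ : ∃ z ∈ K, (φ⁻¹ y)⁻¹ * c (φ⁻¹ y) = k ^ i * z := ⟨_, hh, (mul_inv_cancel_left _ _).symm⟩
    rw [hzE, map_mul, map_zpow, Subgroup.coe_mul, Subgroup.coe_zpow]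
    exact M.mul_mem (M.zpow_mem hlM i) (hKM (hKinv φ z hz))
  · rw [inv_mul_conj_apply]
    refine hLM (hLinv φ _ ?_)
    rw [MulAut.conj_apply, show (φ⁻¹ y)⁻¹ * (e * φ⁻¹ y * e⁻¹) = ⁅(φ⁻¹ y)⁻¹, e⁆ by rw [commutatorElement_def]; group]
    exact hcommL _ _

end Cfsg.OrderPFive
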