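import Cfsg.Agent.Lib.Fusion.OrderPFive.Ext
import Cfsg.Agent.Lib.Fusion.Hyperfocal

/-!
Automorphisms fixing every element modulo a subgroup containing `[S, S]`: how far this propagates to an essential
subgroup, and what it means for the focal subgroup.
-/

set_option autoImplicit false
set_option linter.unusedSectionVars false

open scoped commutatorElement

namespace Cfsg.OrderPFive

open FusionSystem EssentialSmall

variable {Ω : Type*} [Group Ω] {S P : Subgroup Ω} [Finite S] {p : ℕ} [Fact p.Prime] {F : FusionSystem S}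
  {M : Subgroup Ω}

/-- The automorphisms of `P` fixing every element modulo `M`. -/
def fixMod (M P : Subgroup Ω) : Subgroup (MulAut P) where
  carrier := {α | ∀ y : P, (y : Ω)⁻¹ * (α y : P) ∈ M}
  one_mem' y := by simp
  mul_mem' {α β} hα hβ y := by
    have := M.mul_mem (hβ y) (hα (β y))
    rwa [mul_assoc, mul_inv_cancel_left] at this
  inv_mem' {α} hα y := by
    have := M.inv_mem (hα (α⁻¹ y))
    rwa [MulAut.apply_inv_self, mul_inv_rev, inv_inv] at this

theorem mem_fixMod {α : MulAut P} : α ∈ fixMod M P ↔ ∀ y : P, (y : Ω)⁻¹ * (α y : P) ∈ M := Iff.rfl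

theorem autInducedBy_le_fixMod (hPS : P ≤ S) (hM : ⁅S, S⁆ ≤ M) : autInducedBy S P ≤ fixMod M P := by
  intro r hr y
  obtain ⟨g, hg, -, he⟩ := mem_autInducedBy_iff.mp hr
  refine hM ?_
  rw [he, show (y : Ω)⁻¹ * (g * y * g⁻¹) = ⁅(y : Ω)⁻¹, g⁆ by rw [commutatorElement_def]; group]
  exact Subgroup.commutator_mem_commutator (S.inv_mem (hPS y.2)) hg

theorem mem_fixMod_of_ext {τ : MulAut P} (hPS : P ≤ S) (hS : F.autGroup S ≤ fixMod M S) (hτ : Ext F τ) :
    τ ∈ fixMod M P := by
  obtain ⟨β, hβ, he⟩ := hτ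
  intro y
  rw [← he ⟨y, hPS y.2⟩ y.2]
  exact hS hβ ⟨y, hPS y.2⟩

/-- It suffices to look at the conjugates of the automorphisms induced by `S`. -/
theorem autGroup_le_fixMod (hpg : IsPGroup p S) (hsat : F.IsSaturated p) (hP : F.IsEssential p P)
    (hS : F.autGroup S ≤ fixMod M S)
    (hext : ∀ τ ∈ F.autGroup P, (∀ r ∈ autInducedBy S P, τ * r * τ⁻¹ ∈ autInducedBy S P) → Ext F τ)
    (hconj : ∀ φ ∈ F.autGroup P, ∀ r ∈ autInducedBy S P, φ * r * φ⁻¹ ∈ fixMod M P) :
    F.autGroup P ≤ fixMod M P := by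
  have hPS := hP.1.1
  haveI := finite_autGroup (F := F) hPS
  obtain ⟨-, T, hT⟩ := hsat.isFullyAutomized_of_isFullyNormalized hpg hP.2.1
  let H : Subgroup (F.autGroup P) := Subgroup.normalClosure ((T : Subgroup (F.autGroup P)) : Set (F.autGroup P))
  have hH : H ≤ (fixMod M P).subgroupOf (F.autGroup P) := by
    refine (Subgroup.closure_le _).mpr fun u hu => ?_
    obtain ⟨r, hr, hru⟩ := Group.mem_conjugatesOfSet_iff.mp hu
    obtain ⟨φ, rfl⟩ := isConj_iff.mp hru
    exact hconj φ φ.2 r (hT.le hr)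
  have hN : Subgroup.normalizer ((T : Subgroup (F.autGroup P)) : Set (F.autGroup P)) ≤
      (fixMod M P).subgroupOf (F.autGroup P) := by
    intro u hu
    refine mem_fixMod_of_ext hPS hS (hext u u.2 fun r hr => ?_)
    have h1 := (Subgroup.mem_normalizer_iff.mp hu ⟨r, autInducedBy_le_autGroup hPS hr⟩).mp (hT.ge hr)
    exact hT.le h1
  have htop := T.normalizer_sup_eq_top' (N := H) Subgroup.le_normalClosure
  intro α hα
  exact (sup_le hN hH) (htop.ge (Subgroup.mem_top ⟨α, hα⟩))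

/-- If all generators fix every element modulo `M`, then the focal subgroup lies in `M`. -/
theorem focal_le_of_fixMod (hpg : IsPGroup p S) (hsat : F.IsSaturated p) (hM : ⁅S, S⁆ ≤ M)
    (hS : F.autGroup S ≤ fixMod M S) (hE : ∀ Q, F.IsEssential p Q → F.autGroup Q ≤ fixMod M Q) :
    F.focalSubgroup ≤ M := by
  let E : FusionSystem S :=
    { Hom := fun Q => {φ | φ ∈ F.Hom Q ∧ ∀ x : Q, (x : Ω)⁻¹ * φ x ∈ M}
      le_of_mem := fun h => F.le_of_mem h.1
      injective_of_mem := fun h => F.injective_of_mem h.1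
      conj_mem := fun {Q g} hQ hg => ⟨F.conj_mem hQ hg, fun x => hM (by
        have := Subgroup.commutator_mem_commutator (InvMemClass.inv_mem (hQ x.2)) hg
        simpa [commutatorElement_def, conjHom_apply, mul_assoc] using this)⟩
      comp_mem := fun {Q R φ ψ} hφ hψ h => ⟨F.comp_mem hφ.1 hψ.1 h, fun x => by
        have := mul_mem (hφ.2 x) (hψ.2 ⟨φ x, h x⟩)
        rwa [mul_assoc, mul_inv_cancel_left] at this⟩
      inv_mem := fun {Q φ} hφ => by
        obtain ⟨ψ, hψ, hl⟩ := F.inv_mem hφ.1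
        refine ⟨ψ, ⟨hψ, ?_⟩, hl⟩
        rintro ⟨_, x, rfl⟩
        have := InvMemClass.inv_mem (hφ.2 x)
        rw [hl]
        simpa [mul_inv_rev] using this }
  have key : F ≤ E := by
    refine hsat.le_of_autGroup_le hpg E fun Q hQ α hα => ?_
    have hQS : Q ≤ S := by
      rcases hQ with rfl | hQ
      exacts [le_rfl, hQ.1.1]
    have hf : α ∈ fixMod M Q := by
      rcases hQ with rfl | hQ
      exacts [hS hα, hE Q hQ hα]
    exact (E.mem_autGroup_iff hQS).mpr ⟨(F.mem_autGroup_iff hQS).mp hα, hf⟩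
  rw [FusionSystem.focalSubgroup, Subgroup.closure_le]
  rintro _ ⟨Q, φ, x, hφ, rfl⟩
  exact (key Q hφ).2 x

end Cfsg.OrderPFive
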