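import Cfsg.Agent.Lib.Fusion.OrderPFive.CubeExt
import Cfsg.Agent.Lib.Fusion.OrderPFive.PearlTorus
import Cfsg.Agent.Lib.Fusion.OrderPFive.Focal

/-!
Pearls and elementary cubes fix every element modulo `M` as soon as the automorphisms of `S` do.
-/

set_option autoImplicit false
set_option linter.unusedSectionVars false

open scoped commutatorElement

namespace Cfsg.OrderPFive

open FusionSystem EssentialSmall MaxClassCube

variable {Ω : Type*} [Group Ω] {S : Subgroup Ω} [Finite S] {p : ℕ} [Fact p.Prime] {F : FusionSystem S}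
  {E M : Subgroup Ω} {x : S}

local notation "Z" => Subgroup.upperCentralSeries S

/-- An element inverted modulo `M`, of `p`-th power in `M`, lies in `M`. -/
theorem mem_of_sq (hp : p ≠ 2) {y : Ω} (h2 : y ^ (2 : ℤ) ∈ M) (hy : y ^ p ∈ M) : y ∈ M := by
  obtain ⟨r, hr⟩ := (Fact.out : p.Prime).odd_of_ne_two hp
  have := M.mul_mem hy (M.inv_mem (M.zpow_mem h2 (r : ℤ)))
  rwa [← zpow_natCast, ← zpow_mul, ← zpow_neg, ← zpow_add, hr,
    show ((2 * r + 1 : ℕ) : ℤ) + -(2 * (r : ℤ)) = 1 by push_cast; ring, zpow_one] at this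

theorem inv_mul_conj_apply {P : Subgroup Ω} (φ r : MulAut P) (y : P) :
    (y : Ω)⁻¹ * (((φ * r * φ⁻¹) y : P) : Ω) = ((φ ((φ⁻¹ y)⁻¹ * r (φ⁻¹ y)) : P) : Ω) := by
  rw [map_mul, map_inv, MulAut.apply_inv_self]
  rfl

theorem Pearl.fix (h : H5 p F) (hP : Pearl p F E x 0) (hZ : (Z 1).map S.subtype ≤ M)
    (hS : F.autGroup S ≤ fixMod M S) : F.autGroup E ≤ fixMod M E := by
  haveI := finite_of_le hP.le
  obtain ⟨k0, k1, k2⟩ := hP.cards
  refine autGroup_le_fixMod h.pg h.sat hP.ess hS (fun τ hτ hR => hP.ext h hτ hR) fun φ hφ r hr y => ?_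
  rw [inv_mul_conj_apply]
  set δ := (φ⁻¹ y)⁻¹ * r (φ⁻¹ y) with hδ
  set W := pull (Z (0 + 1)) E with hW
  have hWM : ∀ v ∈ W, (v : Ω) ∈ M := fun v hv => hZ hv
  have hδW : δ ∈ W := by
    obtain ⟨j, hj⟩ := pow_eq_one_of_mem_autInducedBy h.pg hr
    refine inv_mul_mem_of_step hj (K := W) (L := ⊤) (fun v hv => pull_invariant hP.le hr hv) (fun _ _ => trivial)
      (relIndex_dvd le_top ?_) _ trivial
    rw [Subgroup.card_top, hW, card_pull hP.step_le, k1, hP.eq, card_map, k2, ← pow_succ']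
  obtain ⟨k, hk, -, hgen, -, htor⟩ := hP.exists_torus_at h
  have h0 : ∀ v ∈ pull (Z 0) E, v = 1 := fun v hv => by
    rw [mem_pull' hP.le] at hv
    exact Subtype.ext (congrArg Subtype.val (Subgroup.mem_bot.mp hv) :)
  obtain ⟨i, hi⟩ := hgen δ hδW
  rw [← inv_mul_eq_one.mp (h0 _ hi), map_zpow, Subgroup.coe_zpow]
  refine M.zpow_mem ?_ i
  by_cases hφk : φ k ∈ W
  · exact hWM _ hφk
  obtain ⟨τ, -, hext, -, h2⟩ := htor φ hφ hφk (-1) (-1) (by norm_num)
  have hτk : τ (φ k) = (φ k)⁻¹ := by rw [← inv_mul_eq_one.mp (h0 _ h2), zpow_neg_one]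
  refine mem_of_sq h.odd ?_ ?_
  · have := M.inv_mem (mem_fixMod_of_ext hP.le hS hext (φ k))
    rw [hτk] at this
    rw [zpow_two]
    simpa [mul_inv_rev] using this
  · have hk1 : k ^ p = 1 := by
      have := pow_card_eq_one' (x := (⟨k, hk⟩ : pull (Z (0 + 1)) E))
      rw [show Nat.card (pull (Z (0 + 1)) E) = p by rw [card_pull hP.step_le, k1, zero_add, pow_one]] at this
      exact congrArg Subtype.val this
    rw [← Subgroup.coe_pow, ← map_pow, hk1, map_one]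
    exact M.one_mem

theorem Frame.K_le {c : MulAut E} {Y : Subgroup E} {k : E} (fr : Frame p S E c Y k) (hM : ⁅S, S⁆ ≤ M) :
    fr.K.map S.subtype ≤ M := by
  rintro _ ⟨w, hw, rfl⟩
  obtain ⟨i, rfl⟩ := exists_zpow_eq fr.cardK fr.z_mem fr.zne hw
  rw [map_zpow, map_commutatorElement]
  exact M.zpow_mem (hM (Subgroup.commutator_mem_commutator fr.x0.2 fr.l.2)) i

theorem exists_not_mem_of_index {G : Type*} [Group G] {Y : Subgroup G} (hY : Y.index = p) : ∃ l, l ∉ Y := by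
  by_contra hh
  push Not at hh
  rw [show Y = ⊤ from eq_top_iff.mpr fun v _ => hh v, Subgroup.index_top] at hY
  exact (Fact.out : p.Prime).one_lt.ne hY

theorem Cube.fix (hC : Cube p F E) (h : H5 p F) (hM : ⁅S, S⁆ ≤ M) (hS : F.autGroup S ≤ fixMod M S) :
    F.autGroup E ≤ fixMod M E := by
  haveI := hC.finE
  obtain ⟨c, Y, k, hc, hcR⟩ := hC.exists_tv h.card
  obtain ⟨l, hl⟩ := exists_not_mem_of_index hc.idx
  obtain ⟨fr, -⟩ := hC.exists_frame h.card hc hcR hl
  obtain ⟨U, hU⟩ := hC.exists_hyp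
  have hkM : (k : Ω) ∈ M := fr.K_le hM fr.kK
  refine autGroup_le_fixMod h.pg h.sat hC.ess hS (fun τ hτ hR => fr.ext hC h.card hc hcR hτ hR)
    fun φ hφ r hr y => ?_
  rw [inv_mul_conj_apply]
  have hrk : ∀ z : E, z⁻¹ * r z ∈ Subgroup.zpowers k := by
    rw [hU.zpowers_eq hc hcR] at hr
    obtain ⟨j, rfl⟩ := hr
    intro z
    obtain ⟨i, hi⟩ := hc.range z
    show z⁻¹ * (c ^ j) z ∈ _
    rw [hc.zpow_apply (show c z = z * k ^ i by rw [show k ^ i = _ from hi, mul_inv_cancel_left]), inv_mul_cancel_left]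
    exact ⟨_, rfl⟩
  obtain ⟨i, hi⟩ := hrk (φ⁻¹ y)
  rw [← show k ^ i = _ from hi, map_zpow, Subgroup.coe_zpow]
  refine M.zpow_mem ?_ i
  by_cases h1 : φ k ∈ Subgroup.zpowers k
  · obtain ⟨j, hj⟩ := h1
    rw [← show k ^ j = _ from hj, Subgroup.coe_zpow]
    exact M.zpow_mem hkM j
  by_cases hl' : k ∈ Y.map φ.toMonoidHom ∨ φ k ∈ Y
  · -- the conjugate transvection is linked, hence a power
    exfalso
    have hcX : c ∈ F.autGroup E := autInducedBy_le_autGroup hC.le hcR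
    have hdY := hU.mem_of_linked hc (hc.conj φ) hcX
      ((F.autGroup E).mul_mem ((F.autGroup E).mul_mem hφ hcX) ((F.autGroup E).inv_mem hφ)) (hU.PY hcR) hl'
    obtain ⟨j, hj⟩ := hU.unique hc hcR (hc.conj φ) hdY
    obtain ⟨e, he⟩ := exists_not_mem_of_index (hc.conj φ).idx
    obtain ⟨a, ha⟩ := (hc.conj φ).range e
    obtain ⟨b, hb⟩ := hc.range e
    have hd : (φ * c * φ⁻¹) e = e * k ^ (b * j) := by
      rw [← show c ^ j = φ * c * φ⁻¹ from hj,
        hc.zpow_apply (show c e = e * k ^ b by rw [show k ^ b = _ from hb, mul_inv_cancel_left])]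
    have hak : φ k ^ a = k ^ (b * j) := by rw [show φ k ^ a = _ from ha, hd, inv_mul_cancel_left]
    have hnd : ¬ (p : ℤ) ∣ a := fun hdiv => he (((hc.conj φ).fix e).mp (by
      rw [← (hc.conj φ).korder, orderOf_dvd_iff_zpow_eq_one] at hdiv
      rw [show φ k ^ a = _ from ha] at hdiv
      exact (inv_mul_eq_one.mp hdiv).symm))
    obtain ⟨u, w, huw⟩ : IsCoprime a (p : ℤ) :=
      ((Nat.prime_iff_prime_int.mp Fact.out).coprime_iff_not_dvd.mpr hnd).symm
    refine h1 ⟨b * j * u, ?_⟩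
    show k ^ (b * j * u) = φ k
    rw [zpow_mul, ← hak, ← zpow_mul, show a * u = 1 + (p : ℤ) * -w by linear_combination huw, zpow_add, zpow_one,
      zpow_mul, zpow_natCast, ← (hc.conj φ).korder, pow_orderOf_eq_one, one_zpow, mul_one]
  push Not at hl'
  obtain ⟨τ, -, hext, -, hl2, -⟩ := hC.torus_at h.card hc hcR hφ hl'.2 hl'.1 (a := -1) (b := -1) (by norm_num)
  refine mem_of_sq h.odd ?_ ?_
  · have := M.inv_mem (mem_fixMod_of_ext hC.le hS hext (φ k))
    rw [hl2, zpow_neg_one] at this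
    rw [zpow_two]
    simpa [mul_inv_rev] using this
  · rw [hC.exp _ (φ k).2]
    exact M.one_mem

end Cfsg.OrderPFive
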