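import Cfsg.Agent.Lib.Fusion.EssentialSmall.Quad
import Mathlib.GroupTheory.Nilpotent

/-!
Groups of order `p ^ 5` with an element whose centralizer has order `p ^ 2`, and no abelian subgroup of
index `p`: the layers and the weights of an automorphism.
-/

set_option autoImplicit false
set_option linter.unusedSectionVars false

open scoped commutatorElement

namespace Cfsg.OrderPFive

section General

variable {G : Type*} [Group G]

theorem comm_zpow_zpow {a b : G} (ha : Commute a ⁅a, b⁆) (hb : Commute b ⁅a, b⁆) (i j : ℤ) :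
    ⁅a ^ i, b ^ j⁆ = ⁅a, b⁆ ^ (i * j) := by
  set z := ⁅a, b⁆ with hz
  have h1 : a * b * a⁻¹ = z * b := by rw [hz, commutatorElement_def]; group
  have h2 : a * b ^ j * a⁻¹ = z ^ j * b ^ j := by rw [← conj_zpow, h1, Commute.mul_zpow hb.symm]
  have h3 : b ^ j * a * (b ^ j)⁻¹ = (z ^ j)⁻¹ * a :=
    calc b ^ j * a * (b ^ j)⁻¹ = (z ^ j)⁻¹ * (z ^ j * b ^ j) * a * (b ^ j)⁻¹ := by group
      _ = (z ^ j)⁻¹ * (a * b ^ j * a⁻¹) * a * (b ^ j)⁻¹ := by rw [h2]
      _ = (z ^ j)⁻¹ * a := by group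
  have h4 : b ^ j * a ^ i * (b ^ j)⁻¹ = ((z ^ j)⁻¹) ^ i * a ^ i := by
    rw [← conj_zpow, h3, Commute.mul_zpow ((ha.zpow_right j).inv_right.symm)]
  calc ⁅a ^ i, b ^ j⁆ = a ^ i * (b ^ j * a ^ i * (b ^ j)⁻¹)⁻¹ := by rw [commutatorElement_def]; group
    _ = ((z ^ j)⁻¹ ^ i)⁻¹ := by rw [h4]; group
    _ = z ^ (i * j) := by rw [inv_zpow, inv_inv, ← zpow_mul, mul_comm]

theorem comm_mul_left {a g b : G} (h : Commute g b) : ⁅a * g, b⁆ = ⁅a, b⁆ := by
  rw [commutatorElement_def, commutatorElement_def, mul_inv_rev,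
    show a * g * b * (g⁻¹ * a⁻¹) * b⁻¹ = a * (g * b) * g⁻¹ * a⁻¹ * b⁻¹ by group, h.eq]
  group

theorem comm_mul_right {a b g : G} (h : Commute a g) : ⁅a, b * g⁆ = ⁅a, b⁆ := by
  rw [commutatorElement_def, commutatorElement_def, mul_inv_rev,
    show a * (b * g) * a⁻¹ * (g⁻¹ * b⁻¹) = a * b * (g * a⁻¹) * g⁻¹ * b⁻¹ by group,
    show g * a⁻¹ = a⁻¹ * g from (h.inv_left.eq).symm]
  group

/-- The elements centralizing `x` modulo a normal subgroup. -/
def cenMod (K : Subgroup G) [K.Normal] (x : G) : Subgroup G where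
  carrier := {s | ⁅s, x⁆ ∈ K}
  one_mem' := by simp
  mul_mem' := fun {a b} ha hb => by
    show ⁅a * b, x⁆ ∈ K
    rw [show ⁅a * b, x⁆ = a * ⁅b, x⁆ * a⁻¹ * ⁅a, x⁆ by simp only [commutatorElement_def]; group]
    exact K.mul_mem (Subgroup.Normal.conj_mem ‹K.Normal› _ hb a) ha
  inv_mem' := fun {a} ha => by
    show ⁅a⁻¹, x⁆ ∈ K
    have := Subgroup.Normal.conj_mem ‹K.Normal› _ (K.inv_mem ha) a⁻¹
    convert this using 1
    simp only [commutatorElement_def]; group

theorem mem_cenMod {K : Subgroup G} [K.Normal] {x s : G} : s ∈ cenMod K x ↔ ⁅s, x⁆ ∈ K := Iff.rfl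

theorem self_mem_cenMod {K : Subgroup G} [K.Normal] {x : G} : x ∈ cenMod K x := by
  rw [mem_cenMod, commutatorElement_self]; exact K.one_mem

theorem cenMod_mono {K L : Subgroup G} [K.Normal] [L.Normal] (h : K ≤ L) (x : G) : cenMod K x ≤ cenMod L x :=
  fun _ hs => h hs

theorem le_cenMod_of_step {K : Subgroup G} [K.Normal] (x : G) :
    Subgroup.upperCentralSeriesStep K ≤ cenMod K x := fun _ hs => hs x

theorem mem_step_of_cenMod_eq_top {K : Subgroup G} [K.Normal] {x : G} (h : cenMod K x = ⊤) :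
    x ∈ Subgroup.upperCentralSeriesStep K := fun y => by
  have h1 : ⁅y, x⁆ ∈ K := mem_cenMod.mp (h.ge trivial)
  rw [← commutatorElement_inv]
  exact K.inv_mem h1

/-- An element outside a normal subgroup of index `p` generates modulo it. -/
theorem exists_zpow_mem {p : ℕ} [Fact p.Prime] [Finite G] {M : Subgroup G} [M.Normal] (hi : M.index = p) {x : G}
    (hx : x ∉ M) (s : G) : ∃ i : ℤ, (x ^ i)⁻¹ * s ∈ M := by
  have hq : Nat.card (G ⧸ M) = p := by rw [← Subgroup.index_eq_card, hi]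
  haveI := Fintype.ofFinite (G ⧸ M)
  have h1 : (QuotientGroup.mk x : G ⧸ M) ≠ 1 := fun h => hx ((QuotientGroup.eq_one_iff x).mp h)
  have ho : orderOf (QuotientGroup.mk x : G ⧸ M) = p := orderOf_eq_prime (by rw [← hq]; exact pow_card_eq_one') h1
  have htop : Subgroup.zpowers (QuotientGroup.mk x : G ⧸ M) = ⊤ :=
    Subgroup.eq_top_of_card_eq _ (by rw [Nat.card_zpowers, ho, hq])
  obtain ⟨i, hi⟩ := htop.ge (Subgroup.mem_top (QuotientGroup.mk s : G ⧸ M))
  exact ⟨i, QuotientGroup.eq.mp (by rw [QuotientGroup.mk_zpow]; exact hi)⟩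

end General

section Finite

variable {G : Type*} [Group G] [Finite G] {p : ℕ} [Fact p.Prime]

open EssentialSmall EssentialSmall.Quad

instance step_normal (K : Subgroup G) [K.Normal] : (Subgroup.upperCentralSeriesStep K).Normal := by
  rw [Subgroup.upperCentralSeriesStep_eq_comap_center]
  exact Subgroup.Normal.comap inferInstance _

theorem card_cenMod_le {K L : Subgroup G} [K.Normal] [L.Normal] (h : K ≤ L) (x : G) :
    Nat.card (cenMod L x) * Nat.card K ≤ Nat.card (cenMod K x) * Nat.card L := by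
  have hle := cenMod_mono h x
  let f : (cenMod L x ⧸ (cenMod K x).subgroupOf (cenMod L x)) → (L ⧸ K.subgroupOf L) :=
    Quotient.map' (fun s => (⟨⁅(s : G), x⁆, mem_cenMod.mp s.2⟩ : L)) fun a b hab => by
      rw [QuotientGroup.leftRel_apply, Subgroup.mem_subgroupOf] at hab ⊢
      push_cast at hab ⊢
      have hk := Subgroup.Normal.conj_mem ‹K.Normal› _ (mem_cenMod.mp hab) (a : G)
      have hk2 := Subgroup.Normal.conj_mem ‹K.Normal› _ hk (⁅(a : G), x⁆⁻¹)
      rw [inv_inv] at hk2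
      convert hk2 using 1
      simp only [commutatorElement_def]; group
  have hinj : Function.Injective f := by
    intro q r
    induction q using QuotientGroup.induction_on with
    | H a =>
      induction r using QuotientGroup.induction_on with
      | H b =>
        intro hab
        rw [QuotientGroup.eq, Subgroup.mem_subgroupOf]
        have h1 : (⁅(a : G), x⁆)⁻¹ * ⁅(b : G), x⁆ ∈ K := Subgroup.mem_subgroupOf.mp (QuotientGroup.eq.mp hab)
        rw [mem_cenMod]
        push_cast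
        have h2 := Subgroup.Normal.conj_mem ‹K.Normal› _ (Subgroup.Normal.conj_mem ‹K.Normal› _ h1 ⁅(a : G), x⁆)
          (a : G)⁻¹
        convert h2 using 1
        simp only [commutatorElement_def]; group
  have hle' := Nat.card_le_card_of_injective f hinj
  calc Nat.card (cenMod L x) * Nat.card K
      = Nat.card (cenMod K x) * (cenMod K x).relIndex (cenMod L x) * Nat.card K := by rw [card_mul_relIndex hle]
    _ ≤ Nat.card (cenMod K x) * K.relIndex L * Nat.card K := by gcongr; exact hle'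
    _ = Nat.card (cenMod K x) * Nat.card L := by rw [mul_assoc, mul_comm (K.relIndex L), card_mul_relIndex h]

theorem center_step (hG : IsPGroup p G) {K : Subgroup G} [K.Normal] {x : G}
    (hx : Nat.card (cenMod K x) = p ^ 2 * Nat.card K) (hn : p ^ 3 * Nat.card K ≤ Nat.card G) :
    Nat.card (Subgroup.upperCentralSeriesStep K) = p * Nat.card K ∧ x ∉ Subgroup.upperCentralSeriesStep K ∧
      Nat.card (cenMod (Subgroup.upperCentralSeriesStep K) x) = p ^ 3 * Nat.card K := by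
  have hpp : p.Prime := Fact.out
  have hKpos : 0 < Nat.card K := Nat.card_pos
  set L := Subgroup.upperCentralSeriesStep K with hL
  have hKL : K ≤ L := fun k hk y => by
    rw [commutatorElement_def, show k * y * k⁻¹ * y⁻¹ = k * (y * k⁻¹ * y⁻¹) by group]
    exact K.mul_mem hk (Subgroup.Normal.conj_mem ‹K.Normal› _ (K.inv_mem hk) y)
  have hcK : cenMod K x ≠ ⊤ := fun h => by
    rw [h, Subgroup.card_top] at hx
    rw [hx, pow_succ p 2] at hn
    have := Nat.le_of_mul_le_mul_right hn hKpos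
    nlinarith [pow_pos hpp.pos 2, hpp.two_le]
  have hLc : L ≤ cenMod K x := le_cenMod_of_step x
  have hxL : x ∉ L := fun h => hcK (eq_top_iff.mpr fun y _ => by
    rw [mem_cenMod, ← commutatorElement_inv]
    exact K.inv_mem (h y))
  have hlt1 : K < L := by
    refine lt_of_le_of_ne hKL fun e => ?_
    have hKtop : K ≠ ⊤ := fun h => hxL (hKL (h.ge trivial))
    haveI : Nontrivial (G ⧸ K) := QuotientGroup.nontrivial_iff.mpr hKtop
    have hne := (hG.to_quotient K).center_nontrivial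
    obtain ⟨q, hq, hq1⟩ := (Subgroup.nontrivial_iff_exists_ne_one _).mp hne
    obtain ⟨g, rfl⟩ := QuotientGroup.mk_surjective q
    refine hq1 ((QuotientGroup.eq_one_iff g).mpr (e ▸ ?_))
    rw [hL, Subgroup.upperCentralSeriesStep_eq_comap_center]
    exact hq
  have hlt2 : L < cenMod K x := lt_of_le_of_ne hLc fun e => hxL (e ▸ self_mem_cenMod)
  have hb1 := lt_card_mul hG hlt1
  have hb2 := lt_card_mul hG hlt2
  rw [hx, pow_two, mul_comm (Nat.card L), mul_assoc] at hb2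
  have hLcard : Nat.card L = p * Nat.card K :=
    le_antisymm (Nat.le_of_mul_le_mul_left hb2 hpp.pos) (mul_comm p _ ▸ hb1)
  refine ⟨hLcard, hxL, le_antisymm ?_ ?_⟩
  · have h := card_cenMod_le hKL x
    rw [hx, hLcard] at h
    refine Nat.le_of_mul_le_mul_right (c := Nat.card K) (h.trans (le_of_eq ?_)) hKpos
    ring
  · have hrel : L.relIndex (cenMod K x) = p := by
      have h := card_mul_relIndex hLc
      rw [hx, hLcard, pow_two] at h
      refine Nat.eq_of_mul_eq_mul_left (Nat.mul_pos hpp.pos hKpos) (h.trans ?_)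
      ring
    haveI : Group.IsNilpotent G := hG.isNilpotent
    obtain ⟨g, hgN, hg⟩ := SetLike.exists_of_lt
      (Group.normalizerCondition_of_isNilpotent (G := G) _ (lt_top_iff_ne_top.mpr hcK))
    obtain ⟨j, hj⟩ := hG g
    have hr : (MulAut.conj g) ^ p ^ j = 1 := by rw [← map_pow, hj, map_one]
    have h1 := inv_mul_mem_of_step hr (K := L) (L := cenMod K x)
      (fun y hy => (inferInstance : L.Normal).conj_mem y hy g)
      (fun y hy => (Subgroup.mem_normalizer_iff.mp hgN y).mp hy) (by rw [hrel]) x self_mem_cenMod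
    have hgL : g ∈ cenMod L x := by
      rw [mem_cenMod]
      have := (inferInstance : L.Normal).conj_mem _ h1 x
      convert this using 1
      simp only [MulAut.conj_apply, commutatorElement_def]; group
    have hlt3 : cenMod K x < cenMod L x := lt_of_le_of_ne (cenMod_mono hKL x) fun e => hg (e.ge hgL)
    have := lt_card_mul hG hlt3
    rw [hx] at this
    refine le_trans (le_of_eq ?_) this
    ring

/-- The standing hypotheses on the group. -/
structure MC (p : ℕ) (G : Type*) [Group G] (x : G) : Prop where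
  pg : IsPGroup p G
  card : Nat.card G = p ^ 5
  cen : Nat.card (cenMod (⊥ : Subgroup G) x) = p ^ 2
  noab : ∀ B : Subgroup G, Nat.card B = p ^ 4 → ∃ a ∈ B, ∃ b ∈ B, a * b ≠ b * a

/-- The centralizer of the second centre. -/
def gam (G : Type*) [Group G] : Subgroup G := Subgroup.centralizer (Subgroup.upperCentralSeries G 2 : Set G)

local notation "Z" => Subgroup.upperCentralSeries G

theorem mem_Z_succ {i : ℕ} {v : G} : v ∈ Z (i + 1) ↔ ∀ y, ⁅v, y⁆ ∈ Z i := Iff.rfl

variable {x : G}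

namespace MC

theorem layers (h : MC p G x) :
    Nat.card (Z 1) = p ∧ Nat.card (Z 2) = p ^ 2 ∧ Nat.card (Z 3) = p ^ 3 ∧ x ∉ Z 3 ∧
      Nat.card (cenMod (Z 1) x) = p ^ 3 ∧ Nat.card (cenMod (Z 2) x) = p ^ 4 := by
  have hp := (Fact.out : p.Prime).pos
  have h0 : Nat.card (Z 0) = 1 := Subgroup.card_bot
  obtain ⟨a1, -, a3⟩ := center_step h.pg (K := Z 0) (x := x) (by rw [h0, mul_one]; exact h.cen)
    (by rw [h0, h.card, mul_one]; exact Nat.pow_le_pow_right hp (by norm_num))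
  change Nat.card (Z 1) = _ at a1
  change Nat.card (cenMod (Z 1) x) = _ at a3
  rw [h0, mul_one] at a1 a3
  obtain ⟨b1, -, b3⟩ := center_step h.pg (K := Z 1) (x := x) (by rw [a3, a1]; ring)
    (by rw [a1, h.card, ← pow_succ]; exact Nat.pow_le_pow_right hp (by norm_num))
  change Nat.card (Z 2) = _ at b1
  change Nat.card (cenMod (Z 2) x) = _ at b3
  rw [a1] at b1 b3
  obtain ⟨c1, c2, -⟩ := center_step h.pg (K := Z 2) (x := x) (by rw [b3, b1]; ring) (by rw [b1, h.card]; ring_nf; rfl)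
  change Nat.card (Z 3) = _ at c1
  change x ∉ Z 3 at c2
  exact ⟨a1, by rw [b1, pow_two], by rw [c1, b1]; ring, c2, a3, by rw [b3]; ring⟩

theorem Z_mono {i : ℕ} : Z i ≤ Z (i + 1) := fun v hv y => by
  rw [commutatorElement_def, show v * y * v⁻¹ * y⁻¹ = v * (y * v⁻¹ * y⁻¹) by group]
  exact (Z i).mul_mem hv ((inferInstance : (Z i).Normal).conj_mem _ ((Z i).inv_mem hv) y)

theorem x_not_mem (h : MC p G x) : x ∉ Z 2 := fun hx => h.layers.2.2.2.1 (Z_mono hx)

theorem cen_inter (h : MC p G x) {v : G} (hv : v ∈ Z 2) (hc : ⁅v, x⁆ = 1) : v ∈ Z 1 := by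
  by_contra hv1
  obtain ⟨h1, h2, -⟩ := h.layers
  have hlt : Z 1 < cenMod (⊥ : Subgroup G) x ⊓ Z 2 := lt_of_le_of_ne
    (le_inf (le_cenMod_of_step (K := (⊥ : Subgroup G)) x) Z_mono)
    fun e => hv1 (e.ge ⟨Subgroup.mem_bot.mpr hc, hv⟩)
  have hb := lt_card_mul h.pg hlt
  rw [h1, ← pow_two] at hb
  have e1 := Subgroup.eq_of_le_of_card_ge inf_le_left (h.cen.trans_le hb)
  have e2 := Subgroup.eq_of_le_of_card_ge inf_le_right (h2.trans_le hb)
  exact h.x_not_mem (e2.le (e1.ge self_mem_cenMod))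

theorem gam_card (h : MC p G x) : Nat.card (gam G) = p ^ 4 ∧ x ∉ gam G := by
  have hpp : p.Prime := Fact.out
  obtain ⟨h1, h2, -⟩ := h.layers
  have hlt : Z 1 < Z 2 := lt_of_le_of_ne Z_mono fun e => by
    rw [e, h2] at h1
    nlinarith [hpp.two_le]
  obtain ⟨w, hw, hw1⟩ := SetLike.exists_of_lt hlt
  have hcw : gam G = cenMod (⊥ : Subgroup G) w := by
    refine le_antisymm (fun s hs => ?_) fun s hs => ?_
    · rw [mem_cenMod, Subgroup.mem_bot, commutatorElement_eq_one_iff_mul_comm]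
      exact (Subgroup.mem_centralizer_iff.mp hs w hw).symm
    · rw [gam, Subgroup.mem_centralizer_iff]
      have hsw : s * w = w * s := commutatorElement_eq_one_iff_mul_comm.mp (Subgroup.mem_bot.mp hs)
      intro z hz
      let C := Subgroup.centralizer ({s} : Set G) ⊓ Z 2
      have hlt' : Z 1 < C := lt_of_le_of_ne (le_inf (fun v hv => Subgroup.mem_centralizer_singleton_iff.mpr (by
          exact commutatorElement_eq_one_iff_mul_comm.mp (Subgroup.mem_bot.mp (hv s)))) Z_mono)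
        fun e => hw1 (e.ge ⟨Subgroup.mem_centralizer_singleton_iff.mpr hsw.symm, hw⟩)
      have hb := lt_card_mul h.pg hlt'
      rw [h1, ← pow_two] at hb
      exact Subgroup.mem_centralizer_singleton_iff.mp
        ((Subgroup.eq_of_le_of_card_ge inf_le_right (h2.trans_le hb)).ge hz).1
  have hx : x ∉ gam G := fun hg => hw1 (h.cen_inter hw
    (commutatorElement_eq_one_iff_mul_comm.mpr (Subgroup.mem_centralizer_iff.mp hg w hw)))
  refine ⟨?_, hx⟩
  have hle := card_cenMod_le (bot_le : (⊥ : Subgroup G) ≤ Z 1) w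
  rw [show cenMod (Z 1) w = ⊤ from eq_top_iff.mpr fun s _ => by
    rw [mem_cenMod, ← commutatorElement_inv]
    exact (Z 1).inv_mem (hw s), Subgroup.card_top, h.card, Subgroup.card_bot, mul_one, h1, ← hcw] at hle
  obtain ⟨n, hn⟩ := IsPGroup.iff_card.mp (h.pg.to_subgroup (gam G))
  rw [hn, ← pow_succ, Nat.pow_le_pow_iff_right hpp.one_lt] at hle
  have hlt5 : Nat.card (gam G) < p ^ 5 := h.card ▸ lt_of_le_of_ne (Subgroup.card_le_card_group _) fun e =>
    hx (Subgroup.eq_top_of_card_eq _ e ▸ trivial)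
  rw [hn, Nat.pow_lt_pow_iff_right hpp.one_lt] at hlt5
  rw [hn]
  congr 1
  omega

theorem gam_index (h : MC p G x) : (gam G).index = p := by
  have := (gam G).card_mul_index
  rw [h.gam_card.1, h.card, pow_succ p 4] at this
  exact Nat.eq_of_mul_eq_mul_left (pow_pos (Fact.out : p.Prime).pos 4) this

theorem comm_mem_three (h : MC p G x) (a b : G) : ⁅a, b⁆ ∈ Z 3 := by
  have hi : (Z 3).index = p ^ 2 := by
    have := (Z 3).card_mul_index
    rw [h.layers.2.2.1, h.card, pow_add p 3 2] at this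
    exact Nat.eq_of_mul_eq_mul_left (pow_pos (Fact.out : p.Prime).pos 3) this
  have hq := IsPGroup.commutative_of_card_eq_prime_sq (p := p) (G := G ⧸ Z 3) (by rw [← Subgroup.index_eq_card, hi])
  rw [← QuotientGroup.eq_one_iff, commutatorElement_def]
  show (QuotientGroup.mk a * QuotientGroup.mk b * (QuotientGroup.mk a)⁻¹ * (QuotientGroup.mk b)⁻¹ : G ⧸ Z 3) = 1
  rw [hq (QuotientGroup.mk a) (QuotientGroup.mk b)]
  group

theorem gam_normal : (gam G).Normal :=
  Subgroup.normal_centralizer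

theorem comm_mem_gam (h : MC p G x) (a b : G) : ⁅a, b⁆ ∈ gam G := by
  haveI := gam_normal (G := G)
  have hq : Nat.card (G ⧸ gam G) = p := by rw [← Subgroup.index_eq_card, h.gam_index]
  haveI := isCyclic_of_prime_card hq
  rw [← QuotientGroup.eq_one_iff]
  show ⁅(QuotientGroup.mk a : G ⧸ gam G), (QuotientGroup.mk b : G ⧸ gam G)⁆ = (1 : G ⧸ gam G)
  obtain ⟨g, hg⟩ := IsCyclic.exists_generator (α := G ⧸ gam G)
  obtain ⟨i, hi⟩ := hg (QuotientGroup.mk a)
  obtain ⟨j, hj⟩ := hg (QuotientGroup.mk b)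
  rw [← hi, ← hj]
  exact commutatorElement_eq_one_iff_mul_comm.mpr ((Commute.refl g).zpow_zpow i j).eq

theorem frame (h : MC p G x) : ∃ u, u ∈ gam G ∧ u ∉ Z 3 ∧ Z 3 ≤ gam G ∧ Z 3 ≤ cenMod (Z 2) x ∧
    ⁅x, u⁆ ∉ Z 2 ∧ ⁅⁅x, u⁆, x⁆ ∉ Z 1 ∧ ⁅⁅⁅x, u⁆, x⁆, x⁆ ≠ 1 ∧ ⁅u, ⁅x, u⁆⁆ ≠ 1 ∧ ⁅u, ⁅x, u⁆⁆ ∈ Z 1 ∧
    (∀ a ∈ Z 3, ∀ b ∈ Z 3, a * b = b * a) ∧ ∀ s ∈ gam G, ∃ i : ℤ, (u ^ i)⁻¹ * s ∈ Z 3 := by
  have hpp : p.Prime := Fact.out
  haveI := gam_normal (G := G)
  obtain ⟨hZ1, hZ2, hZ3, hx3, hT3, hT4⟩ := h.layers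
  obtain ⟨hgc, hxg⟩ := h.gam_card
  obtain ⟨u, hu, huT⟩ : ∃ u ∈ gam G, u ∉ cenMod (Z 2) x := by
    by_contra hh
    push Not at hh
    exact hxg ((Subgroup.eq_of_le_of_card_ge hh (hT4.trans hgc.symm).le).ge self_mem_cenMod)
  set c := ⁅x, u⁆ with hc
  have hc2 : c ∉ Z 2 := fun hm => huT (by
    rw [mem_cenMod, ← commutatorElement_inv]; exact (Z 2).inv_mem hm)
  have hc3 : c ∈ Z 3 := h.comm_mem_three x u
  have hcg : c ∈ gam G := h.comm_mem_gam x u
  have hZ2g : Z 2 ≤ gam G := by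
    intro v hv
    rw [gam, Subgroup.mem_centralizer_iff]
    intro w hw
    let C := Subgroup.centralizer ({v} : Set G) ⊓ Z 2
    by_contra hne
    have hv1 : v ∉ Z 1 := fun hv1 => hne
      (commutatorElement_eq_one_iff_mul_comm.mp (Subgroup.mem_bot.mp (hv1 w))).symm
    have hlt' : Z 1 < C := lt_of_le_of_ne (le_inf (fun y hy => Subgroup.mem_centralizer_singleton_iff.mpr (by
        exact commutatorElement_eq_one_iff_mul_comm.mp (Subgroup.mem_bot.mp (hy v)))) Z_mono)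
      fun e => hv1 (e.ge ⟨Subgroup.mem_centralizer_singleton_iff.mpr rfl, hv⟩)
    have hb := lt_card_mul h.pg hlt'
    rw [hZ1, ← pow_two] at hb
    exact hne (Subgroup.mem_centralizer_singleton_iff.mp
      ((Subgroup.eq_of_le_of_card_ge inf_le_right (hZ2.trans_le hb)).ge hw).1)
  have hg3 : Z 3 ≤ gam G := by
    have hlt : Z 2 < Z 3 ⊓ gam G := lt_of_le_of_ne (le_inf Z_mono hZ2g) fun e => hc2 (e.ge ⟨hc3, hcg⟩)
    have hb := lt_card_mul h.pg hlt
    rw [hZ2, ← pow_succ] at hb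
    exact (Subgroup.eq_of_le_of_card_ge inf_le_left (hZ3.trans_le hb)).ge.trans inf_le_right
  have hT : Z 3 ≤ cenMod (Z 2) x := fun v hv => hv x
  have hu3 : u ∉ Z 3 := fun hh => huT (hT hh)
  have hd1 : ⁅c, x⁆ ∉ Z 1 := fun hm => by
    have hle : Z 2 ≤ cenMod (Z 1) x := fun v hv => hv x
    have hlt : Z 2 < Z 3 ⊓ cenMod (Z 1) x := lt_of_le_of_ne (le_inf Z_mono hle) fun e => hc2 (e.ge ⟨hc3, hm⟩)
    have hb := lt_card_mul h.pg hlt
    rw [hZ2, ← pow_succ] at hb
    have e1 := Subgroup.eq_of_le_of_card_ge inf_le_right (hT3.trans_le hb)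
    exact hx3 (e1.ge self_mem_cenMod).1
  have hd2 : ⁅c, x⁆ ∈ Z 2 := hc3 x
  have he1 : ⁅⁅c, x⁆, x⁆ ≠ 1 := fun e => hd1 (h.cen_inter hd2 e)
  -- the group generated
  have hM : ∀ H : Subgroup G, Z 2 ≤ H → c ∈ H → Z 3 ≤ H := fun H h2 hcH => by
    have hlt : Z 2 < Z 3 ⊓ H := lt_of_le_of_ne (le_inf Z_mono h2) fun e => hc2 (e.ge ⟨hc3, hcH⟩)
    have hb := lt_card_mul h.pg hlt
    rw [hZ2, ← pow_succ] at hb
    exact (Subgroup.eq_of_le_of_card_ge inf_le_left (hZ3.trans_le hb)).ge.trans inf_le_right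
  have hM4 : ∀ H : Subgroup G, Z 3 ≤ H → u ∈ H → gam G ≤ H := fun H h3 huH => by
    have hlt : Z 3 < gam G ⊓ H := lt_of_le_of_ne (le_inf hg3 h3) fun e => hu3 (e.ge ⟨hu, huH⟩)
    have hb := lt_card_mul h.pg hlt
    rw [hZ3, ← pow_succ] at hb
    exact (Subgroup.eq_of_le_of_card_ge inf_le_left (hgc.trans_le hb)).ge.trans inf_le_right
  have hcomm2 : ∀ s ∈ gam G, Z 2 ≤ Subgroup.centralizer ({s} : Set G) := fun s hs v hv =>
    Subgroup.mem_centralizer_singleton_iff.mpr (Subgroup.mem_centralizer_iff.mp hs v hv)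
  have h3ab : ∀ a ∈ Z 3, ∀ b ∈ Z 3, a * b = b * a := by
    have hcc : Z 3 ≤ Subgroup.centralizer ({c} : Set G) :=
      hM _ (hcomm2 c hcg) (Subgroup.mem_centralizer_singleton_iff.mpr rfl)
    intro a ha b hb
    refine (Subgroup.mem_centralizer_singleton_iff.mp ((hM _ (hcomm2 b (hg3 hb)) ?_) ha))
    exact Subgroup.mem_centralizer_singleton_iff.mpr (Subgroup.mem_centralizer_singleton_iff.mp (hcc hb)).symm
  have hdec : ∀ s ∈ gam G, ∃ i : ℤ, (u ^ i)⁻¹ * s ∈ Z 3 := by
    intro s hs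
    have hi : ((Z 3).subgroupOf (gam G)).index = p := by
      have h1 := card_mul_relIndex hg3
      rw [hZ3, hgc, pow_succ p 3] at h1
      exact Nat.eq_of_mul_eq_mul_left (pow_pos hpp.pos 3) h1
    obtain ⟨i, hi'⟩ := exists_zpow_mem hi (x := (⟨u, hu⟩ : gam G)) hu3 ⟨s, hs⟩
    exact ⟨i, hi'⟩
  have hz1 : ⁅u, c⁆ ≠ 1 := fun e => by
    have huc := commutatorElement_eq_one_iff_mul_comm.mp e
    have hcu : gam G ≤ Subgroup.centralizer ({u} : Set G) :=
      hM4 _ (hM _ (hcomm2 u hu) (Subgroup.mem_centralizer_singleton_iff.mpr huc.symm))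
        (Subgroup.mem_centralizer_singleton_iff.mpr rfl)
    obtain ⟨a, ha, b, hb, hne⟩ := h.noab (gam G) hgc
    refine hne (Subgroup.mem_centralizer_singleton_iff.mp ((hM4 (Subgroup.centralizer ({b} : Set G)) ?_ ?_) ha))
    · refine hM _ (hcomm2 b hb) (Subgroup.mem_centralizer_singleton_iff.mpr ?_)
      exact (Subgroup.mem_centralizer_singleton_iff.mp ((hM4 (Subgroup.centralizer ({c} : Set G))
        (fun v hv => Subgroup.mem_centralizer_singleton_iff.mpr (h3ab v hv c hc3))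
        (Subgroup.mem_centralizer_singleton_iff.mpr huc)) hb)).symm
    · exact Subgroup.mem_centralizer_singleton_iff.mpr (Subgroup.mem_centralizer_singleton_iff.mp (hcu hb)).symm
  refine ⟨u, hu, hu3, hg3, hT, hc2, hd1, he1, hz1, ?_, h3ab, hdec⟩
  -- the commutator is central
  intro y
  refine Subgroup.mem_bot.mpr (commutatorElement_eq_one_iff_mul_comm.mpr ?_)
  have hh : u⁻¹ * (y * u * y⁻¹) ∈ Z 3 := by
    rw [show u⁻¹ * (y * u * y⁻¹) = ⁅u⁻¹, y⁆ by rw [commutatorElement_def]; group]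
    exact h.comm_mem_three _ _
  have hy2 : c⁻¹ * (y * c * y⁻¹) ∈ Z 2 := by
    rw [show c⁻¹ * (y * c * y⁻¹) = ⁅c⁻¹, y⁆ by rw [commutatorElement_def]; group]
    exact (Z 3).inv_mem hc3 y
  have hconj : y * ⁅u, c⁆ * y⁻¹ = ⁅u, c⁆ := by
    rw [show y * ⁅u, c⁆ * y⁻¹ = ⁅u * (u⁻¹ * (y * u * y⁻¹)), c * (c⁻¹ * (y * c * y⁻¹))⁆ by
      simp only [commutatorElement_def]; group,
      comm_mul_right (Subgroup.mem_centralizer_iff.mp ((gam G).mul_mem hu (hg3 hh)) _ hy2).symm,
      comm_mul_left (h3ab _ hh c hc3)]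
  exact (mul_inv_eq_iff_eq_mul.mp hconj).symm

end MC

end Finite

end Cfsg.OrderPFive
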