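import Cfsg.Agent.Lib.Fusion.OrderPFive.Split

/-!
An elementary essential subgroup of order `p ^ 3` leads to a proper focal subgroup.
-/

set_option autoImplicit false
set_option linter.unusedSectionVars false

open scoped commutatorElement

namespace Cfsg.OrderPFive

open FusionSystem EssentialSmall MaxClassCube

variable {Ω : Type*} [Group Ω] {S : Subgroup Ω} [Finite S] {p : ℕ} [Fact p.Prime] {F : FusionSystem S}
  {E : Subgroup Ω}

theorem Cube.elim (hC : Cube p F E) (h : H5 p F) : False := by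
  have hpp : p.Prime := Fact.out
  have hpI : Prime (p : ℤ) := Nat.prime_iff_prime_int.mp hpp
  haveI := hC.finE
  obtain ⟨c, Y, k, hc, hcR⟩ := hC.exists_tv h.card
  obtain ⟨U, hU⟩ := hC.exists_hyp
  obtain ⟨φ, hφ, hφU⟩ := hU.proper
  obtain ⟨hav1, hav2⟩ := hU.avoid hc hcR hc (hU.PY hcR) hφ hφU
  obtain ⟨fr, hfl⟩ := hC.exists_frame h.card hc hcR hav1
  obtain ⟨h3, hgx, ms, β₀, hβ₀, hmsZ, hmsK, hgm, hbl, -, v₀, hv₀, hvT⟩ :=
    hC.shape h hc hcR hφ hav1 hav2 fr hfl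
  have h2ne : ¬ (p : ℤ) ∣ 2 := fun hd => h.odd ((Nat.prime_dvd_prime_iff_eq hpp Nat.prime_two).mp (by exact_mod_cast hd))
  haveI := fr.Tn
  haveI := fr.Zn
  haveI := fr.Kn
  haveI := fr.Ln
  have hlp : fr.l ^ p = 1 := Subtype.ext (by rw [Subgroup.coe_pow]; exact hC.exp _ fr.lE)
  have hzc : ∀ y ∈ fr.K, ∀ q, Commute y q := fun y hy q => fr.Kcen y hy q
  have hlL : fr.l ∉ fr.L := fun hh => fr.zne (commutatorElement_eq_one_iff_mul_comm.mpr (fr.Label _ fr.x0L _ hh))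
  have hx0K : fr.x0 ∉ fr.K := fun hh => fr.x0E (fr.hZSE (fr.KZ hh))
  have hmsT : ms ∈ fr.T := fr.LT (fr.ZL hmsZ)
  have hTc : Nat.card (⊤ : Subgroup S) = p * Nat.card fr.T := by rw [Subgroup.card_top, h.card, fr.cardT]; ring
  have hTi : fr.T.index = p := by
    have := fr.T.card_mul_index
    rw [← Subgroup.card_top (G := S), hTc, mul_comm p] at this
    exact Nat.eq_of_mul_eq_mul_left Nat.card_pos this
  -- the adjusted generator
  obtain ⟨e, he⟩ := exists_zpow_eq fr.cardK fr.z_mem fr.zne hgx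
  set g' := fr.g * fr.l ^ e with hg'
  have hlx : ⁅fr.l, fr.x0⁆ = ⁅fr.x0, fr.l⁆⁻¹ := (commutatorElement_inv _ _).symm
  have hg'x : Commute g' fr.x0 := by
    refine commutatorElement_eq_one_iff_commute.mp ?_
    rw [hg', show ⁅fr.g * fr.l ^ e, fr.x0⁆ = fr.g * ⁅fr.l ^ e, fr.x0⁆ * fr.g⁻¹ * ⁅fr.g, fr.x0⁆ by
      simp only [commutatorElement_def]; group]
    have h3' : ⁅fr.l ^ e, fr.x0⁆ = ⁅fr.x0, fr.l⁆⁻¹ ^ e := by
      conv_lhs => rw [show fr.x0 = fr.x0 ^ (1 : ℤ) from (zpow_one _).symm]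
      rw [comm_zpow_zpow (by rw [hlx]; exact (hzc _ fr.z_mem _).inv_left.symm)
        (by rw [hlx]; exact (hzc _ fr.z_mem _).inv_left.symm), hlx, mul_one]
    rw [h3', ← (((hzc _ fr.z_mem fr.g).inv_left).zpow_left e).eq, mul_inv_cancel_right, ← he, inv_zpow, inv_mul_cancel]
  have hg'l : ⁅g', fr.l⁆ = fr.x0 := by
    rw [hg', comm_mul_left ((Commute.refl fr.l).zpow_left e), ← fr.x0_eq]
  have hg'm : ⁅g', ms⁆ = ⁅fr.g, ms⁆ := by
    rw [hg', comm_mul_left (show Commute (fr.l ^ e) ms from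
      (fr.Zcen _ hmsZ _ (fr.T.zpow_mem (fr.ET fr.lE) e)).symm)]
  have hg'T : g' ∉ fr.T := fun hh => fr.gT ((fr.T.mul_mem_cancel_right (fr.T.zpow_mem (fr.ET fr.lE) e)).mp hh)
  -- modulo the line
  have hKc : ∀ y ∈ fr.L, ∀ q : S ⧸ fr.K, Commute (QuotientGroup.mk y : S ⧸ fr.K) q := by
    have hall : ∀ s, ⁅fr.x0, s⁆ ∈ fr.K := by
      intro s
      obtain ⟨i, hi⟩ := exists_zpow_mem hTi fr.gT s
      rw [← QuotientGroup.eq_one_iff, show (QuotientGroup.mk ⁅fr.x0, s⁆ : S ⧸ fr.K) =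
        ⁅(QuotientGroup.mk fr.x0 : S ⧸ fr.K), (QuotientGroup.mk s : S ⧸ fr.K)⁆ from
        map_commutatorElement (QuotientGroup.mk' fr.K) _ _, commutatorElement_eq_one_iff_commute,
        show s = fr.g ^ i * ((fr.g ^ i)⁻¹ * s) by group, QuotientGroup.mk_mul, QuotientGroup.mk_zpow]
      exact ((mk_commute (K := fr.K) (by rw [← commutatorElement_inv]; exact fr.K.inv_mem hgx)).zpow_right i).mul_right
        (mk_commute (K := fr.K) (fr.commK _ (fr.LT fr.x0L) _ hi))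
    have hLstep : ∀ y ∈ fr.L, ∀ s, ⁅y, s⁆ ∈ fr.K :=
      fun y hy => (show fr.L ≤ Subgroup.upperCentralSeriesStep fr.K from
        (fr.L_le hC).trans (sup_le (fun y hy s => fr.Zstep y hy s) (Subgroup.zpowers_le.mpr hall))) hy
    intro y hy q
    induction q using QuotientGroup.induction_on with
    | H s => exact mk_commute (K := fr.K) (hLstep y hy s)
  have hX : ⁅(QuotientGroup.mk g' : S ⧸ fr.K), (QuotientGroup.mk fr.l : S ⧸ fr.K)⁆ = QuotientGroup.mk fr.x0 := by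
    rw [← hg'l]; exact (map_commutatorElement (QuotientGroup.mk' fr.K) g' fr.l).symm
  -- the derived subgroup
  set D := fr.K ⊔ Subgroup.zpowers fr.x0 with hD
  have hxp : fr.x0 ^ p ∈ fr.K := by
    rw [← QuotientGroup.eq_one_iff, QuotientGroup.mk_pow]
    have := comm_zpow_zpow (a := (QuotientGroup.mk g' : S ⧸ fr.K)) (b := QuotientGroup.mk fr.l)
      (by rw [hX]; exact (hKc _ fr.x0L _).symm) (by rw [hX]; exact (hKc _ fr.x0L _).symm) 1 (p : ℤ)
    rw [zpow_one, zpow_natCast, ← QuotientGroup.mk_pow, hlp, QuotientGroup.mk_one, commutatorElement_one_right, hX,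
      one_mul, zpow_natCast] at this
    exact this.symm
  have hKD : fr.K ≤ D := le_sup_left
  have hxD : fr.x0 ∈ D := Subgroup.mem_sup_right (Subgroup.mem_zpowers _)
  have hDL : D ≤ fr.L := sup_le (fr.KZ.trans fr.ZL) (Subgroup.zpowers_le.mpr fr.x0L)
  have hDc : Nat.card D = p ^ 2 := by
    have hlt : fr.K < D := lt_of_le_of_ne hKD fun e => hx0K (e.ge hxD)
    have h1 := Quad.lt_card_mul h.pg hlt
    have h2 := Quad.card_sup_zpowers_le fr.Kn hxp
    rw [fr.cardK] at h1 h2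
    rw [pow_two]
    exact le_antisymm h2 h1
  haveI hDn : D.Normal := ⟨fun v hv s => by
    have h1 : (QuotientGroup.mk (s * v * s⁻¹) : S ⧸ fr.K) = QuotientGroup.mk v := by
      rw [QuotientGroup.mk_mul, QuotientGroup.mk_mul, QuotientGroup.mk_inv, ← (hKc v (hDL hv) (QuotientGroup.mk s)).eq,
        mul_inv_cancel_right]
    have h2 := QuotientGroup.eq.mp h1.symm
    have := D.mul_mem hv (hKD h2)
    rwa [mul_inv_cancel_left] at this⟩
  have hmsD : ms ∉ D := fun hh => fr.x0E (fr.hZSE (by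
    have hlt : fr.K < D ⊓ fr.ZS := lt_of_le_of_ne (le_inf hKD fr.KZ) fun e => hmsK (e.ge ⟨hh, hmsZ⟩)
    have hb := Quad.lt_card_mul h.pg hlt
    rw [fr.cardK, ← pow_two] at hb
    exact ((Subgroup.eq_of_le_of_card_ge inf_le_left (hDc.trans_le hb)).ge hxD).2))
  -- the centralizer of the derived subgroup
  set C := cenMod (⊥ : Subgroup S) fr.x0 with hCdef
  have hCiff : ∀ {s : S}, s ∈ C ↔ Commute s fr.x0 := fun {s} => by
    rw [hCdef, mem_cenMod, Subgroup.mem_bot, commutatorElement_eq_one_iff_commute]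
  have hCD : ∀ s ∈ C, ∀ d ∈ D, Commute s d := fun s hs d hd =>
    ((show D ≤ Subgroup.centralizer ({s} : Set S) from sup_le
      (fun y hy => Subgroup.mem_centralizer_singleton_iff.mpr (fr.Kcen y hy s))
      (Subgroup.zpowers_le.mpr (Subgroup.mem_centralizer_singleton_iff.mpr (hCiff.mp hs).symm.eq))) hd
      |> Subgroup.mem_centralizer_singleton_iff.mp).symm
  have hLC : fr.L ≤ C := fun y hy => hCiff.mpr (fr.Label _ hy _ fr.x0L)
  have hg'C : g' ∈ C := hCiff.mpr hg'x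
  have hlC : fr.l ∉ C := fun hh => fr.zne (commutatorElement_eq_one_iff_commute.mpr (hCiff.mp hh).symm)
  have hCc : Nat.card C = p ^ 4 := by
    obtain ⟨j, hj⟩ := IsPGroup.iff_card.mp (h.pg.to_subgroup C)
    have h1 := Quad.lt_card_mul h.pg (lt_of_le_of_ne hLC fun e => hg'T (fr.LT (e.ge hg'C)))
    rw [fr.cardL, ← pow_succ, hj] at h1
    have h4 := (Nat.pow_le_pow_iff_right hpp.one_lt).mp h1
    have h2 : Nat.card C < p ^ 5 := h.card ▸ lt_of_le_of_ne (Subgroup.card_le_card_group _) fun e =>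
      hlC (Subgroup.eq_top_of_card_eq _ e ▸ trivial)
    rw [hj, Nat.pow_lt_pow_iff_right hpp.one_lt] at h2
    rw [hj]
    congr 1
    omega
  have hCSc : Nat.card (⊤ : Subgroup S) = p * Nat.card C := by rw [Subgroup.card_top, h.card, hCc]; ring
  have hCi : C.index = p := by
    have := C.card_mul_index
    rw [← Subgroup.card_top (G := S), hCSc, mul_comm p] at this
    exact Nat.eq_of_mul_eq_mul_left Nat.card_pos this
  haveI hCn : C.Normal := CfsgLib.CyclicMax.normal_of_index_prime h.pg hCi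
  have hLcC : Nat.card C = p * Nat.card fr.L := by rw [hCc, fr.cardL]; ring
  have hDcL : Nat.card fr.L = p * Nat.card D := by rw [fr.cardL, hDc]; ring
  have hdecC : ∀ q ∈ C, ∃ i : ℤ, (g' ^ i)⁻¹ * q ∈ fr.L := by
    intro q hq
    haveI : (fr.L.subgroupOf C).Normal := Subgroup.normal_subgroupOf
    obtain ⟨i, hi⟩ := exists_zpow_mem (p := p) (M := fr.L.subgroupOf C) (by
      have h' := Quad.card_mul_relIndex hLC
      rw [hLcC, mul_comm p] at h'
      exact Nat.eq_of_mul_eq_mul_left Nat.card_pos h') (x := (⟨g', hg'C⟩ : C))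
      (fun hh => hg'T (fr.LT hh)) ⟨q, hq⟩
    exact ⟨i, hi⟩
  have hdec : ∀ s : S, ∃ i j : ℤ, ∃ y ∈ fr.L, s = fr.l ^ j * (g' ^ i * y) := by
    intro s
    obtain ⟨j, hj⟩ := exists_zpow_mem hCi hlC s
    obtain ⟨i, hi⟩ := hdecC _ hj
    exact ⟨i, j, _, hi, by group⟩
  have hCCK : ∀ a ∈ C, ∀ b ∈ C, Commute (QuotientGroup.mk a : S ⧸ fr.K) (QuotientGroup.mk b) := by
    intro a ha b hb
    obtain ⟨i, hi⟩ := hdecC a ha
    obtain ⟨j, hj⟩ := hdecC b hb
    obtain ⟨ya, hya, rfl⟩ : ∃ y ∈ fr.L, a = g' ^ i * y := ⟨_, hi, (mul_inv_cancel_left _ _).symm⟩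
    obtain ⟨yb, hyb, rfl⟩ : ∃ y ∈ fr.L, b = g' ^ j * y := ⟨_, hj, (mul_inv_cancel_left _ _).symm⟩
    rw [QuotientGroup.mk_mul, QuotientGroup.mk_mul, QuotientGroup.mk_zpow, QuotientGroup.mk_zpow]
    exact (((Commute.refl _).zpow_zpow i j).mul_right (hKc _ hyb _).symm).mul_left (hKc _ hya _)
  -- commutators
  have hcommD : ∀ a b : S, ⁅a, b⁆ ∈ D := by
    have hX' : Commute (QuotientGroup.mk g' : S ⧸ D) (QuotientGroup.mk fr.l) := mk_commute (by rw [hg'l]; exact hxD)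
    have hLc : ∀ y ∈ fr.L, ∀ q : S ⧸ D, Commute (QuotientGroup.mk y : S ⧸ D) q := by
      intro y hy q
      induction q using QuotientGroup.induction_on with
      | H s =>
        refine mk_commute (hKD ((QuotientGroup.eq_one_iff _).mp ?_))
        rw [show (QuotientGroup.mk ⁅y, s⁆ : S ⧸ fr.K) = ⁅(QuotientGroup.mk y : S ⧸ fr.K), (QuotientGroup.mk s : S ⧸ fr.K)⁆
          from map_commutatorElement (QuotientGroup.mk' fr.K) _ _]
        exact commutatorElement_eq_one_iff_commute.mpr (hKc y hy _)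
    intro a b
    obtain ⟨i, j, y, hy, rfl⟩ := hdec a
    obtain ⟨i', j', y', hy', rfl⟩ := hdec b
    rw [← QuotientGroup.eq_one_iff, ← QuotientGroup.mk'_apply, map_commutatorElement,
      commutatorElement_eq_one_iff_commute, map_mul, map_mul, map_mul, map_mul, map_zpow, map_zpow, map_zpow,
      map_zpow]
    simp only [QuotientGroup.mk'_apply]
    refine Commute.mul_left ?_ (Commute.mul_left ?_ (hLc y hy _))
    · exact ((Commute.refl _).zpow_zpow j j').mul_right ((hX'.symm.zpow_zpow j i').mul_right (hLc y' hy' _).symm)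
    · exact (hX'.zpow_zpow i j').mul_right (((Commute.refl _).zpow_zpow i i').mul_right (hLc y' hy' _).symm)
  -- invariance
  have hκ : ⁅g', ms⁆ ∈ fr.K := by
    rw [← commutatorElement_inv]; exact fr.K.inv_mem (fr.Zstep _ hmsZ _)
  have hDi : Inv F D := by
    intro β _
    refine (show D ≤ D.comap β.toMonoidHom from sup_le (fun w hw => ?_) (Subgroup.zpowers_le.mpr ?_))
    · obtain ⟨i, rfl⟩ := exists_zpow_eq fr.cardK fr.z_mem fr.zne hw
      show β (_ ^ i) ∈ D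
      rw [map_zpow, map_commutatorElement]
      exact D.zpow_mem (hcommD _ _) i
    · show β fr.x0 ∈ D
      rw [fr.x0_eq, map_commutatorElement]
      exact hcommD _ _
  have hCinv : Inv F C := by
    intro β hβ s hs
    refine hCiff.mpr ?_
    have hd : β⁻¹ fr.x0 ∈ D := hDi _ ((F.autGroup S).inv_mem hβ) _ hxD
    have := (hCD s hs _ hd).map β.toMonoidHom
    simpa using this
  have hKi : Inv F fr.K := by
    intro β hβ w hw
    obtain ⟨i, rfl⟩ := exists_zpow_eq fr.cardK hκ (by rw [hg'm]; exact hgm) hw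
    rw [map_zpow, map_commutatorElement]
    refine fr.K.zpow_mem ((QuotientGroup.eq_one_iff _).mp ?_) i
    rw [← QuotientGroup.mk'_apply, map_commutatorElement]
    exact commutatorElement_eq_one_iff_commute.mpr
      (hCCK _ (hCinv β hβ _ hg'C) _ (hCinv β hβ _ (hLC (fr.ZL hmsZ))))
  have hxK' : ∀ m : ℤ, (QuotientGroup.mk fr.x0 : S ⧸ fr.K) ^ m = 1 → (p : ℤ) ∣ m := fun m hm => by
    rw [← QuotientGroup.mk_zpow, QuotientGroup.eq_one_iff] at hm
    exact dvd_of_zpow_mem hKD (by rw [hDc, fr.cardK, pow_two]) hxD hx0K hm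
  have hstepL : ∀ v ∈ C, (∀ q : S ⧸ fr.K, Commute (QuotientGroup.mk v : S ⧸ fr.K) q) → v ∈ fr.L := by
    intro v hv hq
    obtain ⟨i, hi⟩ := hdecC v hv
    have h1 := commutatorElement_eq_one_iff_commute.mpr (hq (QuotientGroup.mk fr.l))
    rw [show v = g' ^ i * ((g' ^ i)⁻¹ * v) by group, QuotientGroup.mk_mul, QuotientGroup.mk_zpow,
      comm_mul_left (hKc _ hi _)] at h1
    have h2 := comm_zpow_zpow (a := (QuotientGroup.mk g' : S ⧸ fr.K)) (b := QuotientGroup.mk fr.l)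
      (by rw [hX]; exact (hKc _ fr.x0L _).symm) (by rw [hX]; exact (hKc _ fr.x0L _).symm) i 1
    rw [zpow_one, h1, hX, mul_one] at h2
    obtain ⟨r, rfl⟩ := hxK' i h2.symm
    have := fr.L.mul_mem (show g' ^ ((p : ℤ) * r) ∈ fr.L by
      rw [zpow_mul, zpow_natCast]; exact fr.L.zpow_mem (pow_p_mem hLC hLcC hg'C) r) hi
    rwa [mul_inv_cancel_left] at this
  have hLi : Inv F fr.L := by
    intro β hβ v hv
    refine hstepL _ (hCinv β hβ _ (hLC hv)) fun q => ?_
    induction q using QuotientGroup.induction_on with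
    | H s =>
      refine mk_commute (K := fr.K) ?_
      rw [show s = β (β⁻¹ s) from (MulAut.apply_inv_self _ _ _).symm, ← map_commutatorElement]
      refine hKi β hβ _ ((QuotientGroup.eq_one_iff _).mp ?_)
      rw [← QuotientGroup.mk'_apply, map_commutatorElement]
      exact commutatorElement_eq_one_iff_commute.mpr (hKc v hv _)
  have hTop : Inv F (⊤ : Subgroup S) := fun _ _ _ _ => trivial
  -- the weights
  have hY : ∀ β ∈ F.autGroup S, ∀ v ∈ fr.L, v⁻¹ * β v ∈ D := by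
    intro β hβ
    obtain ⟨A, hA, hAv⟩ := exists_weight hLC hLcC hLi hCinv hβ
    obtain ⟨B, hB, hBv⟩ := exists_weight (le_top : C ≤ ⊤) hCSc hCinv hTop hβ
    obtain ⟨w, -, hwv⟩ := exists_weight hDL hDcL hDi hLi hβ
    set y := (g' ^ A)⁻¹ * β g' with hy
    set q := (fr.l ^ B)⁻¹ * β fr.l with hq
    set d := (ms ^ w)⁻¹ * β ms with hd
    have hyL : y ∈ fr.L := hAv _ hg'C
    have hqC : q ∈ C := hBv _ trivial
    have hdD : d ∈ D := hwv _ (fr.ZL hmsZ)
    have hbg : β g' = g' ^ A * y := by rw [hy, mul_inv_cancel_left]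
    have hbl' : β fr.l = fr.l ^ B * q := by rw [hq, mul_inv_cancel_left]
    have hbm : β ms = ms ^ w * d := by rw [hd, mul_inv_cancel_left]
    have hx0 : (fr.x0 ^ (A * B))⁻¹ * β fr.x0 ∈ fr.K := by
      rw [← QuotientGroup.eq, QuotientGroup.mk_zpow]
      have e1 : (QuotientGroup.mk (β fr.x0) : S ⧸ fr.K) =
          ⁅(QuotientGroup.mk g' : S ⧸ fr.K) ^ A * QuotientGroup.mk y,
            (QuotientGroup.mk fr.l : S ⧸ fr.K) ^ B * QuotientGroup.mk q⁆ := by
        rw [← hg'l, map_commutatorElement, hbg, hbl']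
        exact map_commutatorElement (QuotientGroup.mk' fr.K) _ _
      rw [e1, comm_mul_right (((hCCK _ hg'C _ hqC).zpow_left A).mul_left (hKc _ hyL _)),
        comm_mul_left (hKc _ hyL _), comm_zpow_zpow (by rw [hX]; exact (hKc _ fr.x0L _).symm)
          (by rw [hX]; exact (hKc _ fr.x0L _).symm), hX]
    set k1 := (fr.x0 ^ (A * B))⁻¹ * β fr.x0 with hk1
    have hbx : β fr.x0 = fr.x0 ^ (A * B) * k1 := by rw [hk1, mul_inv_cancel_left]
    set z := ⁅fr.x0, fr.l⁆ with hz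
    have hbz : β z = z ^ (A * B * B) := by
      rw [hz, map_commutatorElement, hbx, hbl',
        comm_mul_right (((hCiff.mp hqC).symm.zpow_left _).mul_left (hzc _ hx0 _)), comm_mul_left (hzc _ hx0 _),
        comm_zpow_zpow (hzc _ fr.z_mem _).symm (hzc _ fr.z_mem _).symm]
    set κ := ⁅g', ms⁆ with hκdef
    have hbκ : β κ = κ ^ (A * w) := by
      rw [hκdef, map_commutatorElement, hbg, hbm,
        comm_mul_right (hCD _ (C.mul_mem (C.zpow_mem hg'C A) (hLC hyL)) _ hdD),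
        comm_mul_left (show Commute y (ms ^ w) from fr.Label _ hyL _ (fr.L.zpow_mem (fr.ZL hmsZ) w)),
        comm_zpow_zpow (hzc _ hκ _).symm (hzc _ hκ _).symm]
    obtain ⟨i, hi⟩ := exists_zpow_eq fr.cardK fr.z_mem fr.zne hκ
    have hdv : (p : ℤ) ∣ A * w - A * B * B := by
      refine dvd_of_zpow_eq_one (pow_prime_eq_one fr.cardK hκ) (by rw [hg'm]; exact hgm) ?_
      rw [zpow_sub, ← hbκ]
      conv_lhs => rw [← hi, map_zpow, hbz, ← zpow_mul, ← zpow_mul, mul_comm i, mul_inv_cancel]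
    rw [show A * w - A * B * B = A * (w - B * B) by ring] at hdv
    obtain ⟨r, hr⟩ : (p : ℤ) ∣ w - 1 := by
      obtain ⟨r, hr⟩ := (hpI.dvd_or_dvd hdv).resolve_left hA
      obtain ⟨r', hr'⟩ : (p : ℤ) ∣ B * B - 1 := by
        subst h3
        have hB' : B % 3 = 1 ∨ B % 3 = 2 := by omega
        have := Int.mul_emod B B 3
        rcases hB' with hB' | hB' <;> rw [hB'] at this <;> omega
      exact ⟨r + r', by linear_combination hr + hr'⟩
    intro v hv
    have h1 := D.mul_mem (D.zpow_mem (pow_p_mem hDL hDcL hv) r) (hwv v hv)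
    rw [← zpow_natCast, ← zpow_mul, show (p : ℤ) * r = -1 + w by omega, zpow_add, zpow_neg_one] at h1
    rwa [mul_assoc, mul_inv_cancel_left] at h1
  -- chains
  have hchain : ∀ γ ∈ F.autGroup S, (∀ y, y⁻¹ * γ y ∈ C) → (∀ v ∈ C, v⁻¹ * γ v ∈ fr.L) →
      (∀ v ∈ fr.L, v⁻¹ * γ v ∈ D) → ∀ y, y⁻¹ * γ y ∈ D := by
    intro γ hγ a1 a2 a3
    have hL' := fix_of_step h.pg h.sat hγ (K := fr.L) (fun a b => hDL (hcommD a b)) (hLi γ hγ) a1 a2
      fun v hv => pow_p_mem hLC hLcC hv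
    exact fix_of_step h.pg h.sat hγ hcommD (hDi γ hγ) hL' a3 fun v hv => pow_p_mem hDL hDcL hv
  have hms2 : ms * ms ∉ D := fun hh => hmsD (by
    obtain ⟨r, hr⟩ := hpp.odd_of_ne_two h.odd
    have := D.mul_mem (pow_p_mem hDL hDcL (fr.ZL hmsZ)) (D.inv_mem (D.pow_mem hh r))
    rwa [← pow_two, ← pow_mul, hr, pow_succ', mul_inv_cancel_right] at this)
  refine false_of_split h hcommD hDi hY hβ₀ ?_ ?_ ?_ (fr.ZL hmsZ) hms2
  · intro β hβ
    have hγ : (β * β₀)⁻¹ * (β₀ * β) ∈ F.autGroup S :=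
      (F.autGroup S).mul_mem ((F.autGroup S).inv_mem ((F.autGroup S).mul_mem hβ hβ₀)) ((F.autGroup S).mul_mem hβ₀ hβ)
    exact hchain _ hγ (fun y => step_comm le_top hCSc hCinv hTop hβ hβ₀ y trivial)
      (step_comm hLC hLcC hLi hCinv hβ hβ₀) (step_comm hDL hDcL hDi hLi hβ hβ₀)
  · exact hchain _ ((F.autGroup S).mul_mem hβ₀ hβ₀) (fun y => step_sq h3 le_top hCSc hCinv hTop hβ₀ y trivial)
      (step_sq h3 hLC hLcC hLi hCinv hβ₀) (step_sq h3 hDL hDcL hDi hLi hβ₀)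
  · intro y hy
    obtain ⟨i, j, y', hy', rfl⟩ := hdec y
    -- the component outside the centralizer
    have hy2 := QuotientGroup.eq.mpr (hLC (hDL hy))
    have hqC' : g' ^ i * y' ∈ C := C.mul_mem (C.zpow_mem hg'C i) (hLC hy')
    rw [map_mul, QuotientGroup.mk_mul, QuotientGroup.mk_mul C (β₀ _), (QuotientGroup.eq_one_iff _).mpr hqC',
      (QuotientGroup.eq_one_iff _).mpr (hCinv β₀ hβ₀ _ hqC'), mul_one, mul_one, map_zpow, hbl, inv_zpow] at hy2
    obtain ⟨rj, rfl⟩ : (p : ℤ) ∣ j := by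
      have h1 : fr.l ^ (2 * j) ∈ C := by
        rw [← QuotientGroup.eq_one_iff, show (2 : ℤ) * j = j + j by ring, zpow_add, QuotientGroup.mk_mul]
        nth_rw 1 [hy2]
        rw [← QuotientGroup.mk_mul, inv_mul_cancel, QuotientGroup.mk_one]
      exact (hpI.dvd_or_dvd (dvd_of_zpow_mem (L := ⊤) le_top hCSc trivial hlC h1)).resolve_left h2ne
    have hl1 : fr.l ^ ((p : ℤ) * rj) = 1 := by rw [zpow_mul, zpow_natCast, hlp, one_zpow]
    rw [hl1, one_mul] at hy ⊢
    -- the component inside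
    have hT' : (g' ^ v₀)⁻¹ * β₀ g' ∈ fr.L := by
      have hTC : fr.T ⊓ C ≤ fr.L := by
        refine (Subgroup.eq_of_le_of_card_ge (le_inf fr.LT hLC) ?_).ge
        have hlt : fr.T ⊓ C < fr.T := lt_of_le_of_ne inf_le_left fun e => hlC (e.ge (fr.ET fr.lE)).2
        have hb := Quad.lt_card_mul h.pg hlt
        rw [fr.cardT, pow_succ] at hb
        rw [fr.cardL]
        exact Nat.le_of_mul_le_mul_right hb hpp.pos
      refine hTC ⟨?_, C.mul_mem (C.inv_mem (C.zpow_mem hg'C v₀)) (hCinv β₀ hβ₀ _ hg'C)⟩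
      have hle : (QuotientGroup.mk (fr.l ^ e) : S ⧸ fr.T) = 1 :=
        (QuotientGroup.eq_one_iff _).mpr (fr.T.zpow_mem (fr.ET fr.lE) e)
      have hle' : (QuotientGroup.mk (β₀ (fr.l ^ e)) : S ⧸ fr.T) = 1 := (QuotientGroup.eq_one_iff _).mpr (by
        rw [map_zpow, hbl]; exact fr.T.zpow_mem (fr.T.inv_mem (fr.ET fr.lE)) e)
      show (g' ^ v₀)⁻¹ * β₀ g' ∈ fr.T
      rw [← QuotientGroup.eq, QuotientGroup.mk_zpow, hg', map_mul, QuotientGroup.mk_mul, QuotientGroup.mk_mul, hle,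
        hle', mul_one, mul_one, mk_eq_of_mem hvT, QuotientGroup.mk_zpow]
    have hy3 := QuotientGroup.eq.mpr (hDL hy)
    rw [map_mul, map_zpow, QuotientGroup.mk_mul, QuotientGroup.mk_mul, (QuotientGroup.eq_one_iff _).mpr hy',
      (QuotientGroup.eq_one_iff _).mpr (hLi β₀ hβ₀ _ hy'), mul_one, mul_one, QuotientGroup.mk_zpow,
      QuotientGroup.mk_zpow, mk_eq_of_mem hT', QuotientGroup.mk_zpow, ← zpow_mul] at hy3
    have h1 := dvd_of_zpow_mem (K := fr.L) (L := C) hLC hLcC hg'C (fun hh => hg'T (fr.LT hh))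
      (m := v₀ * i - i) (by rw [← QuotientGroup.eq_one_iff, QuotientGroup.mk_zpow, zpow_sub, ← hy3, mul_inv_cancel])
    obtain ⟨ri, rfl⟩ : (p : ℤ) ∣ i := by
      obtain ⟨r, hr⟩ := h1
      obtain ⟨r', hr'⟩ := hv₀
      exact (hpI.dvd_or_dvd (show (p : ℤ) ∣ 2 * i from ⟨i * r' - r, by linear_combination i * hr' - hr⟩)).resolve_left h2ne
    refine fr.L.mul_mem ?_ hy'
    rw [zpow_mul, zpow_natCast]
    exact fr.L.zpow_mem (pow_p_mem hLC hLcC hg'C) ri

end Cfsg.OrderPFive
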