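import Cfsg.Agent.Lib.Fusion.OrderPFive.SplitPearl
import Cfsg.Agent.Lib.Fusion.OrderPFive.SplitCube

/-!
A saturated system over a group of order `p ^ 5` with trivial core and full hyperfocal subgroup has an abelian subgroup
of index `p`, for odd primes other than seven.
-/

set_option autoImplicit false
set_option linter.unusedSectionVars false

namespace Cfsg.OrderPFive

open FusionSystem EssentialSmall MaxClassCube

variable {Ω : Type*} [Group Ω] {S : Subgroup Ω} [Finite S] {p : ℕ} [Fact p.Prime] {F : FusionSystem S}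

theorem H5.elim (h : H5 p F) : False := by
  have hpp : p.Prime := Fact.out
  obtain ⟨E, hE, hc⟩ := h.exists_small
  rcases hc with hc | hc
  · obtain ⟨x, n, hP, -⟩ := exists_pearl h hE (Or.inl hc)
    obtain ⟨-, rfl⟩ := hP.three h
    exact hP.elim h
  · haveI : Finite E := finite_of_le hE.1.1
    by_cases hab : ∀ a b : E, a * b = b * a
    · exact (⟨h.pg, h.sat, hE, hc, fun a ha b hb => congrArg Subtype.val (hab ⟨a, ha⟩ ⟨b, hb⟩),
        fun a ha => congrArg Subtype.val (elementary_cube h.pg h.sat hE hc hab ⟨a, ha⟩)⟩ : Cube p F E).elim h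
    · obtain ⟨x, n, hP, hcard⟩ := exists_pearl h hE (Or.inr ⟨hc, hab⟩)
      obtain ⟨-, rfl⟩ := hP.three h
      rw [hc] at hcard
      exact absurd (Nat.pow_right_injective hpp.two_le hcard) (by norm_num)

theorem exists_abelian_index (hS : IsPGroup p S) (hF : F.IsSaturated p) (hp : p ≠ 2) (hp7 : p ≠ 7)
    (hcard : Nat.card S = p ^ 5) (hcore : F.core = ⊥) (hhyp : F.hyperfocalSubgroup p = S) :
    ∃ A : Subgroup Ω, A ≤ S ∧ IsMulCommutative ↥A ∧ (A.subgroupOf S).index = p := by
  by_contra hne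
  refine H5.elim (p := p) (F := F) ⟨hS, hF, hp, hp7, hcore, hhyp, hcard, fun B hB hBc => ?_⟩
  by_contra hab
  push Not at hab
  refine hne ⟨B, hB, ⟨⟨fun a b => Subtype.ext (hab a a.2 b b.2)⟩⟩, ?_⟩
  have := (B.subgroupOf S).card_mul_index
  rw [Nat.card_congr (Subgroup.subgroupOfEquivOfLe hB).toEquiv, hBc, hcard, pow_succ p 4] at this
  exact Nat.eq_of_mul_eq_mul_left (pow_pos (Fact.out : p.Prime).pos 4) this

end Cfsg.OrderPFive
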