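import Mathlib.GroupTheory.QuotientGroup.Basic
import Mathlib.GroupTheory.OrderOfElement
import Mathlib.RingTheory.Int.Basic
import Mathlib.Algebra.Group.End
import Mathlib.Tactic.Group
import Mathlib.Tactic.Ring
import Mathlib.Tactic.NormNum
import Mathlib.Tactic.LinearCombination

/-!
Torus elements generated by two opposite unipotent automorphisms, modulo an invariant subgroup.
-/

set_option autoImplicit false
set_option linter.unusedSectionVars false

namespace Cfsg.OrderPFive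

variable {V : Type*} [Group V] {p : ℕ} [Fact p.Prime]

theorem zpow_apply_fix {c : MulAut V} {m : V} (h : c m = m) (n : ℤ) : (c ^ n) m = m := by
  induction n using Int.induction_on with
  | zero => simp
  | succ n ih => rw [zpow_add, zpow_one, MulAut.mul_apply, h, ih]
  | pred n ih =>
    have h1 : c⁻¹ m = m := by
      conv_lhs => rw [← h, MulAut.inv_apply_self]
    rw [sub_eq_add_neg, zpow_add, zpow_neg_one, MulAut.mul_apply, h1, ih]

theorem zpow_apply_shift {c : MulAut V} {k l : V} {s : ℤ} (hk : c k = k) (hl : c l = l * k ^ s) (n : ℤ) :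
    (c ^ n) l = l * k ^ (s * n) := by
  induction n using Int.induction_on with
  | zero => simp
  | succ n ih =>
    rw [zpow_add, zpow_one, MulAut.mul_apply, hl, map_mul, ih, map_zpow, zpow_apply_fix hk, mul_assoc, ← zpow_add]
    congr 2
    ring
  | pred n ih =>
    have h1 : c⁻¹ l = l * k ^ (-s) := by
      refine c.injective ?_
      rw [MulAut.apply_inv_self, map_mul, map_zpow, hk, hl, mul_assoc, ← zpow_add, add_neg_cancel, zpow_zero, mul_one]
    rw [sub_eq_add_neg, zpow_add, zpow_neg_one, MulAut.mul_apply, h1, map_mul, ih, map_zpow, zpow_apply_fix hk,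
      mul_assoc, ← zpow_add]
    congr 2
    ring

theorem zpow_eq_of_dvd {k : V} (hk : k ^ p = 1) {a b : ℤ} (h : (p : ℤ) ∣ a - b) : k ^ a = k ^ b := by
  obtain ⟨q, hq⟩ := h
  rw [show a = b + (p : ℤ) * q by omega, zpow_add, zpow_mul, zpow_natCast, hk, one_zpow, mul_one]

theorem exists_shift {c : MulAut V} {k l : V} {s : ℤ} (hkp : k ^ p = 1) (hk : c k = k) (hl : c l = l * k ^ s)
    (hs : ¬ (p : ℤ) ∣ s) (a : ℤ) : ∃ n : ℤ, (c ^ n) l = l * k ^ a := by
  obtain ⟨u, v, huv⟩ : IsCoprime s (p : ℤ) :=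
    ((Nat.prime_iff_prime_int.mp Fact.out).coprime_iff_not_dvd.mpr hs).symm
  refine ⟨u * a, ?_⟩
  rw [zpow_apply_shift hk hl, zpow_eq_of_dvd hkp (a := s * (u * a)) (b := a) ⟨-(v * a), ?_⟩]
  linear_combination a * huv

/-- Two opposite unipotent automorphisms generate the torus. -/
theorem torus (comm : ∀ a b : V, a * b = b * a) {A : Subgroup (MulAut V)} {c d : MulAut V} (hc : c ∈ A) (hd : d ∈ A)
    {k l : V} (hkp : k ^ p = 1) (hlp : l ^ p = 1) (hck : c k = k) (hdl : d l = l) {s t : ℤ}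
    (hcl : c l = l * k ^ s) (hdk : d k = k * l ^ t) (hs : ¬ (p : ℤ) ∣ s) (ht : ¬ (p : ℤ) ∣ t) {a b : ℤ}
    (hab : (p : ℤ) ∣ a * b - 1) :
    ∃ τ ∈ A, τ k = k ^ a ∧ τ l = l ^ b ∧ ∀ m, c m = m → d m = m → τ m = m := by
  have hweyl : ∀ u v : ℤ, (p : ℤ) ∣ u * v - 1 → ∃ w ∈ A, w k = l ^ (-v) ∧ w l = k ^ u ∧
      ∀ m, c m = m → d m = m → w m = m := by
    intro u v huv
    obtain ⟨i, hi⟩ := exists_shift hkp hck hcl hs u
    obtain ⟨j, hj⟩ := exists_shift hlp hdl hdk ht (-v)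
    refine ⟨c ^ i * d ^ j * c ^ i, A.mul_mem (A.mul_mem (A.zpow_mem hc i) (A.zpow_mem hd j)) (A.zpow_mem hc i),
      ?_, ?_, fun m hcm hdm => ?_⟩
    · show (c ^ i) ((d ^ j) ((c ^ i) k)) = _
      rw [zpow_apply_fix hck, hj, map_mul, zpow_apply_fix hck, map_zpow, hi, Commute.mul_zpow (comm _ _),
        ← zpow_mul k, zpow_eq_of_dvd hkp (a := u * -v) (b := -1) (by
          rw [show u * -v - -1 = -(u * v - 1) by ring]; exact huv.neg_right), zpow_neg_one,
        comm (l ^ (-v)), mul_inv_cancel_left]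
    · show (c ^ i) ((d ^ j) ((c ^ i) l)) = _
      rw [hi, map_mul, zpow_apply_fix hdl, map_zpow, hj, Commute.mul_zpow (comm _ _), ← zpow_mul l,
        zpow_eq_of_dvd hlp (a := -v * u) (b := -1) (by
          rw [show -v * u - -1 = -(u * v - 1) by ring]; exact huv.neg_right), zpow_neg_one,
        comm (k ^ u), mul_inv_cancel_left, map_zpow, zpow_apply_fix hck]
    · show (c ^ i) ((d ^ j) ((c ^ i) m)) = m
      rw [zpow_apply_fix hcm, zpow_apply_fix hdm, zpow_apply_fix hcm]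
  obtain ⟨w, hw, hwk, hwl, hwm⟩ := hweyl b a (by rwa [mul_comm])
  obtain ⟨v, hv, hvk, hvl, hvm⟩ := hweyl (-1) (-1) (by norm_num)
  refine ⟨v * w, A.mul_mem hv hw, ?_, ?_, fun m h1 h2 => by rw [MulAut.mul_apply, hwm m h1 h2, hvm m h1 h2]⟩
  · rw [MulAut.mul_apply, hwk, map_zpow, hvl, ← zpow_mul]
    congr 1
    ring
  · rw [MulAut.mul_apply, hwl, map_zpow, hvk, ← zpow_mul]
    congr 1
    ring

section Quotient

variable {P : Type*} [Group P] [Finite P] {K : Subgroup P} [K.Normal]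

theorem map_eq_of_inv {A : Subgroup (MulAut P)} (h : ∀ α ∈ A, ∀ x ∈ K, α x ∈ K) (α : A) :
    K.map (α : MulAut P).toMonoidHom = K := by
  refine Subgroup.eq_of_le_of_card_ge ?_
    (le_of_eq (Nat.card_congr (K.equivMapOfInjective _ (α : MulAut P).injective).toEquiv))
  rintro _ ⟨y, hy, rfl⟩
  exact h α α.2 y hy

/-- The action on the quotient by an invariant subgroup. -/
noncomputable def qAut {A : Subgroup (MulAut P)} (h : ∀ α ∈ A, ∀ x ∈ K, α x ∈ K) : A →* MulAut (P ⧸ K) where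
  toFun α := QuotientGroup.congr K K (α : MulAut P) (map_eq_of_inv h α)
  map_one' := by
    ext x
    induction x using QuotientGroup.induction_on with
    | H x => rfl
  map_mul' a b := by
    ext x
    induction x using QuotientGroup.induction_on with
    | H x => rfl

/-- The torus, modulo an invariant subgroup with abelian quotient. -/
theorem torus_mod {A : Subgroup (MulAut P)} (hK : ∀ α ∈ A, ∀ x ∈ K, α x ∈ K) (hcomm : ∀ a b : P, a⁻¹ * b⁻¹ * a * b ∈ K)
    {c d : MulAut P} (hc : c ∈ A) (hd : d ∈ A) {k l : P} (hkp : k ^ p ∈ K) (hlp : l ^ p ∈ K)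
    (hck : k⁻¹ * c k ∈ K) (hdl : l⁻¹ * d l ∈ K) {s t : ℤ} (hcl : (l * k ^ s)⁻¹ * c l ∈ K)
    (hdk : (k * l ^ t)⁻¹ * d k ∈ K) (hs : ¬ (p : ℤ) ∣ s) (ht : ¬ (p : ℤ) ∣ t) {a b : ℤ} (hab : (p : ℤ) ∣ a * b - 1) :
    ∃ τ ∈ A, (k ^ a)⁻¹ * τ k ∈ K ∧ (l ^ b)⁻¹ * τ l ∈ K ∧
      ∀ m, m⁻¹ * c m ∈ K → m⁻¹ * d m ∈ K → m⁻¹ * τ m ∈ K := by
  have hq : ∀ {x y : P}, x⁻¹ * y ∈ K → (QuotientGroup.mk y : P ⧸ K) = QuotientGroup.mk x :=
    fun h => (QuotientGroup.eq.mpr h).symm
  obtain ⟨τ, hτ, h1, h2, h3⟩ := torus (A := (qAut hK).range) (c := qAut hK ⟨c, hc⟩) (d := qAut hK ⟨d, hd⟩)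
    (k := (QuotientGroup.mk k : P ⧸ K)) (l := QuotientGroup.mk l) (p := p) (s := s) (t := t) (a := a) (b := b)
    (fun x y => by
      induction x using QuotientGroup.induction_on with
      | H x =>
        induction y using QuotientGroup.induction_on with
        | H y =>
          rw [← QuotientGroup.mk_mul, ← QuotientGroup.mk_mul, QuotientGroup.eq]
          have := hcomm y x
          simpa [mul_assoc] using this)
    ⟨_, rfl⟩ ⟨_, rfl⟩
    (by rw [← QuotientGroup.mk_pow]; exact (QuotientGroup.eq_one_iff _).mpr hkp)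
    (by rw [← QuotientGroup.mk_pow]; exact (QuotientGroup.eq_one_iff _).mpr hlp)
    (hq hck) (hq hdl)
    (by rw [← QuotientGroup.mk_zpow, ← QuotientGroup.mk_mul]; exact hq hcl)
    (by rw [← QuotientGroup.mk_zpow, ← QuotientGroup.mk_mul]; exact hq hdk) hs ht hab
  obtain ⟨τ', rfl⟩ := hτ
  refine ⟨τ', τ'.2, ?_, ?_, fun m hm hm' => ?_⟩
  · rw [← QuotientGroup.eq, QuotientGroup.mk_zpow]
    exact h1.symm
  · rw [← QuotientGroup.eq, QuotientGroup.mk_zpow]
    exact h2.symm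
  · rw [← QuotientGroup.eq]
    exact (h3 _ (hq hm) (hq hm')).symm

end Quotient

end Cfsg.OrderPFive
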