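import Cfsg.Agent.Lib.Fusion.OrderPFive.Layers
import Cfsg.Agent.Lib.Fusion.OrderPFive.Torus

/-!
The weights of an automorphism of such a group: the second is the square of the first.
-/

set_option autoImplicit false
set_option linter.unusedSectionVars false

open scoped commutatorElement

namespace Cfsg.OrderPFive

variable {G : Type*} [Group G] [Finite G] {p : ℕ} [Fact p.Prime] {x : G}

local notation "Z" => Subgroup.upperCentralSeries G

theorem mk_eq_of_mem {K : Subgroup G} [K.Normal] {a b : G} (h : a⁻¹ * b ∈ K) :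
    (QuotientGroup.mk b : G ⧸ K) = QuotientGroup.mk a := (QuotientGroup.eq.mpr h).symm

theorem mk_commute {K : Subgroup G} [K.Normal] {a b : G} (h : ⁅a, b⁆ ∈ K) :
    Commute (QuotientGroup.mk a : G ⧸ K) (QuotientGroup.mk b) := by
  refine commutatorElement_eq_one_iff_commute.mp ?_
  exact (map_commutatorElement (QuotientGroup.mk' K) a b).symm.trans ((QuotientGroup.eq_one_iff _).mpr h)

theorem mem_char {K : Subgroup G} [hK : K.Characteristic] (β : MulAut G) {v : G} : β v ∈ K ↔ v ∈ K :=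
  ⟨fun h => by
    have h2 : v ∈ K.comap β.toMonoidHom := h
    rwa [hK.fixed β] at h2,
   fun h => by
    have h2 : v ∈ K.comap β.toMonoidHom := by rw [hK.fixed β]; exact h
    exact h2⟩

theorem gam_invariant (β : MulAut G) {v : G} (hv : v ∈ gam G) : β v ∈ gam G := by
  rw [gam, Subgroup.mem_centralizer_iff] at hv ⊢
  intro w hw
  have hw' : β⁻¹ w ∈ Z 2 := (mem_char β).mp (by rwa [MulAut.apply_inv_self])
  have := congrArg β (hv _ hw')
  rwa [map_mul, map_mul, MulAut.apply_inv_self] at this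

theorem MC.weights (h : MC p G x) (β : MulAut G) :
    ∃ a b : ℤ, ¬ (p : ℤ) ∣ a ∧ (p : ℤ) ∣ b - a * a ∧ (x ^ a)⁻¹ * β x ∈ gam G ∧
      (∀ v ∈ gam G, (v ^ b)⁻¹ * β v ∈ Z 3) ∧ (∀ w ∈ Z 2, (w ^ (a * a * b))⁻¹ * β w ∈ Z 1) ∧
      ∀ z ∈ Z 1, β z = z ^ (a * a * a * b) := by
  have hpp : p.Prime := Fact.out
  haveI := MC.gam_normal (G := G)
  obtain ⟨u, hu, hu3, hg3, hT, hc2, hd1, he1, hz1, hz0, h3ab, hdec⟩ := h.frame
  obtain ⟨hgc, hxg⟩ := h.gam_card
  obtain ⟨hZ1, hZ2, -⟩ := h.layers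
  set c := ⁅x, u⁆ with hc
  set d := ⁅c, x⁆ with hd
  set e := ⁅d, x⁆ with he
  have hc3 : c ∈ Z 3 := h.comm_mem_three x u
  have hd2 : d ∈ Z 2 := hc3 x
  have he' : e ∈ Z 1 := hd2 x
  obtain ⟨a, ha⟩ := exists_zpow_mem h.gam_index hxg (β x)
  obtain ⟨b, hb⟩ := hdec _ (gam_invariant β hu)
  set g := (x ^ a)⁻¹ * β x with hgdef
  set k := (u ^ b)⁻¹ * β u with hkdef
  have hbx : β x = x ^ a * g := by rw [hgdef, mul_inv_cancel_left]
  have hbu : β u = u ^ b * k := by rw [hkdef, mul_inv_cancel_left]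
  have hgam2 : ∀ v ∈ gam G, ∀ w ∈ Z 2, Commute v w := fun v hv w hw =>
    (Subgroup.mem_centralizer_iff.mp hv w hw).symm
  -- modulo the second layer
  have h3c : ∀ (y : G), y ∈ Z 3 → ∀ q : G ⧸ Z 2, Commute (QuotientGroup.mk y : G ⧸ Z 2) q := fun y hy q => by
    induction q using QuotientGroup.induction_on with
    | H s => exact mk_commute (hy s)
  have hgu : Commute (QuotientGroup.mk g : G ⧸ Z 2) (QuotientGroup.mk u) := by
    obtain ⟨i, hi⟩ := hdec g ha
    rw [show g = u ^ i * ((u ^ i)⁻¹ * g) by group, QuotientGroup.mk_mul, QuotientGroup.mk_zpow]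
    exact ((Commute.refl _).zpow_left i).mul_left (h3c _ hi _)
  have hcab : (c ^ (a * b))⁻¹ * β c ∈ Z 2 := by
    rw [← QuotientGroup.eq, QuotientGroup.mk_zpow]
    have e1 : (QuotientGroup.mk (β c) : G ⧸ Z 2) =
        ⁅(QuotientGroup.mk x : G ⧸ Z 2) ^ a * QuotientGroup.mk g, (QuotientGroup.mk u) ^ b * QuotientGroup.mk k⁆ := by
      rw [hc, map_commutatorElement, hbx, hbu]
      exact map_commutatorElement (QuotientGroup.mk' (Z 2)) _ _
    rw [e1, comm_mul_right (h3c k hb _).symm, comm_mul_left (hgu.zpow_right b)]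
    have hC : ⁅(QuotientGroup.mk x : G ⧸ Z 2), QuotientGroup.mk u⁆ = QuotientGroup.mk c :=
      (map_commutatorElement (QuotientGroup.mk' (Z 2)) x u).symm
    rw [comm_zpow_zpow (by rw [hC]; exact (h3c c hc3 _).symm) (by rw [hC]; exact (h3c c hc3 _).symm), hC]
  -- modulo the first layer
  have h2c : ∀ (y : G), y ∈ Z 2 → ∀ q : G ⧸ Z 1, Commute (QuotientGroup.mk y : G ⧸ Z 1) q := fun y hy q => by
    induction q using QuotientGroup.induction_on with
    | H s => exact mk_commute (hy s)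
  have hgc' : Commute (QuotientGroup.mk g : G ⧸ Z 1) (QuotientGroup.mk c) := by
    obtain ⟨i, hi⟩ := hdec g ha
    rw [show g = u ^ i * ((u ^ i)⁻¹ * g) by group, QuotientGroup.mk_mul, QuotientGroup.mk_zpow]
    exact ((mk_commute hz0).zpow_left i).mul_left (mk_commute (by
      rw [commutatorElement_eq_one_iff_mul_comm.mpr (h3ab _ hi c hc3)]; exact one_mem _))
  have hdab : (d ^ (a * a * b))⁻¹ * β d ∈ Z 1 := by
    rw [← QuotientGroup.eq, QuotientGroup.mk_zpow]
    have e1 : (QuotientGroup.mk (β d) : G ⧸ Z 1) =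
        ⁅(QuotientGroup.mk c : G ⧸ Z 1) ^ (a * b) * QuotientGroup.mk ((c ^ (a * b))⁻¹ * β c),
          (QuotientGroup.mk x) ^ a * QuotientGroup.mk g⁆ := by
      have hβd : β d = ⁅β c, β x⁆ := map_commutatorElement β.toMonoidHom c x
      rw [hβd, show β c = c ^ (a * b) * ((c ^ (a * b))⁻¹ * β c) by group, hbx, inv_mul_cancel_left]
      exact map_commutatorElement (QuotientGroup.mk' (Z 1)) _ _
    have hD : ⁅(QuotientGroup.mk c : G ⧸ Z 1), QuotientGroup.mk x⁆ = QuotientGroup.mk d :=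
      (map_commutatorElement (QuotientGroup.mk' (Z 1)) c x).symm
    rw [e1, comm_mul_left (h2c _ hcab _), comm_mul_right (hgc'.symm.zpow_left _),
      comm_zpow_zpow (by rw [hD]; exact (h2c d hd2 _).symm) (by rw [hD]; exact (h2c d hd2 _).symm), hD,
      show a * b * a = a * a * b by ring]
  have hZ1c : ∀ z ∈ Z 1, ∀ s : G, Commute z s := fun z hz s =>
    commutatorElement_eq_one_iff_commute.mp (Subgroup.mem_bot.mp (hz s))
  have hbe : β e = e ^ (a * a * a * b) := by
    rw [he, map_commutatorElement, show β d = d ^ (a * a * b) * ((d ^ (a * a * b))⁻¹ * β d) by group, hbx,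
      comm_mul_left (hZ1c _ hdab _), comm_mul_right ((hgam2 _ ha d hd2).symm.zpow_left _),
      comm_zpow_zpow (hZ1c e he' d).symm (hZ1c e he' x).symm]
    congr 1
    ring
  have hz0' : β ⁅u, c⁆ = ⁅u, c⁆ ^ (a * b * b) := by
    rw [map_commutatorElement, hbu, show β c = c ^ (a * b) * ((c ^ (a * b))⁻¹ * β c) by group,
      comm_mul_right ((hgam2 _ ((gam G).mul_mem ((gam G).zpow_mem hu b) (hg3 hb)) _ hcab)),
      comm_mul_left (show Commute k (c ^ (a * b)) from h3ab _ hb _ ((Z 3).zpow_mem hc3 _)),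
      comm_zpow_zpow (hZ1c _ hz0 u).symm (hZ1c _ hz0 c).symm]
    congr 1
    ring
  have horder : ∀ z ∈ Z 1, z ^ p = 1 := fun z hz => by
    have : (⟨z, hz⟩ : ↥(Z 1)) ^ Nat.card ↥(Z 1) = 1 := pow_card_eq_one'
    rw [hZ1] at this
    exact congrArg Subtype.val this
  have hgen : ∀ z ∈ Z 1, ∀ w ∈ Z 1, z ≠ 1 → ∃ i : ℤ, z ^ i = w := by
    intro z hz w hw hz1'
    have htop : Subgroup.zpowers z = Z 1 := Subgroup.eq_of_le_of_card_ge (Subgroup.zpowers_le.mpr hz)
      (by rw [Nat.card_zpowers, orderOf_eq_prime (horder z hz) hz1', hZ1])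
    exact htop.ge hw
  have hall : ∀ z ∈ Z 1, β z = z ^ (a * a * a * b) := by
    intro z hz
    obtain ⟨i, rfl⟩ := hgen e he' z hz he1
    rw [map_zpow, hbe, ← zpow_mul, ← zpow_mul, mul_comm]
  have hi : ∀ w : G, w ≠ 1 → w ^ p = 1 → ∀ n : ℤ, w ^ n = 1 → (p : ℤ) ∣ n := fun w hw hwp n hn => by
    rw [← orderOf_eq_prime hwp hw]
    exact orderOf_dvd_iff_zpow_eq_one.mpr hn
  have hdv : (p : ℤ) ∣ a * a * a * b - a * b * b := by
    refine hi _ hz1 (horder _ hz0) _ ?_
    rw [zpow_sub, ← hall _ hz0, hz0', mul_inv_cancel]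
  have hpI : Prime (p : ℤ) := Nat.prime_iff_prime_int.mp hpp
  have hne : ¬ (p : ℤ) ∣ a * b := fun hd' => he1 (β.injective (by
    rw [map_one, hbe]
    obtain ⟨q, hq⟩ := hd'
    rw [show a * a * a * b = (p : ℤ) * (q * a * a) by linear_combination a * a * hq, zpow_mul, zpow_natCast,
      horder e he', one_zpow]))
  refine ⟨a, b, fun hd' => hne (hd'.mul_right b), ?_, ha, ?_, ?_, hall⟩
  · rw [show a * a * a * b - a * b * b = a * b * (a * a - b) by ring] at hdv
    have := (hpI.dvd_or_dvd hdv).resolve_left hne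
    rw [show b - a * a = -(a * a - b) by ring]
    exact this.neg_right
  · intro v hv
    obtain ⟨i, hiv⟩ := hdec v hv
    rw [← QuotientGroup.eq, QuotientGroup.mk_zpow]
    have hv' : (QuotientGroup.mk v : G ⧸ Z 3) = (QuotientGroup.mk u) ^ i := by
      rw [← QuotientGroup.mk_zpow]; exact mk_eq_of_mem hiv
    have h1 : (QuotientGroup.mk (β v) : G ⧸ Z 3) = (QuotientGroup.mk (β u)) ^ i := by
      rw [← QuotientGroup.mk_zpow, ← map_zpow]
      refine mk_eq_of_mem ?_
      rw [← map_inv, ← map_mul]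
      exact (mem_char β).mpr hiv
    have h2 : (QuotientGroup.mk (β u) : G ⧸ Z 3) = (QuotientGroup.mk u) ^ b := by
      rw [← QuotientGroup.mk_zpow]; exact mk_eq_of_mem hb
    rw [h1, h2, hv', ← zpow_mul, ← zpow_mul, mul_comm]
  · intro w hw
    have hlt : Z 1 < Z 1 ⊔ Subgroup.zpowers d := lt_of_le_of_ne le_sup_left fun e' =>
      hd1 (e'.ge (Subgroup.mem_sup_right (Subgroup.mem_zpowers d)))
    have hb' := EssentialSmall.Quad.lt_card_mul h.pg hlt
    rw [hZ1, ← pow_two] at hb'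
    have htop := Subgroup.eq_of_le_of_card_ge (sup_le MC.Z_mono (Subgroup.zpowers_le.mpr hd2)) (hZ2.trans_le hb')
    obtain ⟨z, hz, y, ⟨i, rfl⟩, rfl⟩ := Subgroup.mem_sup_of_normal_left.mp (htop.ge hw)
    rw [← QuotientGroup.eq, QuotientGroup.mk_zpow, map_mul, map_zpow, QuotientGroup.mk_mul, QuotientGroup.mk_mul,
      QuotientGroup.mk_zpow, QuotientGroup.mk_zpow, (QuotientGroup.eq_one_iff z).mpr hz,
      (QuotientGroup.eq_one_iff (β z)).mpr ((mem_char β).mpr hz), one_mul, one_mul,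
      mk_eq_of_mem hdab, QuotientGroup.mk_zpow, ← zpow_mul, ← zpow_mul, mul_comm]

end Cfsg.OrderPFive
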