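import Cfsg.Agent.Lib.Fusion.OrderPFive.Tower
import Cfsg.Agent.Lib.Fusion.OrderPFive.Weights

/-!
Essential subgroups of the pearl kind: the extension of their automorphisms, and the torus.
-/

set_option autoImplicit false
set_option linter.unusedSectionVars false

open scoped commutatorElement

namespace Cfsg.OrderPFive

open FusionSystem EssentialSmall

variable {Ω : Type*} [Group Ω] {S : Subgroup Ω} [Finite S] {p : ℕ} [Fact p.Prime] {F : FusionSystem S}
  {E : Subgroup Ω} {x : S} {n : ℕ}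

local notation "Z" => Subgroup.upperCentralSeries S

theorem step_lt {G : Type*} [Group G] [Finite G] {q : ℕ} [Fact q.Prime] (hG : IsPGroup q G) {K : Subgroup G}
    [K.Normal] (hK : K ≠ ⊤) : K < Subgroup.upperCentralSeriesStep K := by
  refine lt_of_le_of_ne (fun k hk y => ?_) fun e => ?_
  · rw [commutatorElement_def, show k * y * k⁻¹ * y⁻¹ = k * (y * k⁻¹ * y⁻¹) by group]
    exact K.mul_mem hk (Subgroup.Normal.conj_mem ‹K.Normal› _ (K.inv_mem hk) y)
  · haveI : Nontrivial (G ⧸ K) := QuotientGroup.nontrivial_iff.mpr hK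
    obtain ⟨v, hv, hv1⟩ := (Subgroup.nontrivial_iff_exists_ne_one _).mp (hG.to_quotient K).center_nontrivial
    obtain ⟨g, rfl⟩ := QuotientGroup.mk_surjective v
    refine hv1 ((QuotientGroup.eq_one_iff g).mpr (e ▸ ?_))
    rw [Subgroup.upperCentralSeriesStep_eq_comap_center]
    exact hv

/-- The data of an essential subgroup of the pearl kind. -/
structure Pearl (p : ℕ) (F : FusionSystem S) (E : Subgroup Ω) (x : S) (n : ℕ) : Prop where
  ess : F.IsEssential p E
  le_one : n ≤ 1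
  eq : E = (cenMod (Z n) x).map S.subtype
  mc : MC p S x

theorem center_one {v : S} : v ∈ Z 1 ↔ v ∈ Subgroup.center S := by rw [Subgroup.upperCentralSeries_one]

theorem exists_pearl (h : H5 p F) (hE : F.IsEssential p E)
    (hc : Nat.card E = p ^ 2 ∨ Nat.card E = p ^ 3 ∧ ¬ ∀ a b : E, a * b = b * a) :
    ∃ x n, Pearl p F E x n ∧ Nat.card E = p ^ (2 + n) := by
  have hpp : p.Prime := Fact.out
  have hES := hE.1.1
  haveI : Finite E := finite_of_le hES
  set E' := E.subgroupOf S with hE'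
  have hmap : E'.map S.subtype = E := Subgroup.map_subgroupOf_eq_of_le hES
  have hcard' : Nat.card E' = Nat.card E := Nat.card_congr (Subgroup.subgroupOfEquivOfLe hES).toEquiv
  have hcen : ∀ v : S, (∀ w ∈ E', v * w = w * v) → v ∈ E' := fun v hv =>
    hE.1.centralizerIn_le_self ⟨v.2, Subgroup.mem_centralizer_iff.mpr fun e he =>
      congrArg Subtype.val (hv ⟨e, hES he⟩ he).symm⟩
  have hZle : Z 1 ≤ E' := fun v hv => hcen v fun w _ => (Subgroup.mem_center_iff.mp (center_one.mp hv) w).symm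
  have hne : E' ≠ ⊤ := fun e => by
    have := congrArg (fun K : Subgroup S => Nat.card K) e
    rw [hcard', Subgroup.card_top, h.card] at this
    rcases hc with hc | ⟨hc, -⟩ <;> rw [hc] at this <;> have := Nat.pow_right_injective hpp.two_le this <;> omega
  have hZ0 : (⊥ : Subgroup S) < Z 1 := by
    have hbt : (⊥ : Subgroup S) ≠ ⊤ := fun e => hne (eq_top_iff.mpr (e ▸ bot_le))
    exact step_lt h.pg hbt
  have hZ1p : p ≤ Nat.card (Z 1) := by
    have := Quad.lt_card_mul h.pg hZ0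
    rwa [Subgroup.card_bot, one_mul] at this
  rcases hc with hc | ⟨hc, hnab⟩
  · -- order p ^ 2
    have hEab : ∀ a ∈ E', ∀ b ∈ E', a * b = b * a := fun a ha b hb => Subtype.ext (congrArg Subtype.val
      (IsPGroup.commutative_of_card_eq_prime_sq hc ⟨a, ha⟩ ⟨b, hb⟩) :)
    obtain ⟨x, hx, hx1⟩ : ∃ x ∈ E', x ∉ Z 1 := by
      by_contra hh
      push Not at hh
      exact hne (eq_top_iff.mpr fun v _ => hcen v fun w hw => Subgroup.mem_center_iff.mp (center_one.mp (hh w hw)) v)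
    have hceq : cenMod (⊥ : Subgroup S) x = E' := by
      refine le_antisymm (fun v hv => hcen v ?_) fun v hv => by
        rw [mem_cenMod, Subgroup.mem_bot, commutatorElement_eq_one_iff_mul_comm]
        exact hEab v hv x hx
      intro w hw
      have hlt : Z 1 < E' ⊓ Subgroup.centralizer ({v} : Set S) := lt_of_le_of_ne
        (le_inf hZle fun z hz => Subgroup.mem_centralizer_singleton_iff.mpr
          (Subgroup.mem_center_iff.mp (center_one.mp hz) v).symm)
        fun e => hx1 (e.ge ⟨hx, Subgroup.mem_centralizer_singleton_iff.mpr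
          (commutatorElement_eq_one_iff_mul_comm.mp (Subgroup.mem_bot.mp hv)).symm⟩)
      have hb := (Nat.mul_le_mul_right p hZ1p).trans (Quad.lt_card_mul h.pg hlt)
      rw [← pow_two] at hb
      exact (Subgroup.mem_centralizer_singleton_iff.mp
        ((Subgroup.eq_of_le_of_card_ge inf_le_left ((hcard'.trans hc).trans_le hb)).ge hw).2).symm
    exact ⟨x, 0, ⟨hE, zero_le_one, by rw [← hmap, ← hceq]; rfl,
      ⟨h.pg, h.card, by rw [hceq, hcard', hc], h.noab'⟩⟩, hc⟩
  · -- nonabelian of order p ^ 3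
    have hnab' : ¬ ∀ a b : E', a * b = b * a := fun hh => hnab fun a b => Subtype.ext
      (congrArg (fun v : E' => ((v : S) : Ω)) (hh ⟨⟨a, hES a.2⟩, a.2⟩ ⟨⟨b, hES b.2⟩, b.2⟩) :)
    obtain ⟨⟨-, hZc⟩, -, hcomm⟩ := extraspecial_cube (E := E') (hcard'.trans hc) hnab'
    have hZE : (Subgroup.center E').map E'.subtype = Z 1 := by
      refine (Subgroup.eq_of_le_of_card_ge (fun v hv => ?_) ?_).symm
      · exact ⟨⟨v, hZle hv⟩, Subgroup.mem_center_iff.mpr fun w =>
          Subtype.ext (Subgroup.mem_center_iff.mp (center_one.mp hv) w), rfl⟩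
      · rw [Subgroup.card_map_of_injective E'.subtype_injective, hZc]
        exact hZ1p
    have hc1 : Nat.card (Z 1) = p := by
      rw [← hZE, Subgroup.card_map_of_injective E'.subtype_injective, hZc]
    have hcommle : ∀ a ∈ E', ∀ b ∈ E', ⁅a, b⁆ ∈ Z 1 := fun a ha b hb => by
      rw [← hZE]
      refine ⟨⁅(⟨a, ha⟩ : E'), ⟨b, hb⟩⁆, hcomm.le ?_, rfl⟩
      exact Subgroup.commutator_mem_commutator (Subgroup.mem_top _) (Subgroup.mem_top _)
    have hinner : ∀ s : S, (∀ w ∈ E', ⁅s, w⁆ ∈ Z 1) → s ∈ E' := by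
      intro s hs
      obtain ⟨a, ha, b, hb, hab⟩ : ∃ a ∈ E', ∃ b ∈ E', ⁅a, b⁆ ≠ 1 := by
        by_contra hh
        push Not at hh
        exact hnab' fun a b => Subtype.ext (commutatorElement_eq_one_iff_mul_comm.mp (hh a a.2 b b.2))
      have hz : ⁅a, b⁆ ∈ Z 1 := hcommle a ha b hb
      have hzc : ∀ v, Commute ⁅a, b⁆ v := fun v => (Subgroup.mem_center_iff.mp (center_one.mp hz) v).symm
      have htop : Subgroup.zpowers ⁅a, b⁆ = Z 1 := by
        refine Subgroup.eq_of_le_of_card_ge (Subgroup.zpowers_le.mpr hz) ?_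
        rw [hc1, Nat.card_zpowers, orderOf_eq_prime (by
          have := pow_card_eq_one' (x := (⟨_, hz⟩ : Z 1))
          rw [hc1] at this
          exact congrArg Subtype.val this) hab]
      obtain ⟨i, hi⟩ := htop.ge (hs a ha)
      obtain ⟨j, hj⟩ := htop.ge (hs b hb)
      set u := b ^ i * a ^ (-j) with hu
      have hzn : ∀ m : ℤ, ∀ v, Commute (⁅a, b⁆ ^ m) v := fun m v => (hzc v).zpow_left m
      have h1 : ⁅u, a⁆ = ⁅a, b⁆ ^ (-i) := by
        rw [hu, comm_mul_left ((Commute.refl a).zpow_left _)]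
        conv_lhs => rw [show (a : S) = a ^ (1 : ℤ) from (zpow_one a).symm]
        rw [comm_zpow_zpow (by rw [← commutatorElement_inv]; exact (hzc b).symm.inv_right)
          (by rw [← commutatorElement_inv]; exact (hzc a).symm.inv_right), ← commutatorElement_inv, inv_zpow, ← zpow_neg,
          mul_one]
      have h2 : ⁅u, b⁆ = ⁅a, b⁆ ^ (-j) := by
        have e : ⁅a ^ (-j), b⁆ = ⁅a, b⁆ ^ (-j) := by
          conv_lhs => rw [show (b : S) = b ^ (1 : ℤ) from (zpow_one b).symm]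
          rw [comm_zpow_zpow (hzc a).symm (hzc b).symm, mul_one]
        rw [hu, show ⁅b ^ i * a ^ (-j), b⁆ = b ^ i * ⁅a ^ (-j), b⁆ * (b ^ i)⁻¹ * ⁅b ^ i, b⁆ by
          simp only [commutatorElement_def]; group,
          commutatorElement_eq_one_iff_mul_comm.mpr ((Commute.refl b).zpow_left i).eq, mul_one, e,
          ← (hzn (-j) (b ^ i)).eq, mul_inv_cancel_right]
      have huE : u ∈ E' := E'.mul_mem (E'.zpow_mem hb _) (E'.zpow_mem ha _)
      have key : ∀ v : S, ∀ m : ℤ, ⁅a, b⁆ ^ m = ⁅s, v⁆ → ⁅u, v⁆ = ⁅a, b⁆ ^ (-m) → ⁅u * s, v⁆ = 1 := by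
        intro v m hm hu'
        rw [show ⁅u * s, v⁆ = u * ⁅s, v⁆ * u⁻¹ * ⁅u, v⁆ by simp only [commutatorElement_def]; group, ← hm, hu',
          ← (hzn m u).eq, mul_inv_cancel_right, ← zpow_add, add_neg_cancel, zpow_zero]
      have hus : u * s ∈ E' := by
        refine hcen _ fun w hw => ?_
        let C := Subgroup.centralizer ({u * s} : Set S) ⊓ E'
        have haC : a ∈ C :=
          ⟨Subgroup.mem_centralizer_singleton_iff.mpr (commutatorElement_eq_one_iff_mul_comm.mp (key a i hi h1)).symm, ha⟩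
        have hbC : b ∈ C :=
          ⟨Subgroup.mem_centralizer_singleton_iff.mpr (commutatorElement_eq_one_iff_mul_comm.mp (key b j hj h2)).symm, hb⟩
        have hzC : Z 1 ≤ C := le_inf (fun z hz => Subgroup.mem_centralizer_singleton_iff.mpr
          (Subgroup.mem_center_iff.mp (center_one.mp hz) _).symm) hZle
        have ha1 : a ∉ Z 1 := fun haz => hab (commutatorElement_eq_one_iff_mul_comm.mpr
          (Subgroup.mem_center_iff.mp (center_one.mp haz) b).symm)
        have hlt1 : Z 1 < Z 1 ⊔ Subgroup.zpowers a := lt_of_le_of_ne le_sup_left fun e =>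
          ha1 (e.ge (Subgroup.mem_sup_right (Subgroup.mem_zpowers a)))
        have hlt2 : Z 1 ⊔ Subgroup.zpowers a < C := lt_of_le_of_ne (sup_le hzC (Subgroup.zpowers_le.mpr haC)) fun e => by
          have hle : Z 1 ⊔ Subgroup.zpowers a ≤ Subgroup.centralizer ({a} : Set S) := sup_le
            (fun z hz => Subgroup.mem_centralizer_singleton_iff.mpr
              (Subgroup.mem_center_iff.mp (center_one.mp hz) a).symm)
            (Subgroup.zpowers_le.mpr (Subgroup.mem_centralizer_singleton_iff.mpr rfl))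
          exact hab (commutatorElement_eq_one_iff_mul_comm.mpr
            (Subgroup.mem_centralizer_singleton_iff.mp (hle (e.ge hbC))).symm)
        have hb' := (Nat.mul_le_mul_right p (Quad.lt_card_mul h.pg hlt1)).trans (Quad.lt_card_mul h.pg hlt2)
        rw [hc1] at hb'
        have hCE : C = E' := Subgroup.eq_of_le_of_card_ge inf_le_right (le_trans (le_of_eq (by
          rw [hcard', hc]; ring)) hb')
        exact (Subgroup.mem_centralizer_singleton_iff.mp (hCE.ge hw).1).symm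
      simpa using E'.mul_mem (E'.inv_mem huE) hus
    have hZ1ne : Z 1 ≠ ⊤ := fun e => hne (eq_top_iff.mpr (e ▸ hZle))
    have hL : Z 2 ≤ E' := fun v hv => hinner v fun w _ => hv w
    have hlt : Z 1 < Z 2 := step_lt h.pg hZ1ne
    obtain ⟨x, hx, hx2⟩ : ∃ x ∈ E', x ∉ Z 2 := by
      by_contra hh
      push Not at hh
      exact hne (eq_top_iff.mpr fun v _ => hinner v fun w hw => by
        rw [← commutatorElement_inv]; exact (Z 1).inv_mem (hh w hw v))
    have hlt2 : Z 2 < E' := lt_of_le_of_ne hL fun e => hx2 (e.ge hx)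
    have hb1 := Quad.lt_card_mul h.pg hlt
    have hb2 := Quad.lt_card_mul h.pg hlt2
    rw [hc1] at hb1
    rw [hcard', hc] at hb2
    have hceq : cenMod (Z 1) x = E' := by
      refine le_antisymm (fun s hs => hinner s ?_) fun v hv => hcommle v hv x hx
      have hlt3 : Z 2 < E' ⊓ cenMod (Z 1) s := lt_of_le_of_ne
        (le_inf hL fun v hv => mem_cenMod.mpr (hv s)) fun e => hx2 (e.ge ⟨hx, mem_cenMod.mpr (by
          rw [← commutatorElement_inv]; exact (Z 1).inv_mem hs)⟩)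
      have hb3 := (Nat.mul_le_mul_right p hb1).trans (Quad.lt_card_mul h.pg hlt3)
      intro w hw
      have := (Subgroup.eq_of_le_of_card_ge inf_le_left (le_trans (le_of_eq (by rw [hcard', hc]; ring)) hb3)).ge hw
      rw [← commutatorElement_inv]
      exact (Z 1).inv_mem this.2
    have hcx : Nat.card (cenMod (⊥ : Subgroup S) x) = p ^ 2 := by
      have hle : cenMod (⊥ : Subgroup S) x ≤ E' := hceq ▸ cenMod_mono bot_le x
      have hlt4 : Z 1 < cenMod (⊥ : Subgroup S) x := lt_of_le_of_ne (le_cenMod_of_step (K := (⊥ : Subgroup S)) x)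
        fun e => hx2 (MC.Z_mono (e.ge self_mem_cenMod))
      have hb4 := Quad.lt_card_mul h.pg hlt4
      rw [hc1, ← pow_two] at hb4
      refine le_antisymm ?_ hb4
      have hxc : x ∉ Z 1 := fun hh => hx2 (MC.Z_mono hh)
      have hlt5 : cenMod (⊥ : Subgroup S) x < E' := lt_of_le_of_ne hle fun e => hxc (by
        rw [← hZE]
        exact ⟨⟨x, hx⟩, Subgroup.mem_center_iff.mpr fun w => Subtype.ext
          (commutatorElement_eq_one_iff_mul_comm.mp (Subgroup.mem_bot.mp (e.ge w.2))), rfl⟩)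
      have hb5 := Quad.lt_card_mul h.pg hlt5
      rw [hcard', hc, pow_succ p 2] at hb5
      exact Nat.le_of_mul_le_mul_right hb5 hpp.pos
    exact ⟨x, 1, ⟨hE, le_rfl, by rw [← hmap, hceq], ⟨h.pg, h.card, hcx, h.noab'⟩⟩, hc⟩

namespace Pearl

theorem le (hP : Pearl p F E x n) : E ≤ S := hP.ess.1.1

theorem mem_E (hP : Pearl p F E x n) {v : S} : (v : Ω) ∈ E ↔ ⁅v, x⁆ ∈ Z n := by
  conv_lhs => rw [hP.eq]
  exact (Subgroup.mem_map_iff_mem S.subtype_injective).trans mem_cenMod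

theorem cards (hP : Pearl p F E x n) : Nat.card (Z n) = p ^ n ∧ Nat.card (Z (n + 1)) = p ^ (n + 1) ∧
    Nat.card (cenMod (Z n) x) = p ^ (n + 2) := by
  obtain ⟨c1, c2, -, -, c4, -⟩ := hP.mc.layers
  rcases (show n = 0 ∨ n = 1 by have := hP.le_one; omega) with rfl | rfl
  · exact ⟨Subgroup.card_bot, c1.trans (pow_one p).symm, hP.mc.cen⟩
  · exact ⟨c1.trans (pow_one p).symm, c2, c4⟩

theorem step_le (hP : Pearl p F E x n) : (Z (n + 1)).map S.subtype ≤ E := by
  rw [hP.eq]; exact Subgroup.map_mono (le_cenMod_of_step (K := Z n) x)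

theorem base_le (hP : Pearl p F E x n) : (Z n).map S.subtype ≤ E :=
  (Subgroup.map_mono MC.Z_mono).trans hP.step_le

theorem x_not_step (hP : Pearl p F E x n) : x ∉ Z (n + 1) := by
  rcases (show n = 0 ∨ n = 1 by have := hP.le_one; omega) with rfl | rfl
  · exact fun hh => hP.mc.x_not_mem (MC.Z_mono hh)
  · exact hP.mc.x_not_mem

theorem pull_inv (hP : Pearl p F E x n) (α : MulAut E) {v : E} (hv : v ∈ pull (Z n) E) :
    α v ∈ pull (Z n) E := by
  haveI := finite_of_le hP.le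
  rcases (show n = 0 ∨ n = 1 by have := hP.le_one; omega) with rfl | rfl
  · rw [mem_pull' hP.le] at hv
    have hv1 : v = 1 := Subtype.ext (congrArg Subtype.val (Subgroup.mem_bot.mp hv) :)
    rw [hv1, map_one]
    exact Subgroup.one_mem _
  · obtain ⟨u, -, -, -, hT, -, hd1, he1, -, -, -, -⟩ := hP.mc.frame
    have hd2 : ⁅⁅x, u⁆, x⁆ ∈ Z 2 := (hP.mc.comm_mem_three x u) x
    have hxE : (x : Ω) ∈ E := hP.mem_E.mpr (mem_cenMod.mp self_mem_cenMod)
    have hdE : ((⁅⁅x, u⁆, x⁆ : S) : Ω) ∈ E := hP.step_le ⟨_, hd2, rfl⟩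
    have hcE : Nat.card E = p ^ 3 := by rw [hP.eq, card_map, hP.cards.2.2]
    have hnab : ¬ ∀ a b : E, a * b = b * a := fun hh => he1 (commutatorElement_eq_one_iff_mul_comm.mpr
      (Subtype.ext (congrArg Subtype.val (hh ⟨_, hdE⟩ ⟨_, hxE⟩) :)))
    obtain ⟨⟨-, hZc⟩, -, -⟩ := extraspecial_cube hcE hnab
    have heq : pull (Z 1) E = Subgroup.center E := by
      refine Subgroup.eq_of_le_of_card_ge (fun w hw => Subgroup.mem_center_iff.mpr fun y => ?_)
        (by rw [hZc, card_pull hP.base_le, hP.mc.layers.1])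
      have := Subgroup.mem_center_iff.mp (center_one.mp ((mem_pull' hP.le).mp hw)) ⟨y, hP.le y.2⟩
      exact Subtype.ext (congrArg Subtype.val this :)
    rw [heq] at hv ⊢
    exact Quad.apply_mem_center α hv

theorem normalizer_eq (h : H5 p F) (hP : Pearl p F E x n) :
    normalizerIn S E = (cenMod (Z (n + 1)) x).map S.subtype := by
  haveI := finite_of_le hP.le
  obtain ⟨k0, k1, k2⟩ := hP.cards
  have hzl : Z (n + 1) ≤ cenMod (Z n) x := le_cenMod_of_step (K := Z n) x
  have hmap : E.subgroupOf S = cenMod (Z n) x := by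
    ext v; exact hP.mem_E.trans mem_cenMod.symm
  refine le_antisymm ?_ ?_
  · intro g hg
    refine ⟨⟨g, hg.1⟩, ?_, rfl⟩
    rw [SetLike.mem_coe, mem_cenMod]
    obtain ⟨j, hj⟩ := h.pg ⟨g, hg.1⟩
    have hidx : (Z (n + 1)).relIndex (cenMod (Z n) x) ∣ p := by
      have := Quad.card_mul_relIndex hzl
      rw [k1, k2, pow_succ p (n + 1)] at this
      rw [Nat.eq_of_mul_eq_mul_left (pow_pos (Fact.out : p.Prime).pos _) this]
    have hstep := inv_mul_mem_of_step (E := S) (r := MulAut.conj (⟨g, hg.1⟩ : S)) (j := j)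
      (by rw [← map_pow, hj, map_one]) (K := Z (n + 1)) (L := cenMod (Z n) x)
      (fun w hw => (inferInstance : (Z (n + 1)).Normal).conj_mem w hw _) (fun w hw => by
        rw [← hmap, Subgroup.mem_subgroupOf] at hw ⊢
        exact (Subgroup.mem_normalizer_iff.mp hg.2 _).mp hw) hidx x self_mem_cenMod
    have := (inferInstance : (Z (n + 1)).Normal).conj_mem _ hstep x
    convert this using 1
    simp only [MulAut.conj_apply, commutatorElement_def]; group
  · rintro _ ⟨s, hs, rfl⟩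
    have hle : cenMod (Z n) x ≤ cenMod (Z (n + 1)) s := by
      have hx : x ∈ cenMod (Z (n + 1)) s := by
        rw [mem_cenMod, ← commutatorElement_inv]; exact (Z (n + 1)).inv_mem hs
      have hlt : Z (n + 1) < cenMod (Z n) x ⊓ cenMod (Z (n + 1)) s := lt_of_le_of_ne
        (le_inf hzl fun w hw => mem_cenMod.mpr (MC.Z_mono (hw s)))
        fun e => hP.x_not_step (e.ge ⟨self_mem_cenMod, hx⟩)
      have hb := Quad.lt_card_mul h.pg hlt
      rw [k1, ← pow_succ] at hb
      exact (Subgroup.eq_of_le_of_card_ge inf_le_left (k2.trans_le hb)).ge.trans inf_le_right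
    have key : ∀ y ∈ E, (s : Ω) * y * (s : Ω)⁻¹ ∈ E := by
      intro y hy
      have hw : (⟨y, hP.le hy⟩ : S) ∈ cenMod (Z n) x := mem_cenMod.mpr (hP.mem_E.mp hy)
      have hmem : s * ⟨y, hP.le hy⟩ * s⁻¹ ∈ cenMod (Z n) x := by
        rw [show s * ⟨y, hP.le hy⟩ * s⁻¹ = ⁅(⟨y, hP.le hy⟩ : S), s⁆⁻¹ * ⟨y, hP.le hy⟩ by
          rw [commutatorElement_def]; group]
        exact Subgroup.mul_mem _ (hzl ((Z (n + 1)).inv_mem (hle hw))) hw
      exact hP.mem_E.mpr hmem
    refine ⟨s.2, ?_⟩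
    show (s : Ω) ∈ Subgroup.normalizer (E : Set Ω)
    rw [Subgroup.mem_normalizer_iff]
    have himg : E.map (MulAut.conj (s : Ω)).toMonoidHom = E := by
      refine Subgroup.eq_of_le_of_card_ge ?_
        (le_of_eq (Subgroup.card_map_of_injective (MulAut.conj (s : Ω)).injective).symm)
      rintro _ ⟨y, hy, rfl⟩
      exact key y hy
    intro y
    refine ⟨key y, fun hy => ?_⟩
    obtain ⟨y', hy', e⟩ := himg.ge hy
    have e' : (s : Ω) * y' * (s : Ω)⁻¹ = s * y * (s : Ω)⁻¹ := e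
    exact (mul_left_cancel (mul_right_cancel e')) ▸ hy'

theorem step_inv (h : H5 p F) (hP : Pearl p F E x n) {τ : MulAut E}
    (hR : ∀ r ∈ autInducedBy S E, τ * r * τ⁻¹ ∈ autInducedBy S E) {v : E} (hv : v ∈ pull (Z (n + 1)) E) :
    τ v ∈ pull (Z (n + 1)) E := by
  haveI := finite_of_le hP.le
  haveI : Finite (MulAut E) := finite_mulAut_of_le hP.le
  obtain ⟨k0, k1, k2⟩ := hP.cards
  obtain ⟨g, hg, hgE⟩ := exists_moved h.pg h.sat hP.ess
  let r : MulAut E := E.normalizerMonoidHom ⟨g, hg.2⟩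
  have hr : r ∈ autInducedBy S E := mem_autInducedBy_iff.mpr ⟨g, hg.1, hg.2, fun _ => rfl⟩
  obtain ⟨r', hr', hrr⟩ : ∃ r' ∈ autInducedBy S E, τ * r' * τ⁻¹ = r := by
    have himg : (autInducedBy S E).map (MulAut.conj τ).toMonoidHom = autInducedBy S E := by
      refine Subgroup.eq_of_le_of_card_ge ?_
        (le_of_eq (Subgroup.card_map_of_injective (MulAut.conj τ).injective).symm)
      rintro _ ⟨y, hy, rfl⟩
      exact hR y hy
    exact himg.ge hr
  have h1 : (τ v)⁻¹ * r (τ v) ∈ pull (Z n) E := by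
    rw [← hrr, show (τ v)⁻¹ * (τ * r' * τ⁻¹) (τ v) = τ (v⁻¹ * r' v) by
      rw [map_mul, map_inv, MulAut.mul_apply, MulAut.mul_apply, MulAut.inv_apply_self]]
    refine hP.pull_inv τ ?_
    obtain ⟨g', hg', -, he⟩ := mem_autInducedBy_iff.mp hr'
    rw [mem_pull' hP.le] at hv ⊢
    have hm : ⁅(⟨((v : E) : Ω), hP.le v.2⟩ : S)⁻¹, (⟨g', hg'⟩ : S)⁆ ∈ Z n := (Z (n + 1)).inv_mem hv ⟨g', hg'⟩
    convert hm using 1
    refine Subtype.ext ?_
    simp only [Subgroup.coe_mul, Subgroup.coe_inv, commutatorElement_def, he]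
    group
  rw [mem_pull' hP.le] at h1 ⊢
  have hzl : Z (n + 1) ≤ cenMod (Z n) x := le_cenMod_of_step (K := Z n) x
  have hlt : cenMod (Z n) x ⊓ cenMod (Z n) ⟨g, hg.1⟩ < cenMod (Z n) x := lt_of_le_of_ne inf_le_left fun e =>
    hgE (hP.mem_E.mpr (show ⁅(⟨g, hg.1⟩ : S), x⁆ ∈ Z n by
      rw [← commutatorElement_inv]
      exact (Z n).inv_mem (e.ge self_mem_cenMod).2))
  have hb := Quad.lt_card_mul h.pg hlt
  rw [k2, pow_succ p (n + 1)] at hb
  have heq : Z (n + 1) = cenMod (Z n) x ⊓ cenMod (Z n) ⟨g, hg.1⟩ := Subgroup.eq_of_le_of_card_ge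
    (le_inf hzl fun w hw => mem_cenMod.mpr (hw _))
    (by rw [k1]; exact Nat.le_of_mul_le_mul_right hb (Fact.out : p.Prime).pos)
  rw [heq]
  refine ⟨mem_cenMod.mpr (hP.mem_E.mp (τ v).2), ?_⟩
  show (⟨(τ v : Ω), hP.le (τ v).2⟩ : S) ∈ cenMod (Z n) ⟨g, hg.1⟩
  rw [mem_cenMod]
  set t : S := ⟨(τ v : Ω), hP.le (τ v).2⟩ with ht
  have h2 : t⁻¹ * ((⟨g, hg.1⟩ : S) * t * (⟨g, hg.1⟩ : S)⁻¹) ∈ Z n := by
    convert h1 using 1
    exact Subtype.ext rfl
  have := (inferInstance : (Z n).Normal).conj_mem _ ((Z n).inv_mem h2) t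
  convert this using 1
  simp only [commutatorElement_def]; group

theorem fully_three (h : H5 p F) (hP : Pearl p F E x 0) : F.IsFullyNormalized (TThree x) := by
  have hpp : p.Prime := Fact.out
  obtain ⟨c1, c2, c3, -, c4, c5⟩ := hP.mc.layers
  obtain ⟨u, -, -, -, hT, hcz, hd1, he1, -⟩ := hP.mc.frame
  set c := ⁅x, u⁆ with hc
  refine ⟨three_le, fun Q hQ => ?_⟩
  rw [normalizer_three h.pg hP.mc, card_map, c5]
  by_contra hlt
  push Not at hlt
  haveI : Finite (normalizerIn S Q) := finite_normalizerIn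
  obtain ⟨j, hj⟩ := IsPGroup.iff_card.mp (h.pg.to_le (normalizerIn_le (S := S) (P := Q)))
  rw [hj, Nat.pow_lt_pow_iff_right hpp.one_lt] at hlt
  have hj5 : p ^ j ≤ p ^ 5 := hj ▸ h.card ▸ Subgroup.card_le_of_le normalizerIn_le
  rw [Nat.pow_le_pow_iff_right hpp.one_lt] at hj5
  have hN : S ≤ Subgroup.normalizer (Q : Set Ω) := inf_eq_left.mp (Subgroup.eq_of_le_of_card_ge inf_le_left (by
    rw [show normalizerIn S Q = S ⊓ Subgroup.normalizer (Q : Set Ω) from rfl] at hj
    rw [hj, h.card, show j = 5 by omega]))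
  haveI hQn : (Q.subgroupOf S).Normal := (Subgroup.normal_subgroupOf_iff_le_normalizer hQ.le_right).mpr hN
  set Q' := Q.subgroupOf S with hQ'
  have hQc : Nat.card Q' = p ^ 3 := by
    rw [Nat.card_congr (Subgroup.subgroupOfEquivOfLe hQ.le_right).toEquiv, ← hQ.card_eq, card_map, c4]
  have hq : Nat.card (S ⧸ Q') = p ^ 2 := by
    have := Q'.card_mul_index
    rw [hQc, h.card, Subgroup.index_eq_card, pow_add p 3 2] at this
    exact Nat.eq_of_mul_eq_mul_left (pow_pos hpp.pos 3) this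
  have hcomm := IsPGroup.commutative_of_card_eq_prime_sq hq
  have hcQ : ∀ a b : S, ⁅a, b⁆ ∈ Q' := fun a b => by
    rw [← QuotientGroup.eq_one_iff, commutatorElement_def]
    show (QuotientGroup.mk a * QuotientGroup.mk b * (QuotientGroup.mk a)⁻¹ * (QuotientGroup.mk b)⁻¹ : S ⧸ Q') = 1
    rw [hcomm (QuotientGroup.mk a) (QuotientGroup.mk b)]
    group
  -- so it is the third layer, which is abelian
  have hc3 : c ∈ Z 3 := hP.mc.comm_mem_three x u
  have e0 : (⊥ : Subgroup S) < Z 1 ⊓ Q' := lt_of_le_of_ne bot_le fun e => he1 (Subgroup.mem_bot.mp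
    (e.ge ⟨(hc3 x) x, hcQ _ _⟩))
  have b1 := Quad.lt_card_mul h.pg e0
  rw [Subgroup.card_bot, one_mul] at b1
  have i1 : Z 1 ≤ Q' := (Subgroup.eq_of_le_of_card_ge inf_le_left (c1.trans_le b1)).ge.trans inf_le_right
  have e1 : Z 1 < Z 2 ⊓ Q' := lt_of_le_of_ne (le_inf MC.Z_mono i1) fun e => hd1 (e.ge ⟨hc3 x, hcQ _ _⟩)
  have b2 := Quad.lt_card_mul h.pg e1
  rw [c1, ← pow_two] at b2
  have i2 : Z 2 ≤ Q' := (Subgroup.eq_of_le_of_card_ge inf_le_left (c2.trans_le b2)).ge.trans inf_le_right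
  have e2 : Z 2 < Z 3 ⊓ Q' := lt_of_le_of_ne (le_inf MC.Z_mono i2) fun e => hcz (e.ge ⟨hc3, hcQ _ _⟩)
  have b3 := Quad.lt_card_mul h.pg e2
  rw [c2, ← pow_succ] at b3
  have i3 : Z 3 ≤ Q' := (Subgroup.eq_of_le_of_card_ge inf_le_left (c3.trans_le b3)).ge.trans inf_le_right
  have e3 := Subgroup.eq_of_le_of_card_ge i3 (hQc.trans c3.symm).le
  -- but the first step is not abelian
  obtain ⟨e⟩ := hQ.nonempty_mulEquiv
  have hdT : ((⁅c, x⁆ : S) : Ω) ∈ TThree x := ⟨_, le_cenMod_of_step (K := Z 1) x (hc3 x), rfl⟩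
  have hxT : (x : Ω) ∈ TThree x := ⟨x, self_mem_cenMod, rfl⟩
  refine he1 (commutatorElement_eq_one_iff_mul_comm.mpr ?_)
  obtain ⟨-, -, -, -, -, -, -, -, -, -, h3ab, -⟩ := hP.mc.frame
  have key : ∀ a b : Q, a * b = b * a := fun a b =>
    Subtype.ext (congrArg Subtype.val (h3ab _ (e3.ge (show (⟨a, hQ.le_right a.2⟩ : S) ∈ Q' from a.2)) _
      (e3.ge (show (⟨b, hQ.le_right b.2⟩ : S) ∈ Q' from b.2))) :)
  have := e.injective ((map_mul e _ _).trans ((key (e ⟨_, hdT⟩) (e ⟨_, hxT⟩)).trans (map_mul e _ _).symm))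
  exact Subtype.ext (congrArg Subtype.val this :)

/-- Automorphisms normalizing `Aut_S(E)` extend to `S`. -/
theorem ext (h : H5 p F) (hP : Pearl p F E x n) {τ : MulAut E} (hτ : τ ∈ F.autGroup E)
    (hR : ∀ r ∈ autInducedBy S E, τ * r * τ⁻¹ ∈ autInducedBy S E) : Ext F τ := by
  have hpp : p.Prime := Fact.out
  haveI := finite_of_le hP.le
  obtain ⟨k0, k1, k2⟩ := hP.cards
  obtain ⟨σ, hσ, he⟩ := exists_extend h.pg h.sat hP.ess.2.1 (hP.normalizer_eq h) hτ hR
  have hres : ∀ {K : Subgroup S}, K.map S.subtype ≤ E → (∀ v ∈ pull K E, τ v ∈ pull K E) →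
      ∀ v ∈ pull K ((cenMod (Z (n + 1)) x).map S.subtype), σ v ∈ pull K ((cenMod (Z (n + 1)) x).map S.subtype) := by
    intro K hK hKi v hv
    have hvE : (v : Ω) ∈ E := hK (Subgroup.mem_subgroupOf.mp hv)
    have := hKi ⟨v, hvE⟩ (Subgroup.mem_subgroupOf.mpr (Subgroup.mem_subgroupOf.mp hv))
    rw [pull, Subgroup.mem_subgroupOf] at this ⊢
    rw [← he ⟨v, hvE⟩ v.2] at this
    exact this
  have hsub : E ≤ (cenMod (Z (n + 1)) x).map S.subtype := hP.normalizer_eq h ▸ le_normalizerIn hP.le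
  have hnext := hres hP.step_le fun v hv => hP.step_inv h hR hv
  rcases (show n = 0 ∨ n = 1 by have := hP.le_one; omega) with rfl | rfl
  swap
  · exact (up_four h.pg h.sat hP.mc hσ (hres hP.base_le fun v hv => hP.pull_inv τ hv) hnext).trans hsub he
  refine (up_three h.pg h.sat hP.mc (hP.fully_three h) hσ hnext fun v hv => ?_).trans hsub he
  -- the second layer is preserved
  obtain ⟨c1, c2, c3, -, c4, -⟩ := hP.mc.layers
  obtain ⟨u, -, -, -, hT, -, hd1, -, -⟩ := hP.mc.frame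
  set c := ⁅x, u⁆ with hc
  set d := ⁅c, x⁆ with hd
  have hd2 : d ∈ Z 2 := (hP.mc.comm_mem_three x u) x
  by_contra hv2
  haveI : Finite (TThree x) := finite_of_le three_le
  have hdT : (d : Ω) ∈ TThree x := ⟨d, le_cenMod_of_step (K := Z 1) x hd2, rfl⟩
  set y : S := ⟨(σ ⟨d, hdT⟩ : TThree x), three_le (σ ⟨d, hdT⟩).2⟩ with hy
  have hytop : Z 1 < Z 1 ⊔ Subgroup.zpowers d := lt_of_le_of_ne le_sup_left fun e =>
    hd1 (e.ge (Subgroup.mem_sup_right (Subgroup.mem_zpowers d)))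
  have hb := Quad.lt_card_mul h.pg hytop
  rw [c1, ← pow_two] at hb
  have hgen := Subgroup.eq_of_le_of_card_ge (sup_le MC.Z_mono (Subgroup.zpowers_le.mpr hd2)) (c2.trans_le hb)
  have hy2 : y ∉ Z 2 := by
    intro hyZ
    obtain ⟨z, hz, _, ⟨i, rfl⟩, e⟩ := Subgroup.mem_sup_of_normal_left.mp
      (hgen.ge ((mem_pull' three_le).mp hv))
    have hzT : (z : Ω) ∈ TThree x := ⟨z, le_cenMod_of_step (K := Z 1) x (MC.Z_mono hz), rfl⟩
    have hsv : v = (⟨z, hzT⟩ : TThree x) * (⟨d, hdT⟩ : TThree x) ^ i := Subtype.ext (congrArg Subtype.val e.symm :)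
    refine hv2 ?_
    rw [hsv, map_mul, map_zpow]
    refine Subgroup.mul_mem _ (pull_mono MC.Z_mono _ (hnext _ ((mem_pull' three_le).mpr hz))) ?_
    exact Subgroup.zpow_mem _ ((mem_pull' three_le).mpr hyZ) i
  -- the image of the second layer is a conjugate of `E`
  have hZ2T : Z 2 ≤ cenMod (Z 1) x := le_cenMod_of_step (K := Z 1) x
  have hidx : ((Z 2).subgroupOf (cenMod (Z 1) x)).index = p := by
    have := Quad.card_mul_relIndex hZ2T
    rw [c2, c4, pow_succ p 2] at this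
    exact Nat.eq_of_mul_eq_mul_left (pow_pos hpp.pos 2) this
  have hyT : y ∈ cenMod (Z 1) x := (Subgroup.mem_map_iff_mem S.subtype_injective).mp (σ ⟨d, hdT⟩).2
  obtain ⟨i, hi⟩ := exists_zpow_mem hidx (x := (⟨x, self_mem_cenMod⟩ : cenMod (Z 1) x)) hP.mc.x_not_mem ⟨y, hyT⟩
  have hi' : (x ^ i)⁻¹ * y ∈ Z 2 := hi
  obtain ⟨w, hw, _, ⟨m, rfl⟩, hm⟩ := Subgroup.mem_sup_of_normal_left.mp (hgen.ge hi')
  have hpi : ¬ (p : ℤ) ∣ i := fun hdiv => hy2 (by
    obtain ⟨q, rfl⟩ := hdiv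
    have hxp : x ^ (p : ℤ) ∈ Z 2 := by
      rw [zpow_natCast]
      haveI : ((Z 2).subgroupOf (cenMod (Z 1) x)).Normal := Subgroup.normal_subgroupOf
      have := ((Z 2).subgroupOf (cenMod (Z 1) x)).pow_index_mem (⟨x, self_mem_cenMod⟩ : cenMod (Z 1) x)
      rw [hidx] at this
      exact this
    have := (Z 2).mul_mem ((Z 2).zpow_mem hxp q) hi'
    rwa [← zpow_mul, mul_inv_cancel_left] at this)
  obtain ⟨s', t', hst⟩ : IsCoprime i (p : ℤ) :=
    ((Nat.prime_iff_prime_int.mp hpp).coprime_iff_not_dvd.mpr hpi).symm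
  have hce : ∀ z ∈ Z 1, ∀ s : S, Commute z s := fun z hz s => (Subgroup.mem_center_iff.mp (center_one.mp hz) s).symm
  have hdp : d ^ (p : ℤ) ∈ Z 1 := by
    rw [zpow_natCast]
    haveI : ((Z 1).subgroupOf (Z 2)).Normal := Subgroup.normal_subgroupOf
    have := ((Z 1).subgroupOf (Z 2)).pow_index_mem (⟨d, hd2⟩ : Z 2)
    rw [show ((Z 1).subgroupOf (Z 2)).index = p by
      have := Quad.card_mul_relIndex (MC.Z_mono (i := 1) (G := S))
      rw [c1, c2, pow_two] at this
      exact Nat.eq_of_mul_eq_mul_left hpp.pos this] at this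
    exact this
  have hC : ∀ l : ℤ, (x ^ i * d ^ (i * l))⁻¹ * (c ^ l * x ^ i * (c ^ l)⁻¹) ∈ Z 1 := by
    intro l
    rw [← QuotientGroup.eq, QuotientGroup.mk_mul, QuotientGroup.mk_mul, QuotientGroup.mk_mul, QuotientGroup.mk_inv,
      QuotientGroup.mk_zpow, QuotientGroup.mk_zpow, QuotientGroup.mk_zpow]
    have hD : ⁅(QuotientGroup.mk c : S ⧸ Z 1), QuotientGroup.mk x⁆ = QuotientGroup.mk d :=
      (map_commutatorElement (QuotientGroup.mk' (Z 1)) c x).symm
    have hDc : ∀ q : S ⧸ Z 1, Commute q (QuotientGroup.mk d) := fun q => by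
      induction q using QuotientGroup.induction_on with
      | H s => exact (mk_commute (K := Z 1) (hd2 s)).symm
    have h1 := comm_zpow_zpow (a := (QuotientGroup.mk c : S ⧸ Z 1)) (b := QuotientGroup.mk x) (hD ▸ hDc _) (hD ▸ hDc _)
      l i
    rw [hD, commutatorElement_def, mul_inv_eq_iff_eq_mul, mul_comm l] at h1
    rw [h1, ((hDc ((QuotientGroup.mk x : S ⧸ Z 1) ^ i)).zpow_right (i * l)).eq]
  set l := s' * m with hl
  have hy' : (x ^ i * d ^ (i * l))⁻¹ * y ∈ Z 1 := by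
    have e : y = x ^ i * (w * d ^ m) := by
      rw [show w * d ^ m = _ from hm, mul_inv_cancel_left]
    rw [e, show (x ^ i * d ^ (i * l))⁻¹ * (x ^ i * (w * d ^ m)) = d ^ (-(i * l)) * w * d ^ m by group,
      ← (hce w hw (d ^ (-(i * l)))).eq, mul_assoc, ← zpow_add,
      show -(i * l) + m = (p : ℤ) * (t' * m) by rw [hl]; linear_combination -m * hst]
    refine (Z 1).mul_mem hw ?_
    rw [zpow_mul]
    exact (Z 1).zpow_mem hdp _
  have hconj : (c ^ l * x ^ i * (c ^ l)⁻¹)⁻¹ * y ∈ Z 1 := by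
    have := (Z 1).mul_mem ((Z 1).inv_mem (hC l)) hy'
    simpa [mul_assoc] using this
  let L : Subgroup Ω := ((Z 2).map S.subtype)
  have hLn : S ≤ Subgroup.normalizer (L : Set Ω) := by
    have : (L.subgroupOf S).Normal := by
      rw [show L.subgroupOf S = Z 2 by ext v; exact Subgroup.mem_map_iff_mem S.subtype_injective]
      infer_instance
    exact (Subgroup.normal_subgroupOf_iff_le_normalizer (Subgroup.map_subtype_le _)).mp this
  have hnn : ¬ S ≤ Subgroup.normalizer (E : Set Ω) := fun hh => by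
    have := congrArg (fun K : Subgroup Ω => Nat.card K) (normalizerIn_eq_of_le hh)
    simp only [hP.normalizer_eq h, card_map, h.card] at this
    rw [c4] at this
    exact absurd (Nat.pow_right_injective hpp.two_le this) (by norm_num)
  refine not_isConj_normal hP.ess.2.1 hnn hLn ?_
  -- build the conjugation
  obtain ⟨φ, hφ, -, hφe⟩ := exists_map_of_mem_autGroup three_le hσ
  have hLT : L ≤ TThree x := Subgroup.map_mono hZ2T
  have h1 : F.IsConj L ((φ.comp (Subgroup.inclusion hLT)).range) := ⟨_, F.restrict_mem hφ hLT, rfl⟩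
  refine FusionSystem.IsConj.trans ?_ h1.symm
  haveI : Finite ↥((φ.comp (Subgroup.inclusion hLT)).range) := finite_of_le h1.le_right
  refine isConj_of_conj hP.le (g := ((c ^ l : S) : Ω)) (c ^ l : S).2 ?_ ?_
  · set Q := (φ.comp (Subgroup.inclusion hLT)).range with hQ
    have hzQ : ∀ z ∈ Z 1, ((z : S) : Ω) ∈ Q := by
      intro z hz
      have hzp : (⟨z, ⟨z, hZ2T (MC.Z_mono hz), rfl⟩⟩ : TThree x) ∈ pull (Z 1) (TThree x) :=
        (mem_pull' three_le).mpr hz
      have himg : (pull (Z 1) (TThree x)).map σ.toMonoidHom = pull (Z 1) (TThree x) := by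
        refine Subgroup.eq_of_le_of_card_ge ?_
          (le_of_eq (Nat.card_congr ((pull (Z 1) (TThree x)).equivMapOfInjective _ σ.injective).toEquiv))
        rintro _ ⟨y', hy', rfl⟩
        exact hnext y' hy'
      obtain ⟨z', hz', e⟩ := himg.ge hzp
      refine ⟨⟨z', ⟨_, MC.Z_mono ((mem_pull' three_le).mp hz'), rfl⟩⟩, ?_⟩
      rw [MonoidHom.comp_apply, hφe]
      exact congrArg Subtype.val (show σ z' = _ from e)
    have hyQ : (y : Ω) ∈ Q := ⟨⟨d, ⟨d, hd2, rfl⟩⟩, by rw [MonoidHom.comp_apply, hφe]; rfl⟩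
    have hxiQ : ((c ^ l * x ^ i * (c ^ l)⁻¹ : S) : Ω) ∈ Q := by
      have h3 := Q.mul_mem hyQ (Q.inv_mem (hzQ _ hconj))
      convert h3 using 1
      push_cast
      group
    intro e he'
    have heC : (⟨e, hP.le he'⟩ : S) ∈ cenMod (Z 0) x := mem_cenMod.mpr (hP.mem_E.mp he')
    have hidx0 : ((Z 1).subgroupOf (cenMod (Z 0) x)).index = p := by
      have := Quad.card_mul_relIndex (le_cenMod_of_step (K := Z 0) x)
      change Nat.card (Z 1) * (Z 1).relIndex (cenMod (Z 0) x) = _ at this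
      rw [c1, k2, pow_two] at this
      exact Nat.eq_of_mul_eq_mul_left hpp.pos this
    have hxi : x ^ i ∉ Z 1 := fun hh => hpi (by
      have hx1 : x ∉ Z 1 := fun hh' => hP.mc.x_not_mem (MC.Z_mono hh')
      by_contra hnd
      exact hx1 (by
        have hxp : x ^ (p : ℤ) ∈ Z 1 := by
          rw [zpow_natCast]
          haveI : ((Z 1).subgroupOf (cenMod (Z 0) x)).Normal := Subgroup.normal_subgroupOf
          have := ((Z 1).subgroupOf (cenMod (Z 0) x)).pow_index_mem (⟨x, self_mem_cenMod⟩ : cenMod (Z 0) x)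
          rw [hidx0] at this
          exact this
        have := (Z 1).mul_mem ((Z 1).zpow_mem hh s') ((Z 1).zpow_mem hxp t')
        rwa [← zpow_mul, ← zpow_mul, ← zpow_add, show i * s' + (p : ℤ) * t' = 1 by linear_combination hst,
          zpow_one] at this))
    obtain ⟨j, hj⟩ := exists_zpow_mem hidx0 (x := (⟨x ^ i, Subgroup.zpow_mem _ self_mem_cenMod i⟩ : cenMod (Z 0) x))
      hxi ⟨_, heC⟩
    have hj' : ((x ^ i) ^ j)⁻¹ * ⟨e, hP.le he'⟩ ∈ Z 1 := hj
    have h4 := Q.mul_mem (Q.zpow_mem hxiQ j) (hzQ _ hj')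
    convert h4 using 1
    rw [← Subgroup.coe_zpow, ← Subgroup.coe_mul, conj_zpow]
    rw [show c ^ l * (x ^ i) ^ j * (c ^ l)⁻¹ * (((x ^ i) ^ j)⁻¹ * ⟨e, hP.le he'⟩) =
      c ^ l * ((x ^ i) ^ j * ((((x ^ i) ^ j)⁻¹ * ⟨e, hP.le he'⟩))) * (c ^ l)⁻¹ by
      rw [mul_assoc (c ^ l * (x ^ i) ^ j), ← (hce _ hj' ((c ^ l)⁻¹)).eq]
      group]
    push_cast
    group
  · rw [← Nat.card_congr (MonoidHom.ofInjective (F.injective_of_mem (F.restrict_mem hφ hLT))).toEquiv, card_map, c2]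
    exact (show Nat.card E = p ^ 2 by rw [hP.eq, card_map, k2]).ge

end Pearl

end Cfsg.OrderPFive
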