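import Cfsg.Agent.Lib.Fusion.OrderPFive.Layers
import Cfsg.Agent.Lib.Fusion.OrderPFive.Ext
import Cfsg.Agent.Lib.Fusion.MaxClassCube.Main
import Cfsg.Agent.Lib.Fusion.SelfAut
import Cfsg.Agent.Lib.Fusion.SmallCentre.Maps

/-!
Standing hypotheses, and the existence of an essential subgroup of order at most `p ^ 3`.
-/

set_option autoImplicit false
set_option linter.unusedSectionVars false

open scoped commutatorElement

namespace Cfsg.OrderPFive

open FusionSystem EssentialSmall

variable {Ω : Type*} [Group Ω] {S : Subgroup Ω} [Finite S] {p : ℕ} [Fact p.Prime] {F : FusionSystem S}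

/-- The standing hypotheses. -/
structure H5 (p : ℕ) (F : FusionSystem S) : Prop where
  pg : IsPGroup p S
  sat : F.IsSaturated p
  odd : p ≠ 2
  ne7 : p ≠ 7
  core : F.core = ⊥
  hyper : F.hyperfocalSubgroup p = S
  card : Nat.card S = p ^ 5
  noab : ∀ B : Subgroup Ω, B ≤ S → Nat.card B = p ^ 4 → ∃ a ∈ B, ∃ b ∈ B, a * b ≠ b * a

namespace H5

theorem noab' (h : H5 p F) (B : Subgroup S) (hB : Nat.card B = p ^ 4) : ∃ a ∈ B, ∃ b ∈ B, a * b ≠ b * a := by
  obtain ⟨_, ⟨a, ha, rfl⟩, _, ⟨b, hb, rfl⟩, hne⟩ := h.noab (B.map S.subtype) (Subgroup.map_subtype_le B)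
    (by rw [Subgroup.card_map_of_injective S.subtype_injective, hB])
  exact ⟨a, ha, b, hb, fun e => hne (congrArg Subtype.val e)⟩

theorem nonab (h : H5 p F) : ¬ ∀ a b : S, a * b = b * a := by
  intro hc
  obtain ⟨B, hB⟩ := Sylow.exists_subgroup_card_pow_prime (G := S) p (n := 4) (h.card ▸ pow_dvd_pow p (by norm_num))
  obtain ⟨a, -, b, -, hne⟩ := h.noab' B hB
  exact hne (hc a b)

theorem card_center (h : H5 p F) : Nat.card (Subgroup.center S) = p ∨ Nat.card (Subgroup.center S) = p ^ 2 := by
  have hpp : p.Prime := Fact.out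
  set Z := Subgroup.center S
  haveI : Nontrivial S := Finite.one_lt_card_iff_nontrivial.mp (h.card ▸ Nat.one_lt_pow (by norm_num) hpp.one_lt)
  haveI := h.pg.center_nontrivial
  obtain ⟨i, hi5, hi⟩ := (Nat.dvd_prime_pow hpp).mp (h.card ▸ Z.card_subgroup_dvd_card)
  have h0 : i ≠ 0 := fun e => by
    have := Finite.one_lt_card (α := Z)
    rw [hi, e, pow_zero] at this
    exact lt_irrefl _ this
  rcases (show i = 1 ∨ i = 2 ∨ i = 3 ∨ i = 4 ∨ i = 5 by omega) with rfl | rfl | rfl | rfl | rfl
  · exact Or.inl (hi.trans (pow_one p))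
  · exact Or.inr hi
  · exfalso
    have hne : Z ≠ ⊤ := fun e => h.nonab fun a b => (Subgroup.mem_center_iff.mp (e.ge trivial) a)
    obtain ⟨x, -, hx⟩ := SetLike.exists_of_lt (lt_top_iff_ne_top.mpr hne)
    let B : Subgroup S := Z ⊔ Subgroup.zpowers x
    have hlt : Z < B := lt_of_le_of_ne le_sup_left fun e =>
      hx (e.ge (Subgroup.mem_sup_right (Subgroup.mem_zpowers x)))
    have hb := Quad.lt_card_mul h.pg hlt
    rw [hi, ← pow_succ] at hb
    obtain ⟨C, hC, hCB⟩ : ∃ C : Subgroup S, Nat.card C = p ^ 4 ∧ C ≤ B := by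
      obtain ⟨C, hC⟩ := Sylow.exists_subgroup_card_pow_prime (G := B) p (n := 4) (by
        obtain ⟨j, hj⟩ := IsPGroup.iff_card.mp (h.pg.to_subgroup B)
        rw [hj] at hb ⊢
        exact pow_dvd_pow p ((Nat.pow_le_pow_iff_right hpp.one_lt).mp hb))
      exact ⟨C.map B.subtype, (Subgroup.card_map_of_injective B.subtype_injective).trans hC, Subgroup.map_subtype_le C⟩
    obtain ⟨a, ha, b, hb', hab⟩ := h.noab' C hC
    refine hab ?_
    have hBc : B ≤ Subgroup.centralizer ({a} : Set S) := by
      have hax : a * x = x * a := by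
        obtain ⟨z, hz, _, ⟨i, rfl⟩, rfl⟩ := Subgroup.mem_sup_of_normal_left.mp (hCB ha)
        exact ((show Commute z x from (Subgroup.mem_center_iff.mp hz x).symm).mul_left
          ((Commute.refl x).zpow_left i)).eq
      exact sup_le (fun z hz => Subgroup.mem_centralizer_singleton_iff.mpr (Subgroup.mem_center_iff.mp hz a).symm)
        (Subgroup.zpowers_le.mpr (Subgroup.mem_centralizer_singleton_iff.mpr hax.symm))
    exact (Subgroup.mem_centralizer_singleton_iff.mp (hBc (hCB hb'))).symm
  · exfalso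
    obtain ⟨a, ha, b, hb, hab⟩ := h.noab' Z hi
    exact hab (Subgroup.mem_center_iff.mp hb a)
  · exfalso
    exact h.nonab fun a b => Subgroup.mem_center_iff.mp ((Subgroup.eq_top_of_card_eq Z (hi.trans h.card.symm)).ge trivial) a

/-- Some essential subgroup has order `p ^ 2` or `p ^ 3`. -/
theorem exists_small (h : H5 p F) :
    ∃ E, F.IsEssential p E ∧ (Nat.card E = p ^ 2 ∨ Nat.card E = p ^ 3) := by
  have hpp : p.Prime := Fact.out
  by_contra hh
  push Not at hh
  have hbig : ∀ E, F.IsEssential p E → Nat.card E = p ^ 4 ∧ S ≤ Subgroup.normalizer (E : Set Ω) ∧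
      Nat.card (Subgroup.center E) = p ^ 2 := by
    intro E hE
    have hES := hE.1.1
    haveI : Finite E := finite_of_le hES
    obtain ⟨j, hj⟩ := IsPGroup.iff_card.mp (h.pg.to_le hES)
    have hlt : Nat.card E < p ^ 5 := h.card ▸ card_lt_of_lt (hE.lt h.pg h.sat)
    rw [hj, Nat.pow_lt_pow_iff_right hpp.one_lt] at hlt
    obtain ⟨h2, h3⟩ := hh E hE
    have h1 : ¬ p ^ j ≤ p := hj ▸ MaxClassCube.not_small h.pg h.card (by norm_num) hE
    have hj4 : j = 4 := by
      rcases (show j = 0 ∨ j = 1 ∨ j = 2 ∨ j = 3 ∨ j = 4 by omega) with rfl | rfl | rfl | rfl | rfl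
      · exact absurd ((pow_zero p).trans_le hpp.one_lt.le) h1
      · exact absurd (pow_one p).le h1
      · exact absurd hj h2
      · exact absurd hj h3
      · rfl
    subst hj4
    refine ⟨hj, ?_, ?_⟩
    · have hi : (E.subgroupOf S).index = p := by
        have := (E.subgroupOf S).card_mul_index
        rw [Nat.card_congr (Subgroup.subgroupOfEquivOfLe hES).toEquiv, hj, h.card, pow_succ p 4] at this
        exact Nat.eq_of_mul_eq_mul_left (pow_pos hpp.pos 4) this
      haveI := CfsgLib.CyclicMax.normal_of_index_prime h.pg hi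
      exact (Subgroup.normal_subgroupOf_iff_le_normalizer hES).mp this
    · obtain ⟨a, ha, b, hb, hne⟩ := h.noab E hES hj
      exact (Quad.card_center hj fun hc => hne (congrArg Subtype.val (hc ⟨a, ha⟩ ⟨b, hb⟩))).resolve_left
        fun e => Quad.center_ne_prime h.pg h.sat hE hj e
  let Q : Subgroup Ω := (Subgroup.center S).map S.subtype
  have hQE : ∀ E, F.IsEssential p E → Q ≤ E := by
    rintro E hE _ ⟨z, hz, rfl⟩
    exact hE.1.centralizerIn_le_self ⟨z.2, Subgroup.mem_centralizer_iff.mpr fun e he =>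
      congrArg Subtype.val (Subgroup.mem_center_iff.mp hz ⟨e, hE.1.1 he⟩)⟩
  have hQc : ∀ E, F.IsEssential p E → Q.subgroupOf E ≤ Subgroup.center E := by
    intro E hE y hy
    obtain ⟨z, hz, e⟩ := Subgroup.mem_subgroupOf.mp hy
    refine Subgroup.mem_center_iff.mpr fun w => Subtype.ext ?_
    have := congrArg Subtype.val (Subgroup.mem_center_iff.mp hz ⟨w, hE.1.1 w.2⟩)
    simp only [Subgroup.coe_mul] at this ⊢
    rw [← e]
    exact this
  have hQ1 : Q ≠ ⊥ := fun e => by
    have : Nat.card Q = 1 := by rw [e]; exact Subgroup.card_bot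
    rw [Subgroup.card_map_of_injective S.subtype_injective] at this
    rcases h.card_center with h' | h' <;> rw [h'] at this
    · exact hpp.one_lt.ne' this
    · exact (Nat.one_lt_pow (by norm_num) hpp.one_lt).ne' this
  refine hQ1 (h.sat.eq_bot_of_invariant h.pg h.core (Subgroup.map_subtype_le _) ?_ fun E hE => ⟨hQE E hE, ?_⟩)
  · rintro α - y ⟨z, hz, e⟩
    obtain rfl : z = y := Subtype.ext e
    exact ⟨α z, SmallCentre.apply_mem_center α hz, rfl⟩
  intro α _ y hy
  obtain ⟨hc, hn, hZ⟩ := hbig E hE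
  haveI : Finite E := finite_of_le hE.1.1
  have hQcard : Nat.card (Q.subgroupOf E) = Nat.card (Subgroup.center S) := by
    rw [Nat.card_congr (Subgroup.subgroupOfEquivOfLe (hQE E hE)).toEquiv,
      Subgroup.card_map_of_injective S.subtype_injective]
  rcases h.card_center with h1 | h2
  · obtain ⟨-, a, b, L, hL, hLc, hcomm, -, -⟩ := Quad.center_sq_data hc hZ
    have hLS : L.map E.subtype = Q := by
      have hnorm : S ≤ Subgroup.normalizer (((L.map E.subtype) : Subgroup Ω) : Set Ω) := by
        have e : L.map E.subtype = ⁅E, E⁆ := by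
          rw [← hcomm, commutator_def, Subgroup.map_commutator, ← MonoidHom.range_eq_map, Subgroup.range_subtype]
        intro s hs
        rw [e, Subgroup.mem_normalizer_iff_map_conj_eq, Subgroup.map_commutator,
          Subgroup.mem_normalizer_iff_map_conj_eq.mp (hn hs)]
      haveI hN : ((L.map E.subtype).subgroupOf S).Normal := (Subgroup.normal_subgroupOf_iff_le_normalizer
        ((Subgroup.map_subtype_le L).trans hE.1.1)).mpr hnorm
      have hc' : Nat.card ((L.map E.subtype).subgroupOf S) = p := by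
        rw [Nat.card_congr (Subgroup.subgroupOfEquivOfLe ((Subgroup.map_subtype_le L).trans hE.1.1)).toEquiv,
          Subgroup.card_map_of_injective E.subtype_injective, hL]
      have hle : (L.map E.subtype).subgroupOf S ≤ Subgroup.center S := by
        intro v hv
        refine Subgroup.mem_center_iff.mpr fun s => ?_
        have hj := h.pg s
        obtain ⟨j, hj⟩ := hj
        have hstep := inv_mul_mem_of_step (E := S) (r := MulAut.conj s) (j := j) (by rw [← map_pow, hj, map_one])
          (K := ⊥) (L := (L.map E.subtype).subgroupOf S) (fun w hw => by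
            rw [Subgroup.mem_bot] at hw ⊢; rw [hw, map_one]) (fun w hw => hN.conj_mem w hw s)
          (by rw [Subgroup.relIndex_bot_left, hc']) v hv
        rw [Subgroup.mem_bot, MulAut.conj_apply] at hstep
        exact mul_inv_eq_iff_eq_mul.mp (inv_mul_eq_one.mp hstep).symm
      have heq := Subgroup.eq_of_le_of_card_ge hle (h1.trans hc'.symm).le
      show _ = (Subgroup.center S).map S.subtype
      rw [← heq, Subgroup.map_subgroupOf_eq_of_le ((Subgroup.map_subtype_le L).trans hE.1.1)]
    have hyL : y ∈ L := by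
      rw [← hLS] at hy
      exact (Subgroup.mem_map_iff_mem E.subtype_injective).mp hy
    rw [← hLS]
    refine ⟨α y, ?_, rfl⟩
    rw [← hcomm] at hyL ⊢
    have := (inferInstance : (commutator E).Characteristic).fixed α
    have hm : y ∈ (commutator E).comap α.toMonoidHom := by rw [this]; exact hyL
    exact hm
  · have heq := Subgroup.eq_of_le_of_card_ge (hQc E hE) (hZ.trans (hQcard.trans h2).symm).le
    have hm : α y ∈ Q.subgroupOf E := by
      rw [heq]
      exact Quad.apply_mem_center α (heq.le (Subgroup.mem_subgroupOf.mpr hy))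
    exact Subgroup.mem_subgroupOf.mp hm

end H5

end Cfsg.OrderPFive
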