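import Cfsg.Agent.Lib.Fusion.OrderPFive.FixQuad

/-!
The splitting criterion: an automorphism of `S` commuting with all others on the abelianization, with a fixed part
fixed by all, forces a proper focal subgroup.
-/

set_option autoImplicit false
set_option linter.unusedSectionVars false

open scoped commutatorElement

namespace Cfsg.OrderPFive

open FusionSystem EssentialSmall MaxClassCube

variable {Ω : Type*} [Group Ω] {S : Subgroup Ω} [Finite S] {p : ℕ} [Fact p.Prime] {F : FusionSystem S}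
  {A B : Subgroup S}

local notation "Z" => Subgroup.upperCentralSeries S

/-- All essential subgroups fix every element modulo `M` once the automorphisms of `S` do. -/
theorem H5.autGroup_le_fixMod (h : H5 p F) {M : Subgroup Ω} (hM : ⁅S, S⁆ ≤ M) (hS : F.autGroup S ≤ fixMod M S)
    {E : Subgroup Ω} (hE : F.IsEssential p E) : F.autGroup E ≤ fixMod M E := by
  have hpp : p.Prime := Fact.out
  have hES := hE.1.1
  haveI : Finite E := finite_of_le hES
  obtain ⟨j, hj⟩ := IsPGroup.iff_card.mp (h.pg.to_le hES)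
  have hlt : Nat.card E < p ^ 5 := h.card ▸ card_lt_of_lt (hE.lt h.pg h.sat)
  rw [hj, Nat.pow_lt_pow_iff_right hpp.one_lt] at hlt
  have h1 : ¬ p ^ j ≤ p := hj ▸ MaxClassCube.not_small h.pg h.card (by norm_num) hE
  rcases (show j = 0 ∨ j = 1 ∨ j = 2 ∨ j = 3 ∨ j = 4 by omega) with rfl | rfl | rfl | rfl | rfl
  · exact absurd ((pow_zero p).trans_le hpp.one_lt.le) h1
  · exact absurd (pow_one p).le h1
  · obtain ⟨x, n, hP, -⟩ := exists_pearl h hE (Or.inl hj)
    obtain ⟨-, rfl⟩ := hP.three h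
    refine hP.fix h ?_ hS
    obtain ⟨u, -, -, -, -, -, -, he1, -⟩ := hP.mc.frame
    rintro _ ⟨w, hw, rfl⟩
    have he : ⁅⁅⁅x, u⁆, x⁆, x⁆ ∈ Z 1 := (show ⁅⁅x, u⁆, x⁆ ∈ Z 2 from (hP.mc.comm_mem_three x u) x) x
    obtain ⟨i, rfl⟩ := exists_zpow_eq hP.mc.layers.1 he he1 hw
    rw [map_zpow]
    exact M.zpow_mem (hM (Subgroup.commutator_mem_commutator (⁅⁅x, u⁆, x⁆ : S).2 x.2)) i
  · by_cases hab : ∀ a b : E, a * b = b * a
    · have hC : Cube p F E := ⟨h.pg, h.sat, hE, hj, fun a ha b hb => congrArg Subtype.val (hab ⟨a, ha⟩ ⟨b, hb⟩),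
        fun a ha => congrArg Subtype.val (elementary_cube h.pg h.sat hE hj hab ⟨a, ha⟩)⟩
      exact hC.fix h hM hS
    · obtain ⟨x, n, hP, hcard⟩ := exists_pearl h hE (Or.inr ⟨hj, hab⟩)
      obtain ⟨-, rfl⟩ := hP.three h
      rw [hj] at hcard
      exact absurd (Nat.pow_right_injective hpp.two_le hcard) (by norm_num)
  · exact quad_fix h hE hj hM hS

/-- A subgroup preserved by every automorphism in `F`. -/
def Inv (F : FusionSystem S) (K : Subgroup S) : Prop := ∀ β ∈ F.autGroup S, ∀ v ∈ K, β v ∈ K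

theorem exists_weight (hle : A ≤ B) [A.Normal] (hc : Nat.card B = p * Nat.card A) (hA : Inv F A) (hB : Inv F B)
    {α : MulAut S} (hα : α ∈ F.autGroup S) :
    ∃ a : ℤ, ¬ (p : ℤ) ∣ a ∧ ∀ v ∈ B, (v ^ a)⁻¹ * α v ∈ A := by
  have hpp : p.Prime := Fact.out
  obtain ⟨w, hw, hwA⟩ : ∃ w ∈ B, w ∉ A := by
    by_contra hh
    push Not at hh
    rw [le_antisymm hh hle] at hc
    have := Nat.card_pos (α := A)
    nlinarith [hpp.two_le]
  haveI : (A.subgroupOf B).Normal := Subgroup.normal_subgroupOf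
  have hgen : ∀ v ∈ B, ∃ i : ℤ, (w ^ i)⁻¹ * v ∈ A := fun v hv => by
    obtain ⟨i, hi⟩ := exists_zpow_mem (p := p) (M := A.subgroupOf B) (by
      have h' := Quad.card_mul_relIndex hle
      rw [hc, mul_comm p] at h'
      exact Nat.eq_of_mul_eq_mul_left Nat.card_pos h') (x := (⟨w, hw⟩ : B)) hwA ⟨v, hv⟩
    exact ⟨i, hi⟩
  obtain ⟨a, ha⟩ := hgen _ (hB α hα w hw)
  have hall : ∀ v ∈ B, (v ^ a)⁻¹ * α v ∈ A := by
    intro v hv
    obtain ⟨i, hi⟩ := hgen v hv
    have h1 : (QuotientGroup.mk (α v) : S ⧸ A) = QuotientGroup.mk v ^ a := by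
      have e1 : (QuotientGroup.mk v : S ⧸ A) = QuotientGroup.mk w ^ i := by
        rw [← QuotientGroup.mk_zpow]; exact mk_eq_of_mem hi
      have e2 : (QuotientGroup.mk (α v) : S ⧸ A) = QuotientGroup.mk (α w) ^ i := by
        rw [← QuotientGroup.mk_zpow, ← map_zpow]
        refine mk_eq_of_mem ?_
        rw [← map_inv, ← map_mul]
        exact hA α hα _ hi
      rw [e2, mk_eq_of_mem ha, QuotientGroup.mk_zpow, e1, ← zpow_mul, ← zpow_mul, mul_comm]
    rw [← QuotientGroup.eq, QuotientGroup.mk_zpow]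
    exact h1.symm
  refine ⟨a, fun hdiv => ?_, hall⟩
  have hmap : B.map α.toMonoidHom ≤ A := by
    rintro _ ⟨v, hv, rfl⟩
    obtain ⟨q, rfl⟩ := hdiv
    have h1 := A.mul_mem (A.zpow_mem (pow_p_mem hle hc hv) q) (hall v hv)
    rw [← zpow_natCast, ← zpow_mul, mul_inv_cancel_left] at h1
    exact h1
  have h2 := Subgroup.card_le_of_le hmap
  rw [Subgroup.card_map_of_injective (f := α.toMonoidHom) α.injective, hc] at h2
  have := Nat.card_pos (α := A)
  nlinarith [hpp.two_le]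

/-- Two automorphisms commute on a step of index `p`. -/
theorem step_comm (hle : A ≤ B) [A.Normal] (hc : Nat.card B = p * Nat.card A) (hA : Inv F A) (hB : Inv F B)
    {α β : MulAut S} (hα : α ∈ F.autGroup S) (hβ : β ∈ F.autGroup S) :
    ∀ v ∈ B, v⁻¹ * ((α * β)⁻¹ * (β * α)) v ∈ A := by
  obtain ⟨a, -, ha⟩ := exists_weight hle hc hA hB hα
  obtain ⟨b, -, hb⟩ := exists_weight hle hc hA hB hβ
  intro v hv
  have e : ∀ {γ δ : MulAut S} {c d : ℤ}, γ ∈ F.autGroup S → (∀ v ∈ B, (v ^ c)⁻¹ * γ v ∈ A) →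
      (∀ v ∈ B, (v ^ d)⁻¹ * δ v ∈ A) → (QuotientGroup.mk ((γ * δ) v) : S ⧸ A) = QuotientGroup.mk v ^ (d * c) := by
    intro γ δ c d hγ hc' hd'
    have e1 : (QuotientGroup.mk (γ (v ^ d)) : S ⧸ A) = QuotientGroup.mk v ^ (d * c) := by
      rw [mk_eq_of_mem (hc' _ (B.zpow_mem hv d)), ← zpow_mul, QuotientGroup.mk_zpow]
    rw [← e1, MulAut.mul_apply]
    refine mk_eq_of_mem ?_
    rw [← map_inv, ← map_mul]
    exact hA γ hγ _ (hd' v hv)
  have h1 : ((α * β) v)⁻¹ * (β * α) v ∈ A := by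
    rw [← QuotientGroup.eq, e hα ha hb, e hβ hb ha, mul_comm]
  have hinv := hA _ ((F.autGroup S).inv_mem ((F.autGroup S).mul_mem hα hβ)) _ h1
  rwa [map_mul, map_inv, MulAut.inv_apply_self, ← MulAut.mul_apply] at hinv

/-- At the prime three the square of an automorphism is trivial on a step of index three. -/
theorem step_sq (h3 : p = 3) (hle : A ≤ B) [A.Normal] (hc : Nat.card B = p * Nat.card A) (hA : Inv F A) (hB : Inv F B)
    {α : MulAut S} (hα : α ∈ F.autGroup S) : ∀ v ∈ B, v⁻¹ * (α * α) v ∈ A := by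
  obtain ⟨a, hnd, ha⟩ := exists_weight hle hc hA hB hα
  intro v hv
  obtain ⟨q, hq⟩ : (p : ℤ) ∣ a * a - 1 := by
    subst h3
    have hr : a % 3 = 1 ∨ a % 3 = 2 := by omega
    have := Int.mul_emod a a 3
    rcases hr with hr | hr <;> rw [hr] at this <;> omega
  have e1 : (QuotientGroup.mk (α (v ^ a)) : S ⧸ A) = QuotientGroup.mk v := by
    rw [mk_eq_of_mem (ha _ (B.zpow_mem hv a)), ← zpow_mul, show a * a = 1 + (p : ℤ) * q by omega, zpow_add, zpow_one,
      zpow_mul, zpow_natCast, QuotientGroup.mk_mul, QuotientGroup.mk_zpow,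
      (QuotientGroup.eq_one_iff _).mpr (pow_p_mem hle hc hv), one_zpow, mul_one]
  rw [← QuotientGroup.eq, MulAut.mul_apply, ← e1]
  refine (mk_eq_of_mem ?_).symm
  rw [← map_inv, ← map_mul]
  exact hA α hα _ (ha v hv)

/-- An automorphism trivial on two steps is trivial on their union when the quotient is abelian. -/
theorem fix_of_step (hpg : IsPGroup p S) (hsat : F.IsSaturated p) {γ : MulAut S} (hγ : γ ∈ F.autGroup S)
    {K L : Subgroup S} [K.Normal] (hab : ∀ a b : S, ⁅a, b⁆ ∈ K) (hK : ∀ v ∈ K, γ v ∈ K)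
    (h1 : ∀ y, y⁻¹ * γ y ∈ L) (h2 : ∀ v ∈ L, v⁻¹ * γ v ∈ K) (h3 : ∀ v ∈ L, v ^ p ∈ K) : ∀ y, y⁻¹ * γ y ∈ K := by
  have hpow : ∀ (n : ℕ) (y : S), (QuotientGroup.mk ((γ ^ n) y) : S ⧸ K) =
      QuotientGroup.mk y * QuotientGroup.mk (y⁻¹ * γ y) ^ n := by
    intro n y
    induction n with
    | zero => simp
    | succ n ih =>
      rw [← QuotientGroup.mk_pow, ← QuotientGroup.mk_mul] at ih
      have hk := QuotientGroup.eq.mp ih.symm
      obtain ⟨z, hz, he⟩ : ∃ z ∈ K, (γ ^ n) y = y * (y⁻¹ * γ y) ^ n * z := ⟨_, hk, (mul_inv_cancel_left _ _).symm⟩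
      rw [pow_succ', MulAut.mul_apply, he, map_mul, map_mul, map_pow, QuotientGroup.mk_mul, QuotientGroup.mk_mul,
        QuotientGroup.mk_pow, mk_eq_of_mem (h2 _ (h1 y)), (QuotientGroup.eq_one_iff _).mpr (hK z hz), mul_one,
        pow_succ', ← mul_assoc, ← QuotientGroup.mk_mul K y, mul_inv_cancel_left]
  let H : Subgroup (MulAut S) := fixMod (K.map S.subtype) S
  have hH : ∀ {α : MulAut S}, α ∈ H ↔ ∀ y, y⁻¹ * α y ∈ K := fun {α} =>
    forall_congr' fun y => Subgroup.mem_map_iff_mem (x := y⁻¹ * α y) S.subtype_injective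
  have hp : γ ^ p ∈ H := hH.mpr fun y => by
    rw [← QuotientGroup.eq, hpow, ← QuotientGroup.mk_pow, (QuotientGroup.eq_one_iff _).mpr (h3 _ (h1 y)), mul_one]
  haveI : Finite (MulAut S) := Finite.of_injective (fun α : MulAut S => (α : S → S)) DFunLike.coe_injective
  set n := orderOf γ with hn
  set e := n.factorization p
  have hn0 : n ≠ 0 := (orderOf_pos γ).ne'
  have hm : (n / p ^ e).Coprime p := (Nat.coprime_ordCompl (Fact.out : p.Prime) hn0).symm
  have hγm : (γ ^ (n / p ^ e)) ^ p ^ e = 1 := by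
    rw [← pow_mul, Nat.div_mul_cancel (Nat.ordProj_dvd n p), hn, pow_orderOf_eq_one]
  obtain ⟨s, hs⟩ := hsat.exists_conj_of_pow hpg (pow_mem hγ _) hγm
  have hmH : γ ^ (n / p ^ e) ∈ H := hH.mpr fun y => by
    rw [← hs, MulAut.conj_apply, show y⁻¹ * (s * y * s⁻¹) = ⁅y⁻¹, s⁆ by rw [commutatorElement_def]; group]
    exact hab _ _
  obtain ⟨u, v, huv⟩ : IsCoprime ((n / p ^ e : ℕ) : ℤ) (p : ℤ) := Int.isCoprime_iff_gcd_eq_one.mpr hm
  have := H.mul_mem (H.zpow_mem hmH u) (H.zpow_mem hp v)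
  rw [← zpow_natCast, ← zpow_natCast, ← zpow_mul, ← zpow_mul, ← zpow_add, mul_comm _ u, mul_comm _ v, huv,
    zpow_one] at this
  exact hH.mp this

/-- The criterion. -/
theorem false_of_split (h : H5 p F) {D Y : Subgroup S} [D.Normal] (hcomm : ∀ a b : S, ⁅a, b⁆ ∈ D) (hD : Inv F D)
    (hY : ∀ β ∈ F.autGroup S, ∀ v ∈ Y, v⁻¹ * β v ∈ D) {β₀ : MulAut S} (hβ₀ : β₀ ∈ F.autGroup S)
    (hcommute : ∀ β ∈ F.autGroup S, ∀ y, y⁻¹ * ((β * β₀)⁻¹ * (β₀ * β)) y ∈ D)
    (hsq : ∀ y, y⁻¹ * (β₀ * β₀) y ∈ D) (hfix : ∀ y, y⁻¹ * β₀ y ∈ D → y ∈ Y) {m : S} (hm : m ∈ Y)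
    (hm2 : m * m ∉ D) : False := by
  have hpp : p.Prime := Fact.out
  have cm : ∀ a b : S ⧸ D, a * b = b * a := fun a b => by
    induction a using QuotientGroup.induction_on with
    | H a =>
      induction b using QuotientGroup.induction_on with
      | H b => exact (mk_commute (hcomm a b)).eq
  let N : Subgroup S :=
    { carrier := {y | y * β₀ y ∈ D}
      one_mem' := by simp
      mul_mem' := fun {a b} ha hb => by
        show a * b * β₀ (a * b) ∈ D
        rw [← QuotientGroup.eq_one_iff, map_mul, QuotientGroup.mk_mul, QuotientGroup.mk_mul, QuotientGroup.mk_mul]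
        have ha' : (QuotientGroup.mk a : S ⧸ D) * QuotientGroup.mk (β₀ a) = 1 := by
          rw [← QuotientGroup.mk_mul, QuotientGroup.eq_one_iff]; exact ha
        have hb' : (QuotientGroup.mk b : S ⧸ D) * QuotientGroup.mk (β₀ b) = 1 := by
          rw [← QuotientGroup.mk_mul, QuotientGroup.eq_one_iff]; exact hb
        rw [mul_assoc, ← mul_assoc (QuotientGroup.mk b : S ⧸ D), cm (QuotientGroup.mk b) (QuotientGroup.mk (β₀ a)),
          mul_assoc, ← mul_assoc, ha', one_mul, hb']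
      inv_mem' := fun {a} ha => by
        show a⁻¹ * β₀ a⁻¹ ∈ D
        rw [← QuotientGroup.eq_one_iff, map_inv, QuotientGroup.mk_mul, QuotientGroup.mk_inv, QuotientGroup.mk_inv,
          cm, ← mul_inv_rev, ← QuotientGroup.mk_mul, (QuotientGroup.eq_one_iff _).mpr ha, inv_one] }
  have hDN : D ≤ N := fun v hv => D.mul_mem hv (hD β₀ hβ₀ v hv)
  haveI : N.Normal := ⟨fun v hv y => by
    rw [show y * v * y⁻¹ = ⁅y, v⁆ * v by rw [commutatorElement_def]; group]
    exact N.mul_mem (hDN (hcomm y v)) hv⟩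
  have hmN : m ∉ N := fun hh => hm2 (by
    have h1 := hY β₀ hβ₀ m hm
    have := D.mul_mem hh (D.inv_mem h1)
    have e : m * β₀ m * (m⁻¹ * β₀ m)⁻¹ = m * m := by group
    rwa [e] at this)
  -- the automorphisms commute modulo `D`
  have hcm' : ∀ β ∈ F.autGroup S, ∀ y, (QuotientGroup.mk (β₀ (β y)) : S ⧸ D) = QuotientGroup.mk (β (β₀ y)) := by
    intro β hβ y
    refine mk_eq_of_mem ?_
    have h1 := hD _ ((F.autGroup S).mul_mem hβ hβ₀) _ (hcommute β hβ y)
    rwa [map_mul, map_inv, ← MulAut.mul_apply _ (β * β₀), ← mul_assoc, mul_inv_cancel, one_mul] at h1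
  have hNinv : Inv F N := by
    intro β hβ v hv
    show β v * β₀ (β v) ∈ D
    rw [← QuotientGroup.eq_one_iff, QuotientGroup.mk_mul, hcm' β hβ, ← QuotientGroup.mk_mul, ← map_mul,
      QuotientGroup.eq_one_iff]
    exact hD β hβ _ hv
  have hN : ∀ β ∈ F.autGroup S, ∀ y, y⁻¹ * β y ∈ N := by
    intro β hβ
    let U : Subgroup S :=
      { carrier := {y | y⁻¹ * β y ∈ N}
        one_mem' := by simp
        mul_mem' := fun {a b} ha hb => by
          show (a * b)⁻¹ * β (a * b) ∈ N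
          rw [show (a * b)⁻¹ * β (a * b) = b⁻¹ * (a⁻¹ * β a) * b * (b⁻¹ * β b) by rw [map_mul]; group]
          exact N.mul_mem (by simpa using (inferInstance : N.Normal).conj_mem _ ha b⁻¹) hb
        inv_mem' := fun {a} ha => by
          show a⁻¹⁻¹ * β a⁻¹ ∈ N
          rw [show a⁻¹⁻¹ * β a⁻¹ = a * (a⁻¹ * β a)⁻¹ * a⁻¹ by rw [map_inv]; group]
          exact (inferInstance : N.Normal).conj_mem _ (N.inv_mem ha) a }
    intro y
    show y ∈ U
    have hneg : y⁻¹ * β₀ y ∈ U := by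
      have hn : y⁻¹ * β₀ y ∈ N := by
        show y⁻¹ * β₀ y * β₀ (y⁻¹ * β₀ y) ∈ D
        rw [map_mul, map_inv, show y⁻¹ * β₀ y * ((β₀ y)⁻¹ * β₀ (β₀ y)) = y⁻¹ * (β₀ * β₀) y by
          rw [MulAut.mul_apply]; group]
        exact hsq y
      exact N.mul_mem (N.inv_mem hn) (hNinv β hβ _ hn)
    have hpos : y * β₀ y ∈ U := by
      refine hDN (hY β hβ _ (hfix _ ?_))
      rw [← QuotientGroup.eq, map_mul, QuotientGroup.mk_mul, QuotientGroup.mk_mul,
        ← mk_eq_of_mem (hsq y) |>.trans rfl, MulAut.mul_apply, cm]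
    have h2 : y ^ (2 : ℤ) ∈ U := by
      have hD' : ((y * β₀ y) * (y⁻¹ * β₀ y)⁻¹)⁻¹ * y ^ (2 : ℤ) ∈ U := by
        refine (?_ : D ≤ U) ?_
        · exact fun v hv => hDN (D.mul_mem (D.inv_mem hv) (hD β hβ v hv))
        · rw [← QuotientGroup.eq, zpow_two, mul_inv_rev, inv_inv, QuotientGroup.mk_mul, QuotientGroup.mk_mul,
            QuotientGroup.mk_mul, QuotientGroup.mk_inv, QuotientGroup.mk_mul, mul_assoc, mul_inv_cancel_left]
      have := U.mul_mem (U.mul_mem hpos (U.inv_mem hneg)) hD'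
      rwa [mul_inv_cancel_left] at this
    obtain ⟨j, hj⟩ := h.pg y
    obtain ⟨r, hr⟩ := ((Fact.out : p.Prime).odd_of_ne_two h.odd).pow (n := j)
    have := U.zpow_mem h2 (-(r : ℤ))
    rwa [← zpow_mul, show (2 : ℤ) * -(r : ℤ) = 1 + -(((p ^ j : ℕ)) : ℤ) by rw [hr]; push_cast; ring, zpow_add,
      zpow_one, zpow_neg, zpow_natCast, hj, inv_one, mul_one] at this
  -- the focal subgroup
  set M := N.map S.subtype
  have hM : ⁅S, S⁆ ≤ M := by
    rw [Subgroup.commutator_le]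
    intro a ha b hb
    exact ⟨⁅(⟨a, ha⟩ : S), ⟨b, hb⟩⁆, hDN (hcomm _ _), map_commutatorElement S.subtype _ _⟩
  have hS : F.autGroup S ≤ fixMod M S := fun β hβ y => ⟨_, hN β hβ y, rfl⟩
  have hfoc := focal_le_of_fixMod h.pg h.sat hM hS fun E hE => h.autGroup_le_fixMod hM hS hE
  have htop := hfoc (hyperfocalSubgroup_le_focalSubgroup (p := p) (h.hyper.ge m.2))
  exact hmN ((Subgroup.mem_map_iff_mem S.subtype_injective).mp htop)

end Cfsg.OrderPFive
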