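import Cfsg.Agent.Lib.Fusion.OrderPFive.Split

/-!
An elementary pearl leads to a proper focal subgroup.
-/

set_option autoImplicit false
set_option linter.unusedSectionVars false

open scoped commutatorElement

namespace Cfsg.OrderPFive

open FusionSystem EssentialSmall

variable {Ω : Type*} [Group Ω] {S : Subgroup Ω} [Finite S] {p : ℕ} [Fact p.Prime] {F : FusionSystem S}
  {E : Subgroup Ω} {x : S}

local notation "Z" => Subgroup.upperCentralSeries S

theorem Pearl.elim (h : H5 p F) (hP : Pearl p F E x 0) : False := by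
  have hpp : p.Prime := Fact.out
  obtain ⟨h3, -⟩ := hP.three h
  have h2ne : ¬ (p : ℤ) ∣ 2 := fun hd => h.odd ((Nat.prime_dvd_prime_iff_eq hpp Nat.prime_two).mp (by exact_mod_cast hd))
  have hpI : Prime (p : ℤ) := Nat.prime_iff_prime_int.mp hpp
  haveI := MC.gam_normal (G := S)
  obtain ⟨hgc, hxg⟩ := hP.mc.gam_card
  obtain ⟨c1, -, c3, -, -, -⟩ := hP.mc.layers
  obtain ⟨u, hu, hu3, hg3, -, -, -, -, -, -, -, -⟩ := hP.mc.frame
  have hgc' : Nat.card (gam S) = p * Nat.card (Z 3) := by rw [hgc, c3]; ring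
  have hSc : Nat.card (⊤ : Subgroup S) = p * Nat.card (gam S) := by rw [Subgroup.card_top, h.card, hgc]; ring
  have hZi : Inv F (Z 3) := fun β _ v hv => (mem_char β).mpr hv
  have hGi : Inv F (gam S) := fun β _ v hv => gam_invariant β hv
  have hTi : Inv F (⊤ : Subgroup S) := fun _ _ _ _ => trivial
  have hchain : ∀ γ ∈ F.autGroup S, (∀ y, y⁻¹ * γ y ∈ gam S) → (∀ v ∈ gam S, v⁻¹ * γ v ∈ Z 3) →
      ∀ y, y⁻¹ * γ y ∈ Z 3 := fun γ hγ a1 a2 => fix_of_step h.pg h.sat hγ hP.mc.comm_mem_three (hZi γ hγ) a1 a2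
    fun v hv => pow_p_mem hg3 hgc' hv
  -- the negating automorphism
  obtain ⟨k, l, hk, -, hl, htor⟩ := hP.exists_torus h
  obtain ⟨τ, -, ⟨β₀, hβ₀, hb⟩, -, hl2⟩ := htor (-1) (-1) (by norm_num)
  have hτl : τ l = l⁻¹ := by
    have h0 : (l ^ (-1 : ℤ))⁻¹ * τ l = 1 := by
      rw [mem_pull' hP.le] at hl2
      exact Subtype.ext (congrArg Subtype.val (Subgroup.mem_bot.mp hl2) :)
    rw [← inv_mul_eq_one.mp h0, zpow_neg_one]
  set ls : S := ⟨(l : Ω), hP.le l.2⟩ with hls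
  have hbl : β₀ ls = ls⁻¹ := Subtype.ext (by rw [hb ls l.2]; show ((τ l : E) : Ω) = _; rw [hτl]; rfl)
  have hls1 : ls ∉ Z 1 := fun hh => hl ((mem_pull' hP.le).mpr hh)
  have hlsx : ⁅ls, x⁆ ∈ Z 0 := hP.mem_E.mp l.2
  have hlsg : ls ∉ gam S := fun hh => hxg (by
    have hle : Z 1 ≤ cenMod (Z 0) x ⊓ gam S := le_inf (le_cenMod_of_step (K := Z 0) x)
      ((MC.Z_mono.trans MC.Z_mono).trans hg3)
    have hlt : Z 1 < cenMod (Z 0) x ⊓ gam S := lt_of_le_of_ne hle fun e => hls1 (e.ge ⟨hlsx, hh⟩)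
    have hb' := Quad.lt_card_mul h.pg hlt
    rw [c1, ← pow_two] at hb'
    exact ((Subgroup.eq_of_le_of_card_ge inf_le_left (hP.cards.2.2.trans_le hb')).ge self_mem_cenMod).2)
  obtain ⟨i, hi⟩ := exists_zpow_mem hP.mc.gam_index hxg ls
  obtain ⟨a, b, -, -, hax, -, -, -⟩ := hP.mc.weights β₀
  have e1 : (QuotientGroup.mk ls : S ⧸ gam S) = QuotientGroup.mk x ^ i := by
    rw [← QuotientGroup.mk_zpow]; exact mk_eq_of_mem hi
  have e2 : ∀ (j : ℤ) (v : S), (x ^ j)⁻¹ * v ∈ gam S →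
      (QuotientGroup.mk (β₀ v) : S ⧸ gam S) = QuotientGroup.mk x ^ (a * j) := by
    intro j v hv
    rw [zpow_mul, ← QuotientGroup.mk_zpow, ← mk_eq_of_mem hax, ← QuotientGroup.mk_zpow, ← map_zpow]
    refine mk_eq_of_mem ?_
    rw [← map_inv, ← map_mul]
    exact gam_invariant β₀ hv
  have hkey : ∀ m : ℤ, x ^ m ∈ gam S → (p : ℤ) ∣ m := fun m hm =>
    dvd_of_zpow_mem (K := gam S) (L := ⊤) le_top hSc trivial hxg hm
  have hxp : ∀ q : ℤ, x ^ ((p : ℤ) * q) ∈ gam S := fun q => by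
    rw [zpow_mul, zpow_natCast]; exact (gam S).zpow_mem (pow_p_mem le_top hSc trivial) q
  have ha : (p : ℤ) ∣ a + 1 := by
    have h1 := hkey (a * i + i) (by
      rw [← QuotientGroup.eq_one_iff, QuotientGroup.mk_zpow, zpow_add, ← e2 i ls hi, hbl, QuotientGroup.mk_inv, e1,
        inv_mul_cancel])
    rw [show a * i + i = (a + 1) * i by ring] at h1
    refine (hpI.dvd_or_dvd h1).resolve_right fun hdiv => hlsg ?_
    obtain ⟨q, rfl⟩ := hdiv
    have := (gam S).mul_mem (hxp q) hi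
    rwa [mul_inv_cancel_left] at this
  have hu2 : u * u ∉ Z 3 := fun hh => hu3 (by
    obtain ⟨r, hr⟩ := hpp.odd_of_ne_two h.odd
    have := (Z 3).mul_mem (pow_p_mem hg3 hgc' hu) ((Z 3).inv_mem ((Z 3).pow_mem hh r))
    rwa [← pow_two, ← pow_mul, hr, pow_succ', mul_inv_cancel_right] at this)
  refine false_of_split h (D := Z 3) (Y := gam S) hP.mc.comm_mem_three hZi ?_ hβ₀ ?_ ?_ ?_ hu hu2
  · intro β _ v hv
    obtain ⟨a', b', hnd, hba, -, hgv, -, -⟩ := hP.mc.weights β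
    obtain ⟨q, hq⟩ : (p : ℤ) ∣ b' - 1 := by
      obtain ⟨q, hq⟩ := hba
      subst h3
      have hr : a' % 3 = 1 ∨ a' % 3 = 2 := by omega
      have := Int.mul_emod a' a' 3
      rcases hr with hr | hr <;> rw [hr] at this <;> omega
    have h1 := (Z 3).mul_mem ((Z 3).zpow_mem (pow_p_mem hg3 hgc' hv) q) (hgv v hv)
    rw [← zpow_natCast, ← zpow_mul, show (p : ℤ) * q = b' + -1 by omega, zpow_add, zpow_neg_one] at h1
    rw [show v⁻¹ * β v = v⁻¹ * (v ^ b' * ((v ^ b')⁻¹ * β v)) by group]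
    convert h1 using 1
    group
  · intro β hβ
    have hγ : (β * β₀)⁻¹ * (β₀ * β) ∈ F.autGroup S :=
      (F.autGroup S).mul_mem ((F.autGroup S).inv_mem ((F.autGroup S).mul_mem hβ hβ₀)) ((F.autGroup S).mul_mem hβ₀ hβ)
    exact hchain _ hγ (fun y => step_comm le_top hSc hGi hTi hβ hβ₀ y trivial) (step_comm hg3 hgc' hZi hGi hβ hβ₀)
  · exact hchain _ ((F.autGroup S).mul_mem hβ₀ hβ₀) (fun y => step_sq h3 le_top hSc hGi hTi hβ₀ y trivial)
      (step_sq h3 hg3 hgc' hZi hGi hβ₀)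
  · intro y hy
    obtain ⟨j, hj⟩ := exists_zpow_mem hP.mc.gam_index hxg y
    have h1 := hkey (a * j - j) (by
      rw [← QuotientGroup.eq_one_iff, QuotientGroup.mk_zpow, zpow_sub, ← e2 j y hj, mk_eq_of_mem (hg3 hy),
        mk_eq_of_mem hj, QuotientGroup.mk_zpow, mul_inv_cancel])
    obtain ⟨q, hq⟩ := ha
    have h2j : (p : ℤ) ∣ 2 * j := by
      obtain ⟨r, hr⟩ := h1
      exact ⟨q * j - r, by linear_combination j * hq - hr⟩
    obtain ⟨r, rfl⟩ := (hpI.dvd_or_dvd h2j).resolve_left h2ne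
    have := (gam S).mul_mem (hxp r) hj
    rwa [mul_inv_cancel_left] at this

end Cfsg.OrderPFive
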