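import Cfsg.Agent.Lib.Fusion.OrderPFive.Setup

/-!
Climbing the normalizer tower above an essential subgroup of the pearl kind.
-/

set_option autoImplicit false
set_option linter.unusedSectionVars false

open scoped commutatorElement

namespace Cfsg.OrderPFive

open FusionSystem EssentialSmall

variable {Ω : Type*} [Group Ω] {S : Subgroup Ω} [Finite S] {p : ℕ} [Fact p.Prime] {F : FusionSystem S}

local notation "Z" => Subgroup.upperCentralSeries S

/-- A subgroup of `S`, read inside `P`. -/
def pull (K : Subgroup S) (P : Subgroup Ω) : Subgroup P := (K.map S.subtype).subgroupOf P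

theorem mem_pull {K : Subgroup S} {P : Subgroup Ω} {v : P} :
    v ∈ pull K P ↔ ∃ hv : (v : Ω) ∈ S, (⟨v, hv⟩ : S) ∈ K := by
  rw [pull, Subgroup.mem_subgroupOf]
  constructor
  · rintro ⟨s, hs, e⟩
    have e' : (s : Ω) = v := e
    obtain ⟨v, hvP⟩ := v
    subst e'
    exact ⟨s.2, hs⟩
  · rintro ⟨hv, hm⟩
    exact ⟨_, hm, rfl⟩

theorem mem_pull' {K : Subgroup S} {P : Subgroup Ω} (hP : P ≤ S) {v : P} :
    v ∈ pull K P ↔ (⟨v, hP v.2⟩ : S) ∈ K :=
  mem_pull.trans ⟨fun ⟨_, h⟩ => h, fun h => ⟨_, h⟩⟩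

theorem pull_invariant {K : Subgroup S} [K.Normal] {P : Subgroup Ω} (hP : P ≤ S) {r : MulAut P}
    (hr : r ∈ autInducedBy S P) {v : P} (hv : v ∈ pull K P) : r v ∈ pull K P := by
  obtain ⟨g, hg, -, he⟩ := mem_autInducedBy_iff.mp hr
  rw [mem_pull' hP] at hv ⊢
  have := (inferInstance : K.Normal).conj_mem _ hv ⟨g, hg⟩
  convert this using 1
  exact Subtype.ext (he v)

theorem card_pull {K : Subgroup S} {P : Subgroup Ω} (h : K.map S.subtype ≤ P) :
    Nat.card (pull K P) = Nat.card K :=
  (Nat.card_congr (Subgroup.subgroupOfEquivOfLe h).toEquiv).trans (Subgroup.card_map_of_injective S.subtype_injective)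

theorem pull_mono {K L : Subgroup S} (h : K ≤ L) (P : Subgroup Ω) : pull K P ≤ pull L P :=
  fun _ hv => Subgroup.map_mono h hv

theorem relIndex_dvd {P : Subgroup Ω} [Finite P] {A B : Subgroup P} (h : A ≤ B) (hc : Nat.card B = p * Nat.card A) :
    A.relIndex B ∣ p := by
  have := Quad.card_mul_relIndex h
  rw [hc, mul_comm p] at this
  rw [Nat.eq_of_mul_eq_mul_left Nat.card_pos this]

theorem map_le_of {K L : Subgroup S} {P : Subgroup Ω} (h : K ≤ L) (hP : L.map S.subtype = P) :
    K.map S.subtype ≤ P := hP ▸ Subgroup.map_mono h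

variable {x : S}

/-- The second step of the tower. -/
abbrev TFour (x : S) : Subgroup Ω := (cenMod (Z 2) x).map S.subtype

/-- The first step of the tower. -/
abbrev TThree (x : S) : Subgroup Ω := (cenMod (Z 1) x).map S.subtype

theorem four_le : TFour x ≤ S := Subgroup.map_subtype_le _

theorem three_le : TThree x ≤ S := Subgroup.map_subtype_le _

theorem coe_mem_four {v : Ω} (hv : v ∈ TFour x) : ⁅(⟨v, four_le hv⟩ : S), x⁆ ∈ Z 2 := by
  obtain ⟨s, hs, e⟩ := hv
  have e' : (s : Ω) = v := e
  subst e'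
  exact hs

theorem normal_four (hpg : IsPGroup p S) (hM : MC p S x) : S ≤ Subgroup.normalizer (TFour x : Set Ω) := by
  have hi : (cenMod (Z 2) x).index = p := by
    have := (cenMod (Z 2) x).card_mul_index
    rw [hM.layers.2.2.2.2.2, hM.card, pow_succ p 4] at this
    exact Nat.eq_of_mul_eq_mul_left (pow_pos (Fact.out : p.Prime).pos 4) this
  have e : (TFour x).subgroupOf S = cenMod (Z 2) x := by
    ext v
    exact Subgroup.mem_map_iff_mem S.subtype_injective
  have hn : ((TFour x).subgroupOf S).Normal := by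
    rw [e]
    exact CfsgLib.CyclicMax.normal_of_index_prime hpg hi
  exact (Subgroup.normal_subgroupOf_iff_le_normalizer four_le).mp hn

theorem card_map (K : Subgroup S) : Nat.card (K.map S.subtype) = Nat.card K :=
  Subgroup.card_map_of_injective S.subtype_injective

/-- An automorphism of the second step preserving two layers extends to `S`. -/
theorem up_four (hS : IsPGroup p S) (hF : F.IsSaturated p) (hM : MC p S x) {σ : MulAut (TFour x)}
    (hσ : σ ∈ F.autGroup (TFour x)) (h1 : ∀ v ∈ pull (Z 1) (TFour x), σ v ∈ pull (Z 1) (TFour x))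
    (h2 : ∀ v ∈ pull (Z 2) (TFour x), σ v ∈ pull (Z 2) (TFour x)) : Ext F σ := by
  obtain ⟨c1, c2, c3, -, -, c5⟩ := hM.layers
  obtain ⟨u, hu, hu3, hg3, hT, -⟩ := hM.frame
  haveI := finite_of_le (four_le (x := x))
  have e3 : gam S ⊓ cenMod (Z 2) x = Z 3 := by
    refine (Subgroup.eq_of_le_of_card_ge (le_inf hg3 hT) ?_).symm
    rw [c3]
    have hlt : gam S ⊓ cenMod (Z 2) x < cenMod (Z 2) x := lt_of_le_of_ne inf_le_right fun e =>
      hM.gam_card.2 (e.ge self_mem_cenMod).1
    have hb := Quad.lt_card_mul hS hlt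
    rw [c5, pow_succ] at hb
    exact Nat.le_of_mul_le_mul_right hb (Fact.out : p.Prime).pos
  have h3 : ∀ v ∈ pull (Z 3) (TFour x), σ v ∈ pull (Z 3) (TFour x) := by
    intro v hv
    rw [mem_pull' four_le] at hv ⊢
    refine e3.le ⟨?_, coe_mem_four (σ v).2⟩
    refine Subgroup.mem_centralizer_iff.mpr ?_
    intro w hw
    have hw4 : (w : Ω) ∈ TFour x := ⟨w, hT (MC.Z_mono hw), rfl⟩
    have hwp : (⟨w, hw4⟩ : TFour x) ∈ pull (Z 2) (TFour x) := (mem_pull' four_le).mpr hw
    have himg : (pull (Z 2) (TFour x)).map σ.toMonoidHom = pull (Z 2) (TFour x) := by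
      refine Subgroup.eq_of_le_of_card_ge ?_
        (le_of_eq (Nat.card_congr ((pull (Z 2) (TFour x)).equivMapOfInjective _ σ.injective).toEquiv))
      rintro _ ⟨y, hy, rfl⟩
      exact h2 y hy
    obtain ⟨w', hw', e⟩ := himg.ge hwp
    have hq := Subgroup.mem_centralizer_iff.mp (e3.ge hv).1 _ ((mem_pull' four_le).mp hw')
    have hc : w' * v = v * w' := Subtype.ext (congrArg (fun y : S => (y : Ω)) hq :)
    have hc' := congrArg σ hc
    rw [map_mul, map_mul, show σ w' = ⟨w, hw4⟩ from e] at hc'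
    exact Subtype.ext (congrArg (fun y : TFour x => (y : Ω)) hc')
  refine ext_of_normal hS hF four_le (normal_four hS hM) hσ (conj_mem_of_series hS hF
    (isFullyNormalized_of_le four_le (normal_four hS hM)) (m := 4)
    ![⊥, pull (Z 1) (TFour x), pull (Z 2) (TFour x), pull (Z 3) (TFour x), ⊤] rfl rfl ?_ ?_ hσ ?_)
  · have a3 : (Z 3).map S.subtype ≤ TFour x := Subgroup.map_mono hT
    have a2 : (Z 2).map S.subtype ≤ TFour x := (Subgroup.map_mono MC.Z_mono).trans a3
    have a1 : (Z 1).map S.subtype ≤ TFour x := (Subgroup.map_mono MC.Z_mono).trans a2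
    intro i
    fin_cases i
    · show (⊥ : Subgroup _).relIndex (pull (Z 1) (TFour x)) ∣ p
      rw [Subgroup.relIndex_bot_left, card_pull a1, c1]
    · exact relIndex_dvd (pull_mono MC.Z_mono _) (show Nat.card (pull (Z 2) (TFour x)) = p * Nat.card (pull (Z 1) (TFour x)) by rw [card_pull a2, card_pull a1, c1, c2, pow_two])
    · exact relIndex_dvd (pull_mono MC.Z_mono _) (show Nat.card (pull (Z 3) (TFour x)) = p * Nat.card (pull (Z 2) (TFour x)) by rw [card_pull a3, card_pull a2, c2, c3]; ring)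
    · refine relIndex_dvd (A := pull (Z 3) (TFour x)) (B := ⊤) le_top ?_
      rw [Subgroup.card_top, card_map, c5, card_pull a3, c3]
      ring
  · intro r hr i v hv
    fin_cases i
    · rw [show v = 1 from hv, map_one]; exact Subgroup.one_mem _
    · exact pull_invariant four_le hr hv
    · exact pull_invariant four_le hr hv
    · exact pull_invariant four_le hr hv
    · trivial
  · intro i v hv
    fin_cases i
    · rw [show v = 1 from hv, map_one]; exact Subgroup.one_mem _
    · exact h1 v hv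
    · exact h2 v hv
    · exact h3 v hv
    · trivial

theorem three_le_four : TThree x ≤ TFour x := Subgroup.map_mono (cenMod_mono (K := Z 1) (L := Z 2) (MC.Z_mono (i := 1)) x)

theorem normalizer_three (hS : IsPGroup p S) (hM : MC p S x) : normalizerIn S (TThree x) = TFour x := by
  obtain ⟨c1, c2, c3, hx3, c4, c5⟩ := hM.layers
  have hzl : Z 2 ≤ cenMod (Z 1) x := le_cenMod_of_step (K := Z 1) x
  refine le_antisymm ?_ ?_
  · intro g hg
    refine ⟨⟨g, hg.1⟩, ?_, rfl⟩
    rw [SetLike.mem_coe, mem_cenMod]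
    obtain ⟨j, hj⟩ := hS ⟨g, hg.1⟩
    have hidx : (Z 2).relIndex (cenMod (Z 1) x) ∣ p := by
      have := Quad.card_mul_relIndex hzl
      rw [c2, c4, pow_succ p 2] at this
      rw [Nat.eq_of_mul_eq_mul_left (pow_pos (Fact.out : p.Prime).pos 2) this]
    have hstep := inv_mul_mem_of_step (E := S) (r := MulAut.conj (⟨g, hg.1⟩ : S)) (j := j)
      (by rw [← map_pow, hj, map_one]) (K := Z 2) (L := cenMod (Z 1) x)
      (fun w hw => (inferInstance : (Z 2).Normal).conj_mem w hw _) (fun w hw => by
        have hm : g * (w : Ω) * g⁻¹ ∈ TThree x := (Subgroup.mem_normalizer_iff.mp hg.2 _).mp ⟨w, hw, rfl⟩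
        exact (Subgroup.mem_map_iff_mem S.subtype_injective).mp hm) hidx x self_mem_cenMod
    have := (inferInstance : (Z 2).Normal).conj_mem _ hstep x
    convert this using 1
    simp only [MulAut.conj_apply, commutatorElement_def]; group
  · rintro _ ⟨s, hs, rfl⟩
    refine ⟨s.2, ?_⟩
    show (s : Ω) ∈ Subgroup.normalizer (TThree x : Set Ω)
    have hself : ∀ w : S, w ∈ cenMod (Z 1) x → ⁅s, w⁆ ∈ Z 2 := by
      have hle : cenMod (Z 1) x ≤ cenMod (Z 2) s := by
        have hx : x ∈ cenMod (Z 2) s := by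
          rw [mem_cenMod, ← commutatorElement_inv]; exact (Z 2).inv_mem hs
        have hlt : Z 2 < cenMod (Z 1) x ⊓ cenMod (Z 2) s := lt_of_le_of_ne
          (le_inf hzl fun w hw => by
            rw [mem_cenMod]
            exact MC.Z_mono (hw s)) fun e => hM.x_not_mem (e.ge ⟨self_mem_cenMod, hx⟩)
        have hb := Quad.lt_card_mul hS hlt
        rw [c2, ← pow_succ] at hb
        exact (Subgroup.eq_of_le_of_card_ge inf_le_left (c4.trans_le hb)).ge.trans inf_le_right
      intro w hw
      rw [← commutatorElement_inv]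
      exact (Z 2).inv_mem (hle hw)
    rw [Subgroup.mem_normalizer_iff]
    have key : ∀ t : S, (∀ w : S, w ∈ cenMod (Z 1) x → ⁅t, w⁆ ∈ Z 2) → ∀ y ∈ TThree x,
        (t : Ω) * y * (t : Ω)⁻¹ ∈ TThree x := by
      rintro t ht _ ⟨w, hw, rfl⟩
      refine ⟨t * w * t⁻¹, ?_, rfl⟩
      rw [SetLike.mem_coe, show t * w * t⁻¹ = ⁅t, w⁆ * w by rw [commutatorElement_def]; group]
      exact Subgroup.mul_mem _ (hzl (ht w hw)) hw
    intro y
    refine ⟨key s hself y, fun hy => ?_⟩
    have h2 := key s⁻¹ (fun w hw => by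
      have := (inferInstance : (Z 2).Normal).conj_mem _ ((Z 2).inv_mem (hself w hw)) s⁻¹
      convert this using 1
      simp only [commutatorElement_def]; group) _ hy
    simpa [mul_assoc] using h2

/-- An automorphism of the first step preserving two layers extends to `S`. -/
theorem up_three (hS : IsPGroup p S) (hF : F.IsSaturated p) (hM : MC p S x) (hn : F.IsFullyNormalized (TThree x))
    {σ : MulAut (TThree x)} (hσ : σ ∈ F.autGroup (TThree x))
    (h1 : ∀ v ∈ pull (Z 1) (TThree x), σ v ∈ pull (Z 1) (TThree x))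
    (h2 : ∀ v ∈ pull (Z 2) (TThree x), σ v ∈ pull (Z 2) (TThree x)) : Ext F σ := by
  obtain ⟨c1, c2, c3, hx3, c4, c5⟩ := hM.layers
  have a2 : (Z 2).map S.subtype ≤ TThree x := Subgroup.map_mono (le_cenMod_of_step (K := Z 1) x)
  have a1 : (Z 1).map S.subtype ≤ TThree x := (Subgroup.map_mono MC.Z_mono).trans a2
  haveI := finite_of_le (three_le (x := x))
  have hR := conj_mem_of_series hS hF hn (m := 3)
    ![⊥, pull (Z 1) (TThree x), pull (Z 2) (TThree x), ⊤] rfl rfl ?_ ?_ hσ ?_
  · obtain ⟨σ', hσ', he⟩ := exists_extend hS hF hn (normalizer_three hS hM) hσ hR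
    have b2 : (Z 2).map S.subtype ≤ TFour x := a2.trans three_le_four
    have hres : ∀ {K : Subgroup S}, K.map S.subtype ≤ TThree x →
        (∀ v ∈ pull K (TThree x), σ v ∈ pull K (TThree x)) → ∀ v ∈ pull K (TFour x), σ' v ∈ pull K (TFour x) := by
      intro K hK hKi v hv
      have hv3 : (v : Ω) ∈ TThree x := hK (Subgroup.mem_subgroupOf.mp hv)
      have := hKi ⟨v, hv3⟩ (Subgroup.mem_subgroupOf.mpr (Subgroup.mem_subgroupOf.mp hv))
      rw [pull, Subgroup.mem_subgroupOf] at this ⊢
      rw [← he ⟨v, hv3⟩ v.2] at this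
      exact this
    exact (up_four hS hF hM hσ' (hres a1 h1) (hres a2 h2)).trans three_le_four he
  · intro i
    fin_cases i
    · show (⊥ : Subgroup _).relIndex (pull (Z 1) (TThree x)) ∣ p
      rw [Subgroup.relIndex_bot_left, card_pull a1, c1]
    · exact relIndex_dvd (pull_mono MC.Z_mono _) (show Nat.card (pull (Z 2) (TThree x)) = p * Nat.card (pull (Z 1) (TThree x)) by rw [card_pull a2, card_pull a1, c1, c2, pow_two])
    · refine relIndex_dvd (A := pull (Z 2) (TThree x)) (B := ⊤) le_top ?_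
      rw [Subgroup.card_top, card_map, c4, card_pull a2, c2]
      ring
  · intro r hr i v hv
    fin_cases i
    · rw [show v = 1 from hv, map_one]; exact Subgroup.one_mem _
    · exact pull_invariant three_le hr hv
    · exact pull_invariant three_le hr hv
    · trivial
  · intro i v hv
    fin_cases i
    · rw [show v = 1 from hv, map_one]; exact Subgroup.one_mem _
    · exact h1 v hv
    · exact h2 v hv
    · trivial

end Cfsg.OrderPFive
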